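import Mathlib
import Cfsg.Agent.S0058
import Cfsg.Agent.FastGrp
import Cfsg.Agent.Prune
set_option linter.all false

section
prune_inst 0x7f00000000000000000000000000000000000000000000000000000000000000000000000000000000000000000000000000000000000000000000000000000000000000000000000000000000000000003fffffffffffffffffffffffffffbeffbdffffffff

-- part: H277/Cop
section
set_option linter.all false
open scoped Cfsg.Agent.FastGrp

/-!
# Coprime automorphisms and Sylow subgroups

`α` an automorphism of prime order `r` of the finite group `K`, `r` prime to `|K|`.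

* `exists_conj` : `α`-invariant Sylow subgroups are conjugate under `C_K(α)`;
* `exists_ge` : `α`-invariant `p`-subgroups lie in `α`-invariant Sylow subgroups;
* `fix_of_cent` : if `α` is trivial on `C_K(τ)`, then it is trivial on the `α`-invariant `p`-subgroups containing `τ`;
* `fix_pgroup` : if `α` is trivial on `C_K(τ)`, `τ ≠ 1` a `p`-element, then `α` is trivial on all the `α`-invariant
  `p`-subgroups.
-/

set_option autoImplicit false

open scoped Pointwise

namespace Cfsg.Agent.H277.Cop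

variable {K : Type*} [Group K] [Finite K] {α : MulAut K} {r : ℕ} [hr : Fact r.Prime]

theorem exists_fixed {X : Type*} [Finite X] {σ : Equiv.Perm X} (hσ : σ ^ r = 1) (h : ¬ r ∣ Nat.card X) :
    ∃ x, σ x = x := by
  classical
  have := Fintype.ofFinite X
  rw [Nat.card_eq_fintype_card] at h
  exact Equiv.Perm.exists_fixed_point_of_prime (n := 1) h (by rw [pow_one]; exact hσ)

omit [Finite K] hr in
theorem smul_smul' (g : K) {p : ℕ} (S : Sylow p K) : α • (g • S) = (α g) • (α • S) := by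
  rw [Sylow.smul_def, Sylow.smul_def, ← mul_smul]
  have : α * MulAut.conj g = MulAut.conj (α g) * α := by
    ext x
    simp only [MulAut.mul_apply, MulAut.conj_apply, map_mul, map_inv]
  rw [this, mul_smul]

/-- `α`-invariant Sylow subgroups are conjugate under `C_K(α)`. -/
theorem exists_conj (hα : α ^ r = 1) (hcop : ¬ r ∣ Nat.card K) {p : ℕ} [Fact p.Prime] {P Q : Sylow p K}
    (hP : α • P = P) (hQ : α • Q = Q) : ∃ g : K, α g = g ∧ g • P = Q := by
  obtain ⟨g₀, hg₀⟩ := MulAction.exists_smul_eq K P Q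
  let X := {g : K // g • P = Q}
  have hX : Nat.card X = Nat.card ↥(MulAction.stabilizer K P) := by
    refine Nat.card_congr
      { toFun := fun g => ⟨g₀⁻¹ * g, ?_⟩
        invFun := fun g => ⟨g₀ * g, ?_⟩
        left_inv := fun g => Subtype.ext (mul_inv_cancel_left _ _)
        right_inv := fun g => Subtype.ext (inv_mul_cancel_left _ _) }
    · rw [MulAction.mem_stabilizer_iff, mul_smul, g.2, ← hg₀, inv_smul_smul]
    · rw [mul_smul, MulAction.mem_stabilizer_iff.1 g.2, hg₀]
  have hst : ∀ (n : ℕ) (g : K), g • P = Q → ((α ^ n) g) • P = Q := by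
    intro n
    induction n with
    | zero => intro g hg; exact hg
    | succ n ih =>
      intro g hg
      rw [pow_succ', MulAut.mul_apply]
      have h1 := smul_smul' (α := α) ((α ^ n) g) P
      rw [ih g hg, hQ, hP] at h1
      exact h1.symm
  let σ : Equiv.Perm X :=
    { toFun := fun g => ⟨α g, by have := hst 1 g g.2; rwa [pow_one] at this⟩
      invFun := fun g => ⟨(α ^ (r - 1)) g, hst _ g g.2⟩
      left_inv := fun g => Subtype.ext (by
        show (α ^ (r - 1)) (α g) = g
        rw [← MulAut.mul_apply, ← pow_succ, Nat.sub_add_cancel hr.out.one_le, hα]; rfl)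
      right_inv := fun g => Subtype.ext (by
        show α ((α ^ (r - 1)) g) = g
        rw [← MulAut.mul_apply, ← pow_succ', Nat.sub_add_cancel hr.out.one_le, hα]; rfl) }
  have hσn : ∀ (n : ℕ) (g : X), ((σ ^ n) g : K) = (α ^ n) g := by
    intro n
    induction n with
    | zero => intro g; rfl
    | succ n ih =>
      intro g
      rw [pow_succ', Equiv.Perm.mul_apply, pow_succ', MulAut.mul_apply, ← ih]
      rfl
  have hσ : σ ^ r = 1 := by
    ext g
    rw [hσn, hα]
    rfl
  have hdvd : ¬ r ∣ Nat.card X := by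
    rw [hX]
    exact fun h => hcop (h.trans (Subgroup.card_subgroup_dvd_card _))
  obtain ⟨g, hg⟩ := exists_fixed hσ hdvd
  exact ⟨g, congrArg Subtype.val hg, g.2⟩

/-- an `α`-invariant Sylow subgroup -/
theorem exists_inv (hα : α ^ r = 1) (hcop : ¬ r ∣ Nat.card K) (p : ℕ) [Fact p.Prime] : ∃ P : Sylow p K, α • P = P := by
  have hσ : (MulAction.toPerm α : Equiv.Perm (Sylow p K)) ^ r = 1 := by
    have h1 : (MulAction.toPermHom (MulAut K) (Sylow p K)) α ^ r = 1 := by rw [← map_pow, hα, map_one]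
    exact h1
  obtain ⟨P, hP⟩ := exists_fixed (r := r) hσ (by
    obtain ⟨P⟩ : Nonempty (Sylow p K) := inferInstance
    rw [Sylow.card_eq_index_normalizer P]
    exact fun h => hcop (h.trans (Subgroup.index_dvd_card _)))
  exact ⟨P, hP⟩

omit [Finite K] hr in
theorem smul_eq_iff {p : ℕ} {P : Sylow p K} : α • P = P ↔ α • (P : Subgroup K) = P := by
  constructor
  · intro h
    exact congrArg (fun P : Sylow p K => (P : Subgroup K)) h
  · intro h
    exact Sylow.ext h

omit [Finite K] hr in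
theorem mem_of_smul {Q : Subgroup K} (hQ : α • Q = Q) {x : K} (hx : x ∈ Q) : α x ∈ Q := by
  rw [← hQ]
  exact Subgroup.smul_mem_pointwise_smul _ _ _ hx

omit hr in
theorem smul_of_mem {Q : Subgroup K} (hQ : ∀ x ∈ Q, α x ∈ Q) : α • Q = Q := by
  have h1 : α • Q ≤ Q := by
    rintro _ ⟨x, hx, rfl⟩
    exact hQ x hx
  exact Subgroup.eq_of_le_of_card_ge h1 (by rw [Nat.card_congr (Subgroup.equivSMul α Q).toEquiv.symm])

/-- `α`-invariant `p`-subgroups lie in `α`-invariant Sylow subgroups. -/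
theorem exists_ge (hα : α ^ r = 1) (hcop : ¬ r ∣ Nat.card K) {p : ℕ} [hp : Fact p.Prime] {Q : Subgroup K}
    (hQ : IsPGroup p Q) (hQα : α • Q = Q) : ∃ P : Sylow p K, α • P = P ∧ Q ≤ P := by
  classical
  obtain ⟨R, hR, hmax⟩ := Set.Finite.exists_maximal
    (s := {R : Subgroup K | IsPGroup p R ∧ α • R = R ∧ Q ≤ R}) (Set.toFinite _) ⟨Q, hQ, hQα, le_rfl⟩
  obtain ⟨hRp, hRα, hQR⟩ := hR
  set N := Subgroup.normalizer (R : Set K) with hN
  have hNα : ∀ x ∈ N, α x ∈ N := by
    intro x hx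
    rw [hN, Subgroup.mem_normalizer_iff] at hx ⊢
    intro y
    have h1 : ∀ z, z ∈ R ↔ α z ∈ R := by
      intro z
      refine ⟨mem_of_smul hRα, fun hz => ?_⟩
      have h2 : α⁻¹ • R = R := by rw [inv_smul_eq_iff, hRα]
      have h3 := mem_of_smul h2 hz
      rwa [MulAut.inv_apply_self] at h3
    have h2 := hx (α⁻¹ y)
    rw [h1 (α⁻¹ y), h1 (x * α⁻¹ y * x⁻¹)] at h2
    simpa only [map_mul, map_inv, MulAut.apply_inv_self] using h2
  have hNα' : ∀ x, x ∈ N ↔ α x ∈ N := by
    intro x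
    refine ⟨hNα x, fun hx => ?_⟩
    have h2 : α⁻¹ • N = N := by rw [inv_smul_eq_iff, smul_of_mem hNα]
    have h3 := mem_of_smul h2 hx
    rwa [MulAut.inv_apply_self] at h3
  let β : MulAut ↥N :=
    { toFun := fun x => ⟨α x, hNα x x.2⟩
      invFun := fun x => ⟨α⁻¹ x, (hNα' _).2 (by rw [MulAut.apply_inv_self]; exact x.2)⟩
      left_inv := fun x => Subtype.ext (MulAut.inv_apply_self _ _ _)
      right_inv := fun x => Subtype.ext (MulAut.apply_inv_self _ _ _)
      map_mul' := fun x y => Subtype.ext (map_mul α _ _) }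
  have hβn : ∀ (n : ℕ) (x : ↥N), ((β ^ n) x : K) = (α ^ n) x := by
    intro n
    induction n with
    | zero => intro g; rfl
    | succ n ih =>
      intro g
      rw [pow_succ', MulAut.mul_apply, pow_succ', MulAut.mul_apply, ← ih]
      rfl
  have hβ : β ^ r = 1 := by
    ext x
    rw [hβn, hα]
    rfl
  obtain ⟨P, hP⟩ := exists_inv hβ (fun h => hcop (h.trans (Subgroup.card_subgroup_dvd_card N))) p
  -- `R` is contained in the Sylow subgroup of the normaliser
  have hRN : R ≤ N := Subgroup.le_normalizer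
  have hRP : R ≤ (P : Subgroup ↥N).map N.subtype := by
    have h1 : (R.subgroupOf N).Normal := Subgroup.normal_in_normalizer
    have h2 : IsPGroup p ↥(R.subgroupOf N) := hRp.comap_of_injective _ N.subtype_injective
    have h3 : R.subgroupOf N ≤ P := h2.le_sylow_of_normal P
    intro x hx
    exact ⟨⟨x, hRN hx⟩, h3 hx, rfl⟩
  have hPα : α • ((P : Subgroup ↥N).map N.subtype) = (P : Subgroup ↥N).map N.subtype := by
    apply smul_of_mem
    rintro _ ⟨x, hx, rfl⟩
    exact ⟨β x, mem_of_smul (smul_eq_iff.1 hP) hx, rfl⟩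
  have hPp : IsPGroup p ↥((P : Subgroup ↥N).map N.subtype) := P.isPGroup'.map _
  have hPR : (P : Subgroup ↥N).map N.subtype ≤ R := hmax ⟨hPp, hPα, hQR.trans hRP⟩ hRP
  -- so `R` is a Sylow subgroup
  obtain ⟨S, hS⟩ := hRp.exists_le_sylow
  have hSR : (S : Subgroup K) ≤ R := by
    by_contra hcon
    have hlt : R < (S : Subgroup K) := lt_of_le_not_ge hS hcon
    have hlt' : R.subgroupOf (S : Subgroup K) < ⊤ := by
      rw [lt_top_iff_ne_top]
      intro h1
      exact hcon (Subgroup.subgroupOf_eq_top.1 h1)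
    have hnil : Group.IsNilpotent ↥(S : Subgroup K) := S.isPGroup'.isNilpotent
    have h2 := Group.normalizerCondition_of_isNilpotent (G := ↥(S : Subgroup K)) _ hlt'
    obtain ⟨x, hx, hxR⟩ := SetLike.exists_of_lt h2
    -- `x` normalises `R`
    have hxN : (x : K) ∈ N := by
      rw [hN, Subgroup.mem_normalizer_iff]
      intro y
      rw [Subgroup.mem_normalizer_iff] at hx
      constructor
      · intro hy
        exact (hx ⟨y, hS hy⟩).1 hy
      · intro hy
        have h3 : y ∈ (S : Subgroup K) := by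
          have h4 := mul_mem (mul_mem (inv_mem x.2) (hS hy)) x.2
          have h5 : (x : K)⁻¹ * ((x : K) * y * (x : K)⁻¹) * x = y := by group
          rwa [h5] at h4
        exact (hx ⟨y, h3⟩).2 hy
    -- the `p`-group `⟨R, x⟩` in the normaliser
    have h3 : IsPGroup p ↥((S : Subgroup K) ⊓ N : Subgroup K) := S.isPGroup'.to_le inf_le_left
    have h4 : IsPGroup p ↥(((S : Subgroup K) ⊓ N).subgroupOf N) := h3.comap_of_injective _ N.subtype_injective
    obtain ⟨P', hP'⟩ := h4.exists_le_sylow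
    have h5 : Nat.card ↥(((S : Subgroup K) ⊓ N).subgroupOf N) ≤ Nat.card ↥(P : Subgroup ↥N) := by
      have h6 : Nat.card ↥(P' : Subgroup ↥N) = Nat.card ↥(P : Subgroup ↥N) := by
        rw [Sylow.card_eq_multiplicity, Sylow.card_eq_multiplicity]
      rw [← h6]
      exact Nat.card_le_card_of_injective _ (Subgroup.inclusion_injective hP')
    have h6 : Nat.card ↥(((S : Subgroup K) ⊓ N).subgroupOf N) = Nat.card ↥((S : Subgroup K) ⊓ N : Subgroup K) :=
      Nat.card_congr (Subgroup.subgroupOfEquivOfLe inf_le_right).toEquiv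
    have h7 : Nat.card ↥(P : Subgroup ↥N) ≤ Nat.card ↥R := by
      rw [← Nat.card_congr ((P : Subgroup ↥N).equivMapOfInjective _ N.subtype_injective).toEquiv.symm]
      exact Nat.card_le_card_of_injective _ (Subgroup.inclusion_injective hPR)
    have h8 : R ≤ (S : Subgroup K) ⊓ N := le_inf hS hRN
    have h9 : (S : Subgroup K) ⊓ N = R :=
      (Subgroup.eq_of_le_of_card_ge h8 (by rw [← h6]; exact h5.trans h7)).symm
    apply hxR
    rw [Subgroup.mem_subgroupOf, ← h9]
    exact ⟨x.2, hxN⟩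
  have hSR' : (S : Subgroup K) = R := le_antisymm hSR hS
  refine ⟨S, smul_eq_iff.2 (by rw [hSR', hRα]), by rw [hSR']; exact hQR⟩

/-- **Thompson's lemma**: if `α` is trivial on `C_Q(τ)`, `τ ∈ Q`, then it is trivial on `Q`. -/
theorem fix_of_cent (hα : α ^ r = 1) (hcop : ¬ r ∣ Nat.card K) {p : ℕ} [hp : Fact p.Prime] {Q : Subgroup K}
    (hQ : IsPGroup p Q) (hQα : α • Q = Q) {τ : K} (hτ : τ ∈ Q)
    (hc : ∀ x ∈ Subgroup.centralizer ({τ} : Set K), α x = x) : ∀ x ∈ Q, α x = x := by
  have hτf : α τ = τ := hc τ (Subgroup.mem_centralizer_singleton_iff.2 rfl)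
  let F : Subgroup K := Q ⊓ α.toMonoidHom.eqLocus (MonoidHom.id K)
  have hF : ∀ {x}, x ∈ F ↔ x ∈ Q ∧ α x = x := fun {x} => Iff.rfl
  have hFQ : F ≤ Q := inf_le_left
  -- `F` is self-normalising in `Q`
  have key : ∀ x ∈ Q, (∀ y ∈ F, x * y * x⁻¹ ∈ F) → x ∈ F := by
    intro x hx hn
    have h1 : α (x * τ * x⁻¹) = x * τ * x⁻¹ := (hF.1 (hn τ (hF.2 ⟨hτ, hτf⟩))).2
    rw [map_mul, map_mul, map_inv, hτf] at h1
    have h2 : α (x⁻¹ * α x) = x⁻¹ * α x := by
      apply hc
      rw [Subgroup.mem_centralizer_singleton_iff]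
      calc x⁻¹ * α x * τ = x⁻¹ * (α x * τ * (α x)⁻¹) * α x := by group
        _ = x⁻¹ * (x * τ * x⁻¹) * α x := by rw [h1]
        _ = τ * (x⁻¹ * α x) := by group
    have h3 : ∀ n : ℕ, (α ^ n) x = x * (x⁻¹ * α x) ^ n := by
      intro n
      induction n with
      | zero => rw [pow_zero, pow_zero, mul_one]; rfl
      | succ n ih =>
        rw [pow_succ', MulAut.mul_apply, ih, map_mul, map_pow, h2, pow_succ', mul_assoc, mul_inv_cancel_left]
    have h4 : (x⁻¹ * α x) ^ r = 1 := by
      have h5 := h3 r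
      rw [hα] at h5
      exact (mul_eq_left.1 h5.symm)
    have h5 : x⁻¹ * α x = 1 := by
      rw [← orderOf_eq_one_iff]
      have h6 : orderOf (x⁻¹ * α x) ∣ r := orderOf_dvd_of_pow_eq_one h4
      rcases (Nat.dvd_prime hr.out).1 h6 with h7 | h7
      · exact h7
      · exact absurd (h7 ▸ orderOf_dvd_natCard (x⁻¹ * α x)) hcop
    exact hF.2 ⟨hx, (inv_mul_eq_one.1 h5).symm⟩
  have hnil : Group.IsNilpotent ↥Q := hQ.isNilpotent
  have htop : F.subgroupOf Q = ⊤ := by
    by_contra hne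
    have h1 := Group.normalizerCondition_of_isNilpotent (G := ↥Q) _ (lt_top_iff_ne_top.2 hne)
    obtain ⟨x, hx, hxF⟩ := SetLike.exists_of_lt h1
    apply hxF
    rw [Subgroup.mem_subgroupOf]
    refine key x x.2 fun y hy => ?_
    rw [Subgroup.mem_normalizer_iff] at hx
    exact (hx ⟨y, hFQ hy⟩).1 hy
  intro x hx
  exact (hF.1 (Subgroup.subgroupOf_eq_top.1 htop hx)).2

/-- **The invariant `p`-subgroups are fixed.** -/
theorem fix_pgroup (hα : α ^ r = 1) (hcop : ¬ r ∣ Nat.card K) {p : ℕ} [hp : Fact p.Prime] {τ : K}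
    (hτ : ∃ k, τ ^ p ^ k = 1) (hc : ∀ x ∈ Subgroup.centralizer ({τ} : Set K), α x = x) {Q : Subgroup K}
    (hQ : IsPGroup p Q) (hQα : α • Q = Q) : ∀ x ∈ Q, α x = x := by
  have hτf : α τ = τ := hc τ (Subgroup.mem_centralizer_singleton_iff.2 rfl)
  have h1 : IsPGroup p ↥(Subgroup.zpowers τ) := by
    obtain ⟨k, hk⟩ := hτ
    rintro ⟨_, n, rfl⟩
    refine ⟨k, Subtype.ext ?_⟩
    show (τ ^ n) ^ p ^ k = 1
    rw [← zpow_natCast, ← zpow_mul, mul_comm, zpow_mul, zpow_natCast, hk, one_zpow]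
  have h2 : α • (Subgroup.zpowers τ) = Subgroup.zpowers τ := by
    apply smul_of_mem
    rintro _ ⟨n, rfl⟩
    exact ⟨n, by rw [map_zpow, hτf]⟩
  obtain ⟨P, hP, hτP⟩ := exists_ge hα hcop h1 h2
  obtain ⟨S, hS, hQS⟩ := exists_ge hα hcop hQ hQα
  have h3 := fix_of_cent hα hcop P.isPGroup' (smul_eq_iff.1 hP) (hτP (Subgroup.mem_zpowers τ)) hc
  obtain ⟨g, hg, rfl⟩ := exists_conj hα hcop hP hS
  intro x hx
  have h4 := hQS hx
  obtain ⟨y, hy, rfl⟩ := h4
  show α (g * y * g⁻¹) = g * y * g⁻¹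
  rw [map_mul, map_mul, map_inv, hg, h3 y hy]

end Cfsg.Agent.H277.Cop
end

-- part: H596/FldFacts
section
set_option linter.all false
open scoped Cfsg.Agent.FastGrp

/-!
# S4761: coprime automorphisms move classes of elements of different orders

The fact `FactMoved` needed for S4761: a non-trivial automorphism `α` of prime order `p` of a finite simple group `S`,
`p` prime to `|S|`, moves the classes of two elements of different orders.

* `TwoMoved S` : the statement for `S`;
* `TwoMoved.congr` : transport;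
* `not_isConj` : `α` moves the class of `x` if no fixed element has the order of `x`;
* `not_isConj_of_dvd` : the same if a prime `s` divides the order of `x` and not the order of the group of fixed points;
* `moved_of_primes` : two primes dividing `|S|` and not the order of the group of fixed points are enough;
* `moved_of_mul` : one prime `s` is enough, if some element `a` of order `s` commutes with an element `u ≠ 1` of order
  prime to `s`;
* `moved_of_rank_two` : one prime `s` is enough, if some abelian noncyclic `s`-group normalises a nontrivial `r`-group;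
* `not_dvd_of_torus` : `s` does not divide the order of the group of fixed points, if some `α`-invariant subgroup `T` of
  index prime to `s` has no fixed elements of order `s`;
* `exists_primes` : arithmetic.
-/

set_option autoImplicit false

open scoped Pointwise

namespace Cfsg.Agent.H596.Fld

universe u

/-- The automorphism `α` moves the classes of two elements of different orders. -/
def Moved {S : Type*} [Group S] (α : MulAut S) : Prop :=
  ∃ x y : S, ¬ IsConj (α x) x ∧ ¬ IsConj (α y) y ∧ orderOf x ≠ orderOf y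

/-- The coprime automorphisms of prime order move the classes of two elements of different orders. -/
def TwoMoved (S : Type*) [Group S] : Prop :=
  ∀ α : MulAut S, (orderOf α).Prime → ¬ orderOf α ∣ Nat.card S → Moved α

/-- **The fact.** -/
def FactMoved : Prop :=
  ∀ (S : Type u) [Group S] [Finite S] [IsSimpleGroup S], ¬ IsMulCommutative S → TwoMoved S

/-! ### Transport -/

theorem Moved.of_equiv {S S' : Type*} [Group S] [Group S'] (e : S ≃* S') {α : MulAut S} {β : MulAut S'}
    (h : ∀ x, e (α x) = β (e x)) (hβ : Moved β) : Moved α := by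
  obtain ⟨x, y, hx, hy, hne⟩ := hβ
  have key : ∀ z : S', ¬ IsConj (β z) z → ¬ IsConj (α (e.symm z)) (e.symm z) := by
    intro z hz hc
    apply hz
    have h1 := e.toMonoidHom.map_isConj hc
    have h2 : e.toMonoidHom (α (e.symm z)) = β z := by
      show e (α (e.symm z)) = β z
      rw [h, e.apply_symm_apply]
    have h3 : e.toMonoidHom (e.symm z) = z := e.apply_symm_apply z
    rwa [h2, h3] at h1
  refine ⟨e.symm x, e.symm y, key x hx, key y hy, ?_⟩
  rw [MulEquiv.orderOf_eq, MulEquiv.orderOf_eq]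
  exact hne

/-- conjugate automorphisms -/
theorem Moved.of_conj {S : Type*} [Group S] {α β g : MulAut S} (h : g * α * g⁻¹ = β) (hβ : Moved β) : Moved α := by
  refine Moved.of_equiv g (fun x => ?_) hβ
  rw [← h]
  simp only [MulAut.mul_apply, MulAut.inv_apply_self]

theorem TwoMoved.congr {S S' : Type*} [Group S] [Group S'] (e : S ≃* S') (h : TwoMoved S') : TwoMoved S := by
  intro α hα hd
  have ho : orderOf (MulAut.congr e α) = orderOf α :=
    orderOf_injective (MulAut.congr e).toMonoidHom (MulAut.congr e).injective α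
  refine Moved.of_equiv e (β := MulAut.congr e α) (fun x => ?_) (h _ (by rw [ho]; exact hα)
    (by rw [ho, ← Nat.card_congr e.toEquiv]; exact hd))
  show _ = e (α (e.symm (e x)))
  rw [e.symm_apply_apply]

/-! ### Criteria -/

section

variable {S : Type*} [Group S] [Finite S] {α : MulAut S}

/-- **`α` moves the class of `x` if no fixed element has the order of `x`.** -/
theorem not_isConj (hα : (orderOf α).Prime) (hd : ¬ orderOf α ∣ Nat.card S) {x : S}
    (hx : ∀ y : S, α y = y → IsConj x y → False) : ¬ IsConj (α x) x := by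
  intro hc
  have hF : Fact (orderOf α).Prime := ⟨hα⟩
  let X := {y : S // IsConj x y}
  have hX : Nat.card X ∣ Nat.card S := by
    have h1 : Nat.card X = Nat.card (ConjClasses.mk x).carrier :=
      Nat.card_congr (Equiv.subtypeEquivRight fun y => by
        rw [ConjClasses.mem_carrier_iff_mk_eq, ConjClasses.mk_eq_mk_iff_isConj]
        exact ⟨fun h => h.symm, fun h => h.symm⟩)
    rw [h1]
    have h2 : Nat.card (MulAction.orbit (ConjAct S) x) = (MulAction.stabilizer (ConjAct S) x).index := by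
      exact (MulAction.index_stabilizer (ConjAct S) x).symm
    have h3 : (ConjClasses.mk x).carrier = MulAction.orbit (ConjAct S) x := by
      ext y
      rw [ConjClasses.mem_carrier_iff_mk_eq, ConjClasses.mk_eq_mk_iff_isConj, ConjAct.mem_orbit_conjAct]
    rw [h3, h2]
    exact (Subgroup.index_dvd_card _).trans (by rw [show Nat.card (ConjAct S) = Nat.card S from rfl])
  have hst : ∀ y, IsConj x y → IsConj x (α y) := fun y hy => by
    have h1 := α.toMonoidHom.map_isConj hy
    exact hc.symm.trans h1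
  have hst' : ∀ (n : ℕ) (y : S), IsConj x y → IsConj x ((α ^ n) y) := by
    intro n
    induction n with
    | zero => intro y hy; exact hy
    | succ n ih => intro y hy; rw [pow_succ', MulAut.mul_apply]; exact hst _ (ih y hy)
  have hpow : α ^ orderOf α = 1 := pow_orderOf_eq_one α
  have hone : 1 ≤ orderOf α := hα.one_le
  let σ : Equiv.Perm X :=
    { toFun := fun g => ⟨α g, hst g g.2⟩
      invFun := fun g => ⟨(α ^ (orderOf α - 1)) g, hst' _ g g.2⟩
      left_inv := fun g => Subtype.ext (by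
        show (α ^ (orderOf α - 1)) (α g) = g
        rw [← MulAut.mul_apply, ← pow_succ, Nat.sub_add_cancel hone, hpow]; rfl)
      right_inv := fun g => Subtype.ext (by
        show α ((α ^ (orderOf α - 1)) g) = g
        rw [← MulAut.mul_apply, ← pow_succ', Nat.sub_add_cancel hone, hpow]; rfl) }
  have hσn : ∀ (n : ℕ) (g : X), ((σ ^ n) g : S) = (α ^ n) g := by
    intro n
    induction n with
    | zero => intro g; rfl
    | succ n ih =>
      intro g
      rw [pow_succ', Equiv.Perm.mul_apply, pow_succ', MulAut.mul_apply, ← ih]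
      rfl
  have hσ : σ ^ orderOf α = 1 := by
    ext g
    rw [hσn, hpow]
    rfl
  obtain ⟨g, hg⟩ := H277.Cop.exists_fixed hσ (fun h => hd (h.trans hX))
  exact hx g (congrArg Subtype.val hg) g.2

/-- The group of fixed points. -/
def fx (α : MulAut S) : Subgroup S := α.toMonoidHom.eqLocus (MonoidHom.id S)

omit [Finite S] in
theorem mem_fx {x : S} : x ∈ fx α ↔ α x = x := Iff.rfl

theorem not_isConj_of_dvd (hα : (orderOf α).Prime) (hd : ¬ orderOf α ∣ Nat.card S) {x : S} {s : ℕ}
    (hs : ¬ s ∣ Nat.card (fx α)) (hx : s ∣ orderOf x) : ¬ IsConj (α x) x := by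
  refine not_isConj hα hd fun y hy hc => hs ?_
  obtain ⟨g, hg⟩ := isConj_iff.1 hc
  have h1 : orderOf x = orderOf y := by
    rw [← hg]
    exact (MulEquiv.orderOf_eq (MulAut.conj g) x).symm
  have h2 : orderOf (⟨y, mem_fx.2 hy⟩ : fx α) ∣ Nat.card (fx α) := orderOf_dvd_natCard _
  rw [Subgroup.orderOf_mk] at h2
  rw [h1] at hx
  exact hx.trans h2

/-- **Two primes.** -/
theorem moved_of_primes (hα : (orderOf α).Prime) (hd : ¬ orderOf α ∣ Nat.card S) {s₁ s₂ : ℕ} (h₁ : s₁.Prime)
    (h₂ : s₂.Prime) (hne : s₁ ≠ s₂) (hs₁ : s₁ ∣ Nat.card S) (hs₂ : s₂ ∣ Nat.card S) (hf₁ : ¬ s₁ ∣ Nat.card (fx α))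
    (hf₂ : ¬ s₂ ∣ Nat.card (fx α)) : Moved α := by
  have : Fact s₁.Prime := ⟨h₁⟩
  have : Fact s₂.Prime := ⟨h₂⟩
  obtain ⟨x, hx⟩ := exists_prime_orderOf_dvd_card' s₁ hs₁
  obtain ⟨y, hy⟩ := exists_prime_orderOf_dvd_card' s₂ hs₂
  exact ⟨x, y, not_isConj_of_dvd hα hd hf₁ (by rw [hx]), not_isConj_of_dvd hα hd hf₂ (by rw [hy]),
    by rw [hx, hy]; exact hne⟩

/-- **One prime and a commuting element.** -/
theorem moved_of_mul (hα : (orderOf α).Prime) (hd : ¬ orderOf α ∣ Nat.card S) {s : ℕ}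
    (hf : ¬ s ∣ Nat.card (fx α)) {a u : S} (hs : s ∣ orderOf a) (hc : Commute a u)
    (hu : (orderOf a).Coprime (orderOf u)) (hu1 : u ≠ 1) : Moved α := by
  have h1 : orderOf (a * u) = orderOf a * orderOf u := hc.orderOf_mul_eq_mul_orderOf_of_coprime hu
  refine ⟨a, a * u, not_isConj_of_dvd hα hd hf hs, not_isConj_of_dvd hα hd hf (by rw [h1]; exact hs.mul_right _), ?_⟩
  rw [h1]
  intro h
  have h2 : 0 < orderOf a := orderOf_pos a
  have h3 : orderOf u = 1 := by
    have h4 : orderOf a * 1 = orderOf a * orderOf u := by rw [mul_one]; exact h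
    exact (Nat.eq_of_mul_eq_mul_left h2 h4).symm
  exact hu1 (orderOf_eq_one_iff.1 h3)

/-- **One prime and an abelian noncyclic group.** -/
theorem moved_of_rank_two (hα : (orderOf α).Prime) (hd : ¬ orderOf α ∣ Nat.card S) {s r : ℕ} [hs : Fact s.Prime]
    [hr : Fact r.Prime] (hsr : s ≠ r) (hf : ¬ s ∣ Nat.card (fx α)) {A U : Subgroup S} (hA : IsMulCommutative A)
    (hAs : IsPGroup s A) (hAc : ¬ IsCyclic A) (hU : IsPGroup r U) (hU1 : U ≠ ⊥)
    (hN : A ≤ Subgroup.normalizer (U : Set S)) : Moved α := by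
  have hcop : (Nat.card A).Coprime (Nat.card U) := by
    obtain ⟨i, hi⟩ := IsPGroup.iff_card.1 hAs
    obtain ⟨j, hj⟩ := IsPGroup.iff_card.1 hU
    rw [hi, hj]
    exact Nat.Coprime.pow _ _ ((Nat.coprime_primes hs.out hr.out).2 hsr)
  have h1 := Cfsg.Agent.S0058.result A U hAc hN hcop
  obtain ⟨a, ha, ha1, u, hu, hu1, hc⟩ : ∃ a ∈ A, a ≠ 1 ∧ ∃ u ∈ U, u ≠ 1 ∧ Commute a u := by
    by_contra hcon
    push Not at hcon
    apply hU1
    rw [← h1, eq_bot_iff]
    refine iSup₂_le fun a ha x hx => ?_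
    rw [Subgroup.mem_bot]
    by_contra hx1
    refine hcon a ha.1 ha.2 x hx.1 hx1 ?_
    exact (Subgroup.mem_centralizer_singleton_iff.1 hx.2).symm
  have h2 : s ∣ orderOf a := by
    obtain ⟨k, hk⟩ := (IsPGroup.iff_orderOf.1 hAs) ⟨a, ha⟩
    rw [Subgroup.orderOf_mk] at hk
    rw [hk]
    refine dvd_pow_self s ?_
    rintro rfl
    rw [pow_zero, orderOf_eq_one_iff] at hk
    exact ha1 hk
  refine moved_of_mul hα hd hf h2 hc ?_ hu1
  have h3 : orderOf a ∣ Nat.card A := by
    have := orderOf_dvd_natCard (⟨a, ha⟩ : A)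
    rwa [Subgroup.orderOf_mk] at this
  have h4 : orderOf u ∣ Nat.card U := by
    have := orderOf_dvd_natCard (⟨u, hu⟩ : U)
    rwa [Subgroup.orderOf_mk] at this
  exact (hcop.coprime_dvd_left h3).coprime_dvd_right h4

/-- **Tori.** The order of the group of fixed points is prime to `s`, if some invariant subgroup of index prime to `s`
has no fixed element of order `s`. -/
theorem not_dvd_of_torus (hα : (orderOf α).Prime) (hd : ¬ orderOf α ∣ Nat.card S) {s : ℕ} [hs : Fact s.Prime]
    {T : Subgroup S} (hT : ∀ x ∈ T, α x ∈ T) (hi : ¬ s ∣ T.index) (hf : ∀ x ∈ T, orderOf x = s → α x ≠ x) :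
    ¬ s ∣ Nat.card (fx α) := by
  intro hcon
  have hF : Fact (orderOf α).Prime := ⟨hα⟩
  have hpow : α ^ orderOf α = 1 := pow_orderOf_eq_one α
  obtain ⟨y, hy⟩ := exists_prime_orderOf_dvd_card' s hcon
  have hyf : α (y : S) = y := y.2
  have hyo : orderOf (y : S) = s := by rw [Subgroup.orderOf_coe, hy]
  -- an invariant Sylow subgroup containing `y`
  have h1 : IsPGroup s ↥(Subgroup.zpowers (y : S)) := by
    apply IsPGroup.of_card (n := 1)
    rw [Nat.card_zpowers, hyo, pow_one]
  have h2 : α • (Subgroup.zpowers (y : S)) = Subgroup.zpowers (y : S) := by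
    apply H277.Cop.smul_of_mem
    rintro _ ⟨n, rfl⟩
    exact ⟨n, by rw [map_zpow, hyf]⟩
  obtain ⟨P, hP, hyP⟩ := H277.Cop.exists_ge hpow hd h1 h2
  -- an invariant Sylow subgroup of `T`
  have hTn : ∀ (n : ℕ) (x : S), x ∈ T → (α ^ n) x ∈ T := by
    intro n
    induction n with
    | zero => intro x hx; exact hx
    | succ n ih => intro x hx; rw [pow_succ', MulAut.mul_apply]; exact hT _ (ih x hx)
  let β : MulAut ↥T :=
    { toFun := fun x => ⟨α x, hT x x.2⟩
      invFun := fun x => ⟨(α ^ (orderOf α - 1)) x, hTn _ x x.2⟩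
      left_inv := fun g => Subtype.ext (by
        show (α ^ (orderOf α - 1)) (α g) = g
        rw [← MulAut.mul_apply, ← pow_succ, Nat.sub_add_cancel hα.one_le, hpow]; rfl)
      right_inv := fun g => Subtype.ext (by
        show α ((α ^ (orderOf α - 1)) g) = g
        rw [← MulAut.mul_apply, ← pow_succ', Nat.sub_add_cancel hα.one_le, hpow]; rfl)
      map_mul' := fun x y => Subtype.ext (map_mul α _ _) }
  have hβn : ∀ (n : ℕ) (x : ↥T), ((β ^ n) x : S) = (α ^ n) x := by
    intro n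
    induction n with
    | zero => intro g; rfl
    | succ n ih =>
      intro g
      rw [pow_succ', MulAut.mul_apply, pow_succ', MulAut.mul_apply, ← ih]
      rfl
  have hβ : β ^ orderOf α = 1 := by
    ext x
    rw [hβn, hpow]
    rfl
  obtain ⟨P₁, hP₁⟩ := H277.Cop.exists_inv hβ (fun h => hd (h.trans (Subgroup.card_subgroup_dvd_card T))) s
  have hP₁m : ∀ x ∈ P₁, β x ∈ P₁ := fun x hx => H277.Cop.mem_of_smul (H277.Cop.smul_eq_iff.1 hP₁) hx
  have hQα : α • ((P₁ : Subgroup ↥T).map T.subtype) = (P₁ : Subgroup ↥T).map T.subtype := by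
    apply H277.Cop.smul_of_mem
    rintro _ ⟨x, hx, rfl⟩
    exact ⟨β x, hP₁m x hx, rfl⟩
  obtain ⟨Q, hQ, hPQ⟩ := H277.Cop.exists_ge hpow hd (P₁.isPGroup'.map T.subtype) hQα
  -- `Q` is the Sylow subgroup of `T`
  have hcard : Nat.card ↥(Q : Subgroup S) = Nat.card ↥((P₁ : Subgroup ↥T).map T.subtype) := by
    rw [← Nat.card_congr ((P₁ : Subgroup ↥T).equivMapOfInjective _ T.subtype_injective).toEquiv,
      Sylow.card_eq_multiplicity, Sylow.card_eq_multiplicity, ← T.card_mul_index,
      Nat.factorization_mul Nat.card_pos.ne' Subgroup.index_ne_zero_of_finite, Finsupp.add_apply,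
      Nat.factorization_eq_zero_of_not_dvd hi, add_zero]
  have hQT : (Q : Subgroup S) ≤ T := by
    rw [← Subgroup.eq_of_le_of_card_ge hPQ hcard.le]
    exact Subgroup.map_subtype_le _
  obtain ⟨g, hg, hgP⟩ := H277.Cop.exists_conj hpow hd hP hQ
  have h3 : g * (y : S) * g⁻¹ ∈ T := by
    apply hQT
    have h4 : g * (y : S) * g⁻¹ ∈ ((g • P : Sylow s S) : Subgroup S) :=
      Subgroup.smul_mem_pointwise_smul _ (MulAut.conj g) _ (hyP (Subgroup.mem_zpowers _))
    rw [hgP] at h4
    exact h4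
  refine hf _ h3 ?_ ?_
  · rw [← hyo]
    exact MulEquiv.orderOf_eq (MulAut.conj g) (y : S)
  · rw [map_mul, map_mul, map_inv, hg, hyf]

/-- The order of the group of fixed points divides the order of the centraliser of `α` in a group of automorphisms
containing the inner ones. -/
theorem card_fx_dvd (hZ : Subgroup.center S = ⊥) {H : Subgroup (MulAut S)} (hH : ∀ k : S, MulAut.conj k ∈ H)
    {X : Type*} [Group X] (e : Nonempty (↥(H ⊓ Subgroup.centralizer {α}) ≃* X)) :
    Nat.card (fx α) ∣ Nat.card X := by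
  have hfin : Finite (MulAut S) := inferInstance
  have hinj : Function.Injective (MulAut.conj : S →* MulAut S) := by
    rw [injective_iff_map_eq_one]
    intro g hg
    have h1 : g ∈ Subgroup.center S := by
      rw [Subgroup.mem_center_iff]
      intro x
      have h2 : MulAut.conj g x = x := by rw [hg]; rfl
      rw [MulAut.conj_apply] at h2
      calc x * g = (g * x * g⁻¹) * g := by rw [h2]
        _ = g * x := by group
    rw [hZ] at h1
    exact h1
  obtain ⟨e⟩ := e
  rw [← Nat.card_congr e.toEquiv]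
  let f : fx α →* ↥(H ⊓ Subgroup.centralizer {α}) :=
    { toFun := fun c => ⟨MulAut.conj (c : S), hH _, by
        show MulAut.conj (c : S) ∈ Subgroup.centralizer {α}
        rw [Subgroup.mem_centralizer_singleton_iff]
        ext x
        have hc : α (c : S) = c := c.2
        simp only [MulAut.mul_apply, MulAut.conj_apply, map_mul, map_inv, hc]⟩
      map_one' := Subtype.ext (map_one _)
      map_mul' := fun a b => Subtype.ext (map_mul _ _ _) }
  refine Subgroup.card_dvd_of_injective f ?_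
  intro a b hab
  exact Subtype.ext (hinj (congrArg Subtype.val hab))

end

/-! ### Arithmetic -/

theorem zmod_two (x : ZMod 2) : x = 0 ∨ x = 1 := by
  revert x
  decide

/-- primes dividing `(a ^ p - 1) / (a - 1)` -/
theorem prime_dvd_geom {s p : ℕ} (hp : p.Prime) {a : ZMod s} (hs : s.Prime)
    (h : ∑ j ∈ Finset.range p, a ^ j = 0) (hne : s ≠ p) : a ≠ 1 := by
  rintro rfl
  rw [Finset.sum_congr rfl (fun j _ => one_pow j), Finset.sum_const, Finset.card_range, nsmul_eq_mul, mul_one,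
    ZMod.natCast_eq_zero_iff] at h
  exact hne ((Nat.prime_dvd_prime_iff_eq hs hp).1 h)

/-- `s` divides `q ^ i - 1` iff `q ^ i = 1` modulo `s`. -/
theorem dvd_pow_sub_one_iff {s q i : ℕ} (hq : 0 < q) : s ∣ q ^ i - 1 ↔ ((q : ZMod s)) ^ i = 1 := by
  rw [← Nat.modEq_iff_dvd' (Nat.one_le_pow _ _ hq), ← ZMod.natCast_eq_natCast_iff]
  push_cast
  exact eq_comm

/-- **The primes.** The order of `q₀` modulo `s₁` is `p`, modulo `s₂` it is `2 p`. -/
theorem exists_primes {q₀ p : ℕ} (hp : p.Prime) (hp2 : p ≠ 2) (hq : 2 ≤ q₀) (h1 : ¬ p ∣ q₀ ^ p - 1)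
    (h2 : ¬ p ∣ q₀ ^ p + 1) :
    ∃ s₁ s₂ : ℕ, s₁.Prime ∧ s₂.Prime ∧ s₁ ≠ s₂ ∧ s₁ ∣ q₀ ^ p - 1 ∧ s₂ ∣ q₀ ^ p + 1 ∧
      (∀ i, s₁ ∣ q₀ ^ i - 1 → p ∣ i) ∧ (∀ i, s₂ ∣ q₀ ^ i - 1 → 2 * p ∣ i) ∧ ¬ s₁ ∣ q₀ ∧ ¬ s₂ ∣ q₀ := by
  have hodd : Odd p := hp.odd_of_ne_two hp2
  have hq0 : 0 < q₀ := by omega
  have hFp : Fact p.Prime := ⟨hp⟩
  -- the first prime
  obtain ⟨s₁, hs₁, hd₁⟩ : ∃ s : ℕ, s.Prime ∧ s ∣ ∑ j ∈ Finset.range p, q₀ ^ j := by
    apply Nat.exists_prime_and_dvd
    intro h
    have h3 : ∑ j ∈ Finset.range 2, q₀ ^ j ≤ ∑ j ∈ Finset.range p, q₀ ^ j :=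
      Finset.sum_le_sum_of_subset (Finset.range_mono hp.two_le)
    simp only [Finset.sum_range_succ, Finset.range_zero, Finset.sum_empty, pow_zero, pow_one] at h3
    omega
  have : Fact s₁.Prime := ⟨hs₁⟩
  have e₁ : ∑ j ∈ Finset.range p, (q₀ : ZMod s₁) ^ j = 0 := by
    have := (ZMod.natCast_eq_zero_iff (∑ j ∈ Finset.range p, q₀ ^ j) s₁).2 hd₁
    push_cast at this
    exact this
  have a₁ : (q₀ : ZMod s₁) ^ p = 1 := by
    have h3 := geom_sum_mul (q₀ : ZMod s₁) p
    rw [e₁, zero_mul] at h3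
    exact (sub_eq_zero.1 h3.symm)
  have d₁ : s₁ ∣ q₀ ^ p - 1 := (dvd_pow_sub_one_iff hq0).2 a₁
  have n₁ : s₁ ≠ p := fun h => h1 (h ▸ d₁)
  have b₁ : (q₀ : ZMod s₁) ≠ 1 := prime_dvd_geom hp hs₁ e₁ n₁
  have o₁ : orderOf (q₀ : ZMod s₁) = p := orderOf_eq_prime a₁ b₁
  -- the second prime
  obtain ⟨N, hN⟩ : q₀ + 1 ∣ q₀ ^ p + 1 := by
    have := Odd.nat_add_dvd_pow_add_pow q₀ 1 hodd
    rwa [one_pow] at this
  obtain ⟨s₂, hs₂, hd₂⟩ : ∃ s : ℕ, s.Prime ∧ s ∣ N := by
    apply Nat.exists_prime_and_dvd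
    rintro rfl
    have h3 : q₀ ^ 2 ≤ q₀ ^ p := Nat.pow_le_pow_right hq0 hp.two_le
    nlinarith
  have : Fact s₂.Prime := ⟨hs₂⟩
  have eN : ((N : ℤ)) = ∑ j ∈ Finset.range p, (-(q₀ : ℤ)) ^ j := by
    have h3 := geom_sum_mul (-(q₀ : ℤ)) p
    rw [hodd.neg_pow] at h3
    have h4 : ((q₀ : ℤ) + 1) * N = (q₀ : ℤ) ^ p + 1 := by exact_mod_cast hN.symm
    have h5 : ((q₀ : ℤ) + 1) ≠ 0 := by positivity
    apply mul_left_cancel₀ h5
    linear_combination h4 + h3
  have e₂ : ∑ j ∈ Finset.range p, (-(q₀ : ZMod s₂)) ^ j = 0 := by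
    have h3 := (ZMod.intCast_zmod_eq_zero_iff_dvd (N : ℤ) s₂).2 (by exact_mod_cast hd₂)
    rw [eN] at h3
    push_cast at h3
    exact h3
  have c₂ : (-(q₀ : ZMod s₂)) ^ p = 1 := by
    have h3 := geom_sum_mul (-(q₀ : ZMod s₂)) p
    rw [e₂, zero_mul] at h3
    exact (sub_eq_zero.1 h3.symm)
  have d₂ : s₂ ∣ q₀ ^ p + 1 := by rw [hN]; exact hd₂.mul_left _
  have n₂ : s₂ ≠ p := fun h => h2 (h ▸ d₂)
  have b₂ : (-(q₀ : ZMod s₂)) ≠ 1 := prime_dvd_geom hp hs₂ e₂ n₂
  have a₂ : (q₀ : ZMod s₂) ^ p = -1 := by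
    rw [hodd.neg_pow] at c₂
    rw [← c₂, neg_neg]
  have o₂ : orderOf (-(q₀ : ZMod s₂)) = p := orderOf_eq_prime c₂ b₂
  have t₂ : s₂ ≠ 2 := by
    rintro rfl
    have h3 : ∀ x : ZMod 2, x ^ p = 1 → x = 1 := by
      intro x hx
      rcases zmod_two x with rfl | rfl
      · rw [zero_pow hp.ne_zero] at hx
        exact absurd hx zero_ne_one
      · rfl
    exact b₂ (h3 _ c₂)
  have m₂ : (-1 : ZMod s₂) ≠ 1 := by
    intro h
    have h3 : ((2 : ℕ) : ZMod s₂) = 0 := by
      push_cast
      linear_combination -h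
    exact t₂ ((Nat.prime_dvd_prime_iff_eq hs₂ Nat.prime_two).1 ((ZMod.natCast_eq_zero_iff _ _).1 h3))
  refine ⟨s₁, s₂, hs₁, hs₂, ?_, d₁, d₂, ?_, ?_, ?_, ?_⟩
  · rintro rfl
    exact m₂ (a₂.symm.trans a₁)
  · intro i hi
    rw [← o₁]
    exact orderOf_dvd_of_pow_eq_one ((dvd_pow_sub_one_iff hq0).1 hi)
  · intro i hi
    have h3 := (dvd_pow_sub_one_iff hq0).1 hi
    have h4 : p ∣ i := by
      have h5 : (-(q₀ : ZMod s₂)) ^ (2 * i) = 1 := by
        rw [(even_two_mul i).neg_pow, mul_comm, pow_mul, h3, one_pow]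
      have h6 : p ∣ 2 * i := o₂ ▸ orderOf_dvd_of_pow_eq_one h5
      exact (((Nat.coprime_primes hp Nat.prime_two).2 hp2).dvd_of_dvd_mul_left h6)
    obtain ⟨k, rfl⟩ := h4
    rw [pow_mul, a₂] at h3
    have h5 : Even k := by
      rw [← Nat.not_odd_iff_even]
      intro hk
      rw [hk.neg_one_pow] at h3
      exact m₂ h3
    obtain ⟨l, rfl⟩ := h5
    exact ⟨l, by ring⟩
  · intro h
    have h3 := (ZMod.natCast_eq_zero_iff _ _).2 h
    rw [h3, zero_pow hp.ne_zero] at a₁
    exact zero_ne_one a₁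
  · intro h
    have h3 := (ZMod.natCast_eq_zero_iff _ _).2 h
    rw [h3, neg_zero, zero_pow hp.ne_zero] at c₂
    exact zero_ne_one c₂

end Cfsg.Agent.H596.Fld
end
end
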