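import Cfsg.Agent.Characters.DegreeBounds
import Cfsg.Agent.Characters.Ito
import Cfsg.Agent.CharDeep.PowerDegrees
import Cfsg.Agent.Blocks.Basic
import Cfsg.Agent.S0887
set_option linter.all false

/-!
# Basic facts on the degrees `Cfsg.charDegree` of irreducible characters
-/

set_option autoImplicit false

namespace Cfsg.Agent.H596

open Cfsg Cfsg.Agent.Characters.Core
open Cfsg.Agent.Blocks.Basic (charDegree_of_eq irr_one_eq_charDegree charDegree_pos)

theorem exists_rep {G : Type*} [Group G] {χ : G → ℂ} (hχ : IsIrrCharacter G χ) :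
    ∃ (n : ℕ) (ρ : Representation ℂ G (Fin n → ℂ)), ρ.IsIrreducible ∧ ρ.character = χ ∧
      charDegree χ = Module.finrank ℂ (Fin n → ℂ) := by
  obtain ⟨n, ρ, hρ, h⟩ := hχ
  refine ⟨n, ρ, hρ, h, ?_⟩
  apply charDegree_of_eq
  rw [← h, Representation.char_one]

/-- The degree of an irreducible character divides the group order. -/
theorem charDegree_dvd_card {G : Type*} [Group G] [Finite G] {χ : G → ℂ}
    (hχ : IsIrrCharacter G χ) : charDegree χ ∣ Nat.card G := by
  obtain ⟨n, ρ, hρ, -, h⟩ := exists_rep hχ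
  rw [h]
  have := hρ
  exact Characters.DegreeBounds.finrank_dvd_card ρ

/-- Itô: the degree of an irreducible character divides the index of an abelian normal subgroup. -/
theorem charDegree_dvd_index {G : Type*} [Group G] [Finite G] {χ : G → ℂ}
    (hχ : IsIrrCharacter G χ) (A : Subgroup G) [A.Normal] (hA : ∀ a ∈ A, ∀ b ∈ A, a * b = b * a) :
    charDegree χ ∣ A.index := by
  obtain ⟨n, ρ, hρ, -, h⟩ := exists_rep hχ
  rw [h]
  have := hρ
  exact Characters.Ito.finrank_dvd_index ρ A hA

/-- The degree of an irreducible character is at most the index of an abelian subgroup. -/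
theorem charDegree_le_index {G : Type*} [Group G] [Finite G] {χ : G → ℂ}
    (hχ : IsIrrCharacter G χ) (A : Subgroup G) (hA : ∀ a ∈ A, ∀ b ∈ A, a * b = b * a) :
    charDegree χ ≤ A.index := by
  obtain ⟨n, ρ, hρ, -, h⟩ := exists_rep hχ
  rw [h]
  have := hρ
  exact Characters.DegreeBounds.finrank_le_index_of_comm ρ A hA

/-- A group all of whose irreducible characters are linear is abelian. -/
theorem comm_of_charDegree_eq_one {G : Type*} [Group G] [Finite G]
    (h : ∀ χ : IrrCharacter G, charDegree (χ : G → ℂ) = 1) (a b : G) : a * b = b * a :=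
  CharDeep.PowerDegrees.comm_of_forall_linear (fun χ => by
    rw [irr_one_eq_charDegree χ.2, h, Nat.cast_one]) a b

/-- Degrees of inflated characters. -/
theorem charDegree_comp {G Q : Type*} [Group G] [Group Q] (f : G →* Q) {χ : Q → ℂ}
    (_hχ : IsIrrCharacter Q χ) : charDegree (χ ∘ f) = charDegree χ := by
  show ⌊((χ (f 1))).re⌋₊ = ⌊(χ 1).re⌋₊
  rw [map_one]

/-- Degrees of an irreducible character and of a constituent of its restriction to a normal
subgroup. -/
theorem charDegree_dvd_of_over {G : Type*} [Group G] [Fintype G] (N : Subgroup G) [N.Normal]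
    [Fintype N] {χ : G → ℂ} (hχ : IsIrrCharacter G χ) {θ : N → ℂ} (hθ : IsIrrCharacter N θ)
    (h : classInner (fun n : N => χ n) θ ≠ 0) :
    charDegree θ ∣ charDegree χ ∧ charDegree χ / charDegree θ ∣ N.index :=
  S0887.result N χ hχ θ hθ h (charDegree χ) (charDegree θ)
    (irr_one_eq_charDegree hχ) (irr_one_eq_charDegree hθ)

/-- If all irreducible degrees of `G` are `1` or `m` and the normal subgroup `N` has order prime to
`m`, then `N` is abelian. -/
theorem comm_of_normal_coprime {G : Type*} [Group G] [Finite G] {m : ℕ}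
    (hcd : ∀ χ : IrrCharacter G, charDegree (χ : G → ℂ) = 1 ∨ charDegree (χ : G → ℂ) = m)
    (N : Subgroup G) [N.Normal] (hN : (Nat.card N).Coprime m) (a b : N) : a * b = b * a := by
  classical
  have := Fintype.ofFinite G
  have := Fintype.ofFinite N
  refine comm_of_charDegree_eq_one (fun θ => ?_) a b
  obtain ⟨χ, hχ, h⟩ := CharDeep.PowerDegrees.exists_irr_over N θ.2
  have h1 := (charDegree_dvd_of_over N hχ θ.2 h).1
  rcases hcd ⟨χ, hχ⟩ with h2 | h2
  · exact Nat.dvd_one.1 (h2 ▸ h1)
  · have h3 : charDegree (θ : N → ℂ) ∣ m := h2 ▸ h1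
    have h4 := Nat.dvd_gcd (charDegree_dvd_card θ.2) h3
    rw [hN] at h4
    exact Nat.dvd_one.1 h4

end Cfsg.Agent.H596
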