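import Cfsg.Agent.H671.H5Facts
import Cfsg.Prelude.Def_Sporadic
import Mathlib.GroupTheory.SpecificGroups.Alternating
import Mathlib.LinearAlgebra.Matrix.ProjectiveSpecialLinearGroup
import Cfsg.Agent.Prune
set_option linter.all false
prune_inst 0x7f00000000000000000000000000000000000000000000000000000000000000000000000000000000000000000000000000000000000000000000000000000000000000000000000000000000000000003fffffffffffffffffffffffffffbeffbdffffffff
open scoped Cfsg.Agent.FastGrp

/-!
# Exactly one irreducible character of degree divisible by `p`: the facts on simple groups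

`Two p S`: `S` has two irreducible characters of degree divisible by `p` which are not conjugate under
`Aut S`. `FactTwo`: this holds for every non-abelian simple group with `p ∣ |S|`, except
* `PSL(2,F)`, `F` of characteristic `p` (only the Steinberg character),
* `p = 3`, `S` of type `M11` (only the character of degree `45`),
* `p = 3`, `S = A5` (the two characters of degree `3`), and `S = PSL(2,8)` (the three of degree `9`).
-/

set_option autoImplicit false

namespace Cfsg.Agent.H596.OneFacts

universe u

/-- `S` has two irreducible characters of degree divisible by `p`, not conjugate under `Aut S`. -/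
def Two (p : ℕ) (S : Type u) [Group S] : Prop :=
  ∃ α β : Cfsg.IrrCharacter S, p ∣ Cfsg.charDegree (α : S → ℂ) ∧ p ∣ Cfsg.charDegree (β : S → ℂ) ∧
    ∀ σ : MulAut S, ∃ s : S, (α : S → ℂ) (σ s) ≠ (β : S → ℂ) s

/-- `S` is `PSL(2,F)`, `F` a field of characteristic `p` with at least four elements. -/
def DefL2 (p : ℕ) (S : Type u) [Group S] : Prop :=
  ∃ (F : Type) (_ : Field F) (_ : Fintype F), CharP F p ∧ 4 ≤ Fintype.card F ∧
    Nonempty (S ≃* Matrix.ProjectiveSpecialLinearGroup (Fin 2) F)

/-- `S` is `PSL(2,8)`. -/
def L28 (S : Type u) [Group S] : Prop :=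
  ∃ (F : Type) (_ : Field F) (_ : Fintype F), Fintype.card F = 8 ∧
    Nonempty (S ≃* Matrix.ProjectiveSpecialLinearGroup (Fin 2) F)

/-- The form proved row by row. -/
def TwoOr (p : ℕ) (S : Type u) [Group S] : Prop :=
  Two p S ∨ DefL2 p S ∨ (p = 3 ∧ (Cfsg.IsM11 S ∨ Nonempty (S ≃* alternatingGroup (Fin 5)) ∨ L28 S))

/-- Two characters of different degrees divisible by `p`. -/
theorem two_of_degree_ne {p : ℕ} {S : Type u} [Group S] (α β : Cfsg.IrrCharacter S)
    (ha : p ∣ Cfsg.charDegree (α : S → ℂ)) (hb : p ∣ Cfsg.charDegree (β : S → ℂ))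
    (h : Cfsg.charDegree (α : S → ℂ) ≠ Cfsg.charDegree (β : S → ℂ)) : Two p S := by
  refine ⟨α, β, ha, hb, fun σ => ⟨1, fun h1 => h ?_⟩⟩
  rw [map_one] at h1
  simp only [Cfsg.charDegree, h1]

/-- **Two orbits of characters of degree divisible by `p`.** -/
def FactTwo : Prop := ∀ (S : Type u) [Group S] [Finite S] [IsSimpleGroup S], ¬ IsMulCommutative S →
  ∀ p : ℕ, p.Prime → p ∣ Nat.card S → TwoOr p S

end Cfsg.Agent.H596.OneFacts

private theorem dce_98b4c048d768 : _root_.True := by
  try have : _root_.True := by simp only [_root_.Cfsg.charDegree.eq_1]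
  exact _root_.True.intro
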