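import Cfsg.Agent.H596.OneCtx
import Cfsg.Agent.H383.Derange
import Cfsg.Agent.H597.FrobC
import Cfsg.Agent.H419.Count_m3
import Cfsg.Agent.S0188
import Cfsg.Agent.Characters.GaloisIrr
import Cfsg.Agent.H596.OneFacts
import Cfsg.Agent.FastGrp
import Cfsg.Agent.Prune
set_option linter.all false
prune_inst 0x7f00000000000000000000000000000000000000000000000000000000000000000000000000000000000000000000000000000000000000000000000000000000000000000000000000000000000000003fffffffffffffffffffffffffffbeffbdfbfeffff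
open scoped Cfsg.Agent.FastGrp

/-!
# Non-abelian minimal normal subgroups and one character of degree divisible by `p` (helper596)

* `conj_of_over` : the constituents of `χ` on a normal subgroup are conjugate;
* `two_le` : two non-conjugate irreducible characters of degree divisible by `p` of a normal subgroup;
* `two_le_of_prod` : a normal subgroup `T × C`;
* `simple_of_minimal` : a non-abelian minimal normal subgroup of order divisible by `p` is simple with
  trivial centralizer;
* `quot_zero` : `G ⧸ N` has no irreducible character of degree divisible by `p`.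
-/

set_option autoImplicit false

open Cfsg

namespace Cfsg.Agent.H596.OneNonab

open Cfsg.Agent.Characters.Core Cfsg.Agent.OddOrderCharacters.IndRes Cfsg.Agent.Blocks.Knorr
open Cfsg.Agent.H596.OneSing Cfsg.Agent.H670.PSing Cfsg.Agent.H596.OneCtx
open Cfsg.Agent.Lib.MinNormalNonabelian Cfsg.Agent.H383.Derange

universe u

variable {G : Type u} [Group G] [Finite G]

/-- Two characters with a common irreducible constituent are not orthogonal. -/
theorem classInner_ne_zero {G : Type u} [Group G] [Fintype G] {A B χ : G → ℂ} (hA : IsCharacter G A)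
    (hB : IsCharacter G B) (hχ : IsIrrCharacter G χ) (h1 : classInner A χ ≠ 0)
    (h2 : classInner B χ ≠ 0) : classInner A B ≠ 0 := by
  have hA' := OddOrderCharacters.Clifford.isCharacter_sub_irr hA hχ h1
  have hB' := OddOrderCharacters.Clifford.isCharacter_sub_irr hB hχ h2
  have hχc := isIrr_isCharacter hχ
  have e1 : A = χ + (A - χ) := by abel
  have e2 : B = χ + (B - χ) := by abel
  obtain ⟨a, ha⟩ := classInner_isNat hχc hB'
  obtain ⟨b, hb⟩ := classInner_isNat hA' hχc
  obtain ⟨c, hc⟩ := classInner_isNat hA' hB'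
  intro h0
  rw [e1, e2, classInner_add_left, classInner_add_right, classInner_add_right,
    classInner_irr_self hχ, ha, hb, hc] at h0
  have : (1 + a + (b + c) : ℕ) = 0 := by exact_mod_cast h0
  omega

/-- **Clifford**: the irreducible constituents of `χ` on a normal subgroup are conjugate. -/
theorem conj_of_over [Fintype G] (N : Subgroup G) [hN : N.Normal] [Fintype N] {θ φ : N → ℂ}
    (hθ : IsIrrCharacter N θ)
    (hφ : IsIrrCharacter N φ) {χ : G → ℂ} (hχ : IsIrrCharacter G χ)
    (h1 : classInner (res N χ) θ ≠ 0) (h2 : classInner (res N χ) φ ≠ 0) :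
    ∃ g : G, OddOrderCharacters.NormalInduced.conjFn N φ g = θ := by
  rw [← indFun_eq_iff N hθ hφ]
  rcases indFun_eq_or_classInner_eq_zero N hθ hφ with h | h
  · exact h
  · exfalso
    refine classInner_ne_zero (isCharacter_indFun N (isIrr_isCharacter hθ))
      (isCharacter_indFun N (isIrr_isCharacter hφ)) hχ ?_ ?_ h
    · rw [classInner_res_symm N (isIrr_isCharacter hθ) (isIrr_isCharacter hχ)]
      exact h1
    · rw [classInner_res_symm N (isIrr_isCharacter hφ) (isIrr_isCharacter hχ)]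
      exact h2

/-- Two irreducible characters of degree divisible by `p`. -/
theorem two_le_nSing {p : ℕ} {χ ψ : G → ℂ} (hχ : IsIrrCharacter G χ) (hψ : IsIrrCharacter G ψ)
    (hχp : p ∣ charDegree χ) (hψp : p ∣ charDegree ψ) (hne : χ ≠ ψ) : 2 ≤ nSing p G := by
  have : Finite (IrrCharacter G) := finite_irr
  have h : Nontrivial {χ : IrrCharacter G // p ∣ charDegree (χ : G → ℂ)} :=
    ⟨⟨⟨χ, hχ⟩, hχp⟩, ⟨⟨ψ, hψ⟩, hψp⟩, fun h => hne (congrArg (fun x => (x.1 : G → ℂ)) h)⟩
  exact Finite.one_lt_card_iff_nontrivial.2 h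

/-- Two non-conjugate irreducible characters of a normal subgroup. -/
theorem two_le {p : ℕ} (N : Subgroup G) [hN : N.Normal] {θ φ : N → ℂ} (hθ : IsIrrCharacter N θ)
    (hφ : IsIrrCharacter N φ) (hθp : p ∣ charDegree θ) (hφp : p ∣ charDegree φ)
    (hne : ∀ g : G, OddOrderCharacters.NormalInduced.conjFn N φ g ≠ θ) : 2 ≤ nSing p G := by
  have : Fintype G := Fintype.ofFinite G
  have : Fintype N := Fintype.ofFinite N
  obtain ⟨χ, hχ⟩ := Blocks.Over.exists_over N ⟨θ, hθ⟩
  obtain ⟨ψ, hψ⟩ := Blocks.Over.exists_over N ⟨φ, hφ⟩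
  refine two_le_nSing χ.2 ψ.2 (hθp.trans (degree_dvd_of_over N hθ χ.2 hχ))
    (hφp.trans (degree_dvd_of_over N hφ ψ.2 hψ)) ?_
  intro h
  have hψ' : classInner (res N (χ : G → ℂ)) φ ≠ 0 := by rw [h]; exact hψ
  obtain ⟨g, hg⟩ := conj_of_over N hθ hφ χ.2 hχ hψ'
  exact hne g hg

/-- A nontrivial group has a nontrivial irreducible character. -/
theorem exists_irr_ne_one (X : Type u) [Group X] [Finite X] [Nontrivial X] :
    ∃ β : X → ℂ, IsIrrCharacter X β ∧ β ≠ 1 := by
  obtain ⟨x, hx⟩ := exists_ne (1 : X)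
  by_contra hcon
  push Not at hcon
  apply hx
  have h1 : IsConj x 1 := by
    rw [Characters.GaloisIrr.isConj_iff_forall_irr]
    intro χ hχ
    rw [hcon χ hχ]
    rfl
  exact isConj_one_right.1 h1.symm

theorem charDegree_ne_one_of_dvd {p : ℕ} (hp : p.Prime) {X : Type u} [Group X] {α : X → ℂ}
    (hd : p ∣ charDegree α) : α ≠ 1 := by
  rintro rfl
  have h1 : charDegree (1 : X → ℂ) = 1 := charDegree_eq_of (by rw [Pi.one_apply, Nat.cast_one])
  rw [h1] at hd
  exact hp.one_lt.ne' (Nat.dvd_one.1 hd)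

/-- **A normal subgroup `T × C`**. -/
theorem two_le_of_prod {p : ℕ} (hp : p.Prime) {T C M : Subgroup G} [hM : M.Normal] (φ : T × C ≃* M)
    (hφ : ∀ x, (φ x : G) = x.1 * x.2)
    (hstar : ∀ g : G, (∀ c ∈ C, g * c * g⁻¹ ∈ C) ∨ (∀ t ∈ T, g * t * g⁻¹ ∈ C))
    {α : T → ℂ} (hα : IsIrrCharacter T α) (hαp : p ∣ charDegree α) {β : C → ℂ}
    (hβ : IsIrrCharacter C β) (hβ1 : β ≠ 1) : 2 ≤ nSing p G := by
  -- the characters
  obtain ⟨Θ, hΘ⟩ : ∃ Θ : (C → ℂ) → M → ℂ, ∀ γ m, Θ γ m = α (φ.symm m).1 * γ (φ.symm m).2 :=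
    ⟨fun γ m => α (φ.symm m).1 * γ (φ.symm m).2, fun _ _ => rfl⟩
  have hirr : ∀ γ : C → ℂ, IsIrrCharacter C γ → IsIrrCharacter M (Θ γ) := by
    intro γ hγ
    have h1 : Θ γ = fun m => α (φ.symm m).1 * γ (φ.symm m).2 := funext fun m => hΘ γ m
    rw [h1]
    exact isIrr_comp φ.symm.toMonoidHom φ.symm.surjective (S0188.isIrr_outer hα hγ)
  have hdeg : ∀ γ : C → ℂ, IsIrrCharacter C γ →
      charDegree (Θ γ) = charDegree α * charDegree γ := by
    intro γ hγ
    apply charDegree_eq_of
    rw [hΘ, map_one, Nat.cast_mul, ← charDegree_eq hα, ← charDegree_eq hγ]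
    rfl
  have hval : ∀ (γ : C → ℂ) (t : T) (c : C) (m : M), (m : G) = t * c → Θ γ m = α t * γ c := by
    intro γ t c m hm
    have h1 : m = φ (t, c) := Subtype.ext (hm.trans (hφ (t, c)).symm)
    rw [hΘ, h1, φ.symm_apply_apply]
  have hα1 : α 1 ≠ 0 := isIrr_apply_one_ne_zero hα
  refine two_le M (hirr β hβ) (hirr 1 isIrr_one) (by rw [hdeg β hβ]; exact Dvd.dvd.mul_right hαp _)
    (by rw [hdeg 1 isIrr_one]; exact Dvd.dvd.mul_right hαp _) ?_
  intro g hg
  -- the value at one
  have hone := congrFun hg 1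
  rw [conjFn_apply_one, hval 1 1 1 1 (by simp), hval β 1 1 1 (by simp), Pi.one_apply] at hone
  have hβ11 : β 1 = 1 := (mul_left_cancel₀ hα1 hone).symm
  rcases hstar g with h | h
  · -- `β = 1`
    apply hβ1
    funext c
    have hmem : (c : G) ∈ M := by
      have := (φ (1, c)).2
      rw [hφ] at this
      simpa using this
    have h1 := congrFun hg ⟨c, hmem⟩
    rw [OddOrderCharacters.NormalInduced.conjFn_apply, hval 1 1 ⟨g * c * g⁻¹, h c c.2⟩ _ (by simp),
      hval β 1 c _ (by simp), Pi.one_apply] at h1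
    exact (mul_left_cancel₀ hα1 h1).symm
  · -- `α = 1`
    apply charDegree_ne_one_of_dvd hp hαp
    have hconst : ∀ t : T, α t = α 1 := by
      intro t
      have hmem : (t : G) ∈ M := by
        have := (φ (t, 1)).2
        rw [hφ] at this
        simpa using this
      have h1 := congrFun hg ⟨t, hmem⟩
      rw [OddOrderCharacters.NormalInduced.conjFn_apply, hval 1 1 ⟨g * t * g⁻¹, h t t.2⟩ _ (by simp),
        hval β t 1 _ (by simp), Pi.one_apply, mul_one, hβ11, mul_one] at h1
      exact h1.symm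
    -- a constant irreducible character is trivial
    have : Fintype T := Fintype.ofFinite T
    by_contra hne
    have h0 := classInner_irr_ne hα (isIrr_one (G := T)) hne
    have h2 : α = α 1 • (1 : T → ℂ) := by
      funext t
      rw [hconst t, Pi.smul_apply, Pi.one_apply, smul_eq_mul, mul_one]
    rw [h2, classInner_smul_left, classInner_irr_self (isIrr_one (G := T)), mul_one] at h0
    exact hα1 h0

/-- The internal direct product. -/
theorem exists_prod_equiv {G : Type*} [Group G] (T C : Subgroup G) (hcomm : ∀ t ∈ T, ∀ c ∈ C, t * c = c * t)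
    (hdisj : T ⊓ C = ⊥) (M : Subgroup G) (hM : ∀ m ∈ M, ∃ t ∈ T, ∃ c ∈ C, m = t * c) (hTM : T ≤ M)
    (hCM : C ≤ M) : ∃ φ : T × C ≃* M, ∀ x, (φ x : G) = x.1 * x.2 := by
  let f : T × C →* M :=
    { toFun := fun x => ⟨x.1 * x.2, mul_mem (hTM x.1.2) (hCM x.2.2)⟩
      map_one' := Subtype.ext (by simp)
      map_mul' := fun x y => Subtype.ext (by
        show ((x.1 * y.1 : T) : G) * ((x.2 * y.2 : C) : G) = x.1 * x.2 * (y.1 * y.2)
        rw [Subgroup.coe_mul, Subgroup.coe_mul, mul_assoc, mul_assoc, ← mul_assoc (y.1 : G),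
          hcomm y.1 y.1.2 x.2 x.2.2, mul_assoc]) }
  have hf : Function.Bijective f := by
    constructor
    · rw [← MonoidHom.ker_eq_bot_iff, eq_bot_iff]
      rintro ⟨t, c⟩ h
      have h1 : (t : G) * c = 1 := congrArg Subtype.val h
      have h2 : (t : G) = (c : G)⁻¹ := eq_inv_of_mul_eq_one_left h1
      have h3 : (t : G) ∈ T ⊓ C := Subgroup.mem_inf.2 ⟨t.2, by rw [h2]; exact C.inv_mem c.2⟩
      rw [hdisj, Subgroup.mem_bot] at h3
      have h4 : (c : G) = 1 := by rw [h3, one_mul] at h1; exact h1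
      rw [Subgroup.mem_bot]
      exact Prod.ext (Subtype.ext h3) (Subtype.ext h4)
    · rintro ⟨m, hm⟩
      obtain ⟨t, ht, c, hc, rfl⟩ := hM m hm
      exact ⟨(⟨t, ht⟩, ⟨c, hc⟩), rfl⟩
  exact ⟨MulEquiv.ofBijective f hf, fun x => rfl⟩

/-- `p` divides the order of the simple factors. -/
theorem dvd_card_factor {p : ℕ} [hp : Fact p.Prime] {N T : Subgroup G} (h : NA N) (hpN : p ∣ Nat.card N)
    (hT : T ∈ minSet N) : p ∣ Nat.card T := by
  by_contra hpT
  have hall : ∀ S ∈ minSet N, ¬ p ∣ Nat.card S := by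
    intro S hS
    obtain ⟨g, rfl⟩ := h.conj T hT S hS
    rwa [Nat.card_congr (T.equivMapOfInjective _ (MulAut.conj g).injective).toEquiv.symm]
  obtain ⟨⟨x, hxN⟩, hx⟩ := exists_prime_orderOf_dvd_card' (G := N) p hpN
  rw [Subgroup.orderOf_mk] at hx
  have hxp : x ^ p = 1 := by rw [← hx]; exact pow_orderOf_eq_one x
  have hcomm : ∀ S ∈ minSet N, ∀ u ∈ S, Commute x u := by
    intro S hS
    obtain ⟨t, ht, c, hc, hcS, hxtc⟩ := h.exists_mul hS hxN
    have h1 : t ^ p * c ^ p = 1 := by
      rw [← (hcS t ht).symm.mul_pow, ← hxtc, hxp]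
    have h2 : t ^ p = 1 := by
      apply h.centerless S hS _ (pow_mem ht p)
      intro u hu
      have h3 : t ^ p = (c ^ p)⁻¹ := eq_inv_of_mul_eq_one_left h1
      rw [h3]
      exact ((hcS u hu).pow_left p).inv_left
    have h3 : t = 1 := by
      by_contra ht1
      have h4 : orderOf t = p := orderOf_eq_prime h2 ht1
      apply hall S hS
      rw [← h4]
      exact Subgroup.orderOf_dvd_natCard S ht
    intro u hu
    rw [hxtc, h3, one_mul]
    exact hcS u hu
  have h1 := mem_sSup_sdiff (K := N) h.ind (fun _ hS => hS.2.2.1) (fun _ hS => hS.1)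
    (Set.toFinite _) subset_rfl h.centerless (x := x) (by rw [h.sup]; exact hxN) hcomm
  rw [sdiff_self, Set.bot_eq_empty, sSup_empty, Subgroup.mem_bot] at h1
  rw [h1, orderOf_one] at hx
  exact hp.out.one_lt.ne hx

/-- **A non-abelian minimal normal subgroup of order divisible by `p` is simple, and its centralizer is
trivial.** -/
theorem simple_of_minimal {p : ℕ} [hp : Fact p.Prime] (hIM : H671.H5.FactIM.{u}) (hn : nSing p G ≤ 1)
    (N : Subgroup G) [hN : N.Normal]
    (hmin : ∀ M : Subgroup G, M.Normal → M ≤ N → M = ⊥ ∨ M = N)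
    (hna : ¬ ∀ x ∈ N, ∀ y ∈ N, Commute x y) (hpN : p ∣ Nat.card N) :
    IsSimpleGroup N ∧ ¬ IsMulCommutative N ∧ Subgroup.centralizer (N : Set G) = ⊥ := by
  have h := NA.of_min N hmin hna
  obtain ⟨T, hT⟩ := h.ne
  have hpT := dvd_card_factor h hpN hT
  have hTs := h.simple T hT
  have hTc := h.centerless T hT
  have hTna : ¬ IsMulCommutative T := by
    intro hc
    apply hT.2.1
    rw [eq_bot_iff]
    intro z hz
    rw [Subgroup.mem_bot]
    exact hTc z hz fun t ht => congrArg Subtype.val (hc.is_comm.comm ⟨z, hz⟩ ⟨t, ht⟩)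
  obtain ⟨α, hα⟩ := hIM T hTna p hp.out hpT
  have hT1 : T ≤ N := hT.1
  -- `N = T`
  have hNT : N = T := by
    set C := N ⊓ Subgroup.centralizer (T : Set G) with hC
    have hmemC : ∀ c, c ∈ C ↔ c ∈ N ∧ ∀ u ∈ T, Commute c u := by
      intro c
      rw [hC, Subgroup.mem_inf, Subgroup.mem_centralizer_iff]
      exact and_congr_right fun _ => ⟨fun h u hu => (h u hu).symm, fun h u hu => (h u hu).symm⟩
    by_cases hC0 : C = ⊥
    · apply le_antisymm _ hT1
      intro n hnN
      obtain ⟨t, ht, c, hc, hcT, rfl⟩ := h.exists_mul hT hnN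
      have h1 : c ∈ C := (hmemC c).2 ⟨hc, hcT⟩
      rw [hC0, Subgroup.mem_bot] at h1
      rw [h1, mul_one]; exact ht
    · exfalso
      have hdisj : T ⊓ C = ⊥ := by
        rw [eq_bot_iff]
        intro z hz
        rw [Subgroup.mem_bot]
        exact hTc z (Subgroup.mem_inf.1 hz).1 ((hmemC z).1 (Subgroup.mem_inf.1 hz).2).2
      obtain ⟨φ, hφ⟩ := exists_prod_equiv T C (fun t ht c hc => (((hmemC c).1 hc).2 t ht).symm) hdisj N
        (fun m hm => by
          obtain ⟨t, ht, c, hc, hcT, hm'⟩ := h.exists_mul hT hm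
          exact ⟨t, ht, c, (hmemC c).2 ⟨hc, hcT⟩, hm'⟩) hT1 inf_le_left
      have : Nontrivial C := (Subgroup.nontrivial_iff_ne_bot C).2 hC0
      obtain ⟨β, hβ, hβ1⟩ := exists_irr_ne_one C
      have h2 := two_le_of_prod hp.out φ hφ (by
        intro g
        rcases h.conj_eq_or_commute hT g with h1 | h1
        · left
          intro c hc
          obtain ⟨hcN, hcT⟩ := (hmemC c).1 hc
          refine (hmemC _).2 ⟨hN.conj_mem c hcN g, fun u hu => ?_⟩
          rw [← h1] at hu
          obtain ⟨v, hv, rfl⟩ := hu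
          have h2 := (hcT v hv).map (MulAut.conj g)
          simpa using h2
        · right
          intro t ht
          exact (hmemC _).2 ⟨hN.conj_mem t (hT1 ht) g, fun u hu => h1 t ht u hu⟩) α.2 hα hβ hβ1
      omega
  subst hNT
  refine ⟨hTs, hTna, ?_⟩
  by_contra hC0
  set C := Subgroup.centralizer (N : Set G) with hC
  have hmemC : ∀ c, c ∈ C ↔ ∀ u ∈ N, Commute c u := by
    intro c
    rw [hC, Subgroup.mem_centralizer_iff]
    exact ⟨fun h u hu => (h u hu).symm, fun h u hu => (h u hu).symm⟩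
  have hCn : C.Normal := by
    constructor
    intro c hc g
    refine (hmemC _).2 fun u hu => ?_
    have h1 : g⁻¹ * u * g ∈ N := by
      have := hN.conj_mem u hu g⁻¹
      rwa [inv_inv] at this
    have h2 := ((hmemC c).1 hc _ h1).map (MulAut.conj g)
    simp only [MulAut.conj_apply] at h2
    have h3 : g * (g⁻¹ * u * g) * g⁻¹ = u := by group
    rwa [h3] at h2
  have hdisj : N ⊓ C = ⊥ := by
    rw [eq_bot_iff]
    intro z hz
    rw [Subgroup.mem_bot]
    exact hTc z (Subgroup.mem_inf.1 hz).1 ((hmemC z).1 (Subgroup.mem_inf.1 hz).2)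
  obtain ⟨φ, hφ⟩ := exists_prod_equiv N C (fun t ht c hc => ((hmemC c).1 hc t ht).symm) hdisj (N ⊔ C)
    (fun m hm => by
      obtain ⟨t, ht, c, hc, h1⟩ := Subgroup.mem_sup_of_normal_left.1 hm
      exact ⟨t, ht, c, hc, h1.symm⟩) le_sup_left le_sup_right
  have : Nontrivial C := (Subgroup.nontrivial_iff_ne_bot C).2 hC0
  obtain ⟨β, hβ, hβ1⟩ := exists_irr_ne_one C
  have h2 := two_le_of_prod hp.out φ hφ (fun g => Or.inl fun c hc => hCn.conj_mem c hc g) α.2 hα hβ hβ1
  omega

/-- The quotient by a non-abelian minimal normal subgroup has no character of degree divisible by `p`. -/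
theorem quot_zero {p : ℕ} [hp : Fact p.Prime] (hExt : H671.H5.FactExt.{u}) (hn : nSing p G ≤ 1)
    (N : Subgroup G) [hN : N.Normal]
    (hmin : ∀ M : Subgroup G, M.Normal → M ≤ N → M = ⊥ ∨ M = N)
    (hna : ¬ ∀ x ∈ N, ∀ y ∈ N, Commute x y) : nSing p (G ⧸ N) = 0 := by
  by_contra h0
  have hex : ∃ β : G ⧸ N → ℂ, IsIrrCharacter (G ⧸ N) β ∧ p ∣ charDegree β := by
    by_contra hcon
    apply h0
    have : IsEmpty {χ : IrrCharacter (G ⧸ N) // p ∣ charDegree (χ : G ⧸ N → ℂ)} :=
      ⟨fun χ => hcon ⟨χ.1, χ.1.2, χ.2⟩⟩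
    exact Nat.card_of_isEmpty
  obtain ⟨β, hβ, hβp⟩ := hex
  obtain ⟨m, S, _, hF⟩ := H669.TensExt.exists_fac N hmin hna
  have := hF.finite
  have := hF.simple
  have hSna : ¬ IsMulCommutative S := by
    intro hc
    obtain ⟨a, b, hab⟩ := hF.nonab
    exact hab (hc.is_comm.comm a b)
  obtain ⟨θ, hθ1, ψ, hψ⟩ := hExt S hSna
  obtain ⟨χ, hχ, E, hE⟩ := hF.ext θ θ.2 ⟨ψ, ψ.2, hψ⟩
  -- the restriction
  have hχN : IsIrrCharacter N (fun n : N => χ n) := by
    have h1 : (fun n : N => χ n) = fun n => ∏ i, (θ : S → ℂ) (E n i) := funext hE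
    rw [h1]
    exact isIrr_comp E.toMonoidHom E.surjective (H713.isIrr_pi (ι := Fin m) θ.2)
  have hβ' : IsIrrCharacter G (β ∘ QuotientGroup.mk' N) := isIrr_comp _ (QuotientGroup.mk'_surjective N) hβ
  have hβN : ∀ k ∈ N, (β ∘ QuotientGroup.mk' N) k = (β ∘ QuotientGroup.mk' N) 1 := by
    intro k hk
    show β (QuotientGroup.mk' N k) = β (QuotientGroup.mk' N 1)
    rw [map_one, show QuotientGroup.mk' N k = 1 from (QuotientGroup.eq_one_iff k).2 hk]
  have hprod := H597.FrobC.isIrr_mul_of_restrict N hχ hχN hβ' hβN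
  have hβ1 : (β ∘ QuotientGroup.mk' N) 1 = charDegree β := by
    show β (QuotientGroup.mk' N 1) = _
    rw [map_one, charDegree_eq hβ]
  have hd1 : charDegree (β ∘ QuotientGroup.mk' N) = charDegree β := charDegree_eq_of hβ1
  have hd2 : charDegree (β ∘ QuotientGroup.mk' N * χ) = charDegree β * charDegree χ := by
    apply charDegree_eq_of
    rw [Pi.mul_apply, hβ1, charDegree_eq hχ, Nat.cast_mul]
  have h2 := two_le_nSing (p := p) hβ' hprod (by rw [hd1]; exact hβp)
    (by rw [hd2]; exact Dvd.dvd.mul_right hβp _) (by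
      intro hEq
      -- `θ` is not constant
      obtain ⟨s, hs⟩ : ∃ s : S, (θ : S → ℂ) s ≠ (θ : S → ℂ) 1 := by
        by_contra hcon
        push Not at hcon
        apply hθ1
        have : Fintype S := Fintype.ofFinite S
        by_contra hne
        have hne1 : (θ : S → ℂ) ≠ 1 := by
          intro h1
          apply hne
          rw [h1]
          exact charDegree_eq_of (by rw [Pi.one_apply, Nat.cast_one])
        have h1 := classInner_irr_ne θ.2 (isIrr_one (G := S)) hne1
        have h2 : (θ : S → ℂ) = (θ : S → ℂ) 1 • (1 : S → ℂ) := by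
          funext t
          rw [hcon t, Pi.smul_apply, Pi.one_apply, smul_eq_mul, mul_one]
        rw [h2, classInner_smul_left, classInner_irr_self (isIrr_one (G := S)), mul_one] at h1
        exact isIrr_apply_one_ne_zero θ.2 h1
      have hm : 0 < m := hF.pos
      let i₀ : Fin m := ⟨0, hm⟩
      have hθ0 : (θ : S → ℂ) 1 ≠ 0 := isIrr_apply_one_ne_zero θ.2
      have hβ0 : (β ∘ QuotientGroup.mk' N) 1 ≠ 0 := isIrr_apply_one_ne_zero hβ'
      have key : ∀ n : N, χ n = 1 := by
        intro n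
        have h3 := congrFun hEq n
        rw [Pi.mul_apply, hβN n n.2] at h3
        have h4 : (β ∘ QuotientGroup.mk' N) 1 * 1 = (β ∘ QuotientGroup.mk' N) 1 * χ n := by
          rw [mul_one]; exact h3
        exact (mul_left_cancel₀ hβ0 h4).symm
      have e1 := key (E.symm (Pi.mulSingle i₀ s))
      have e2 := key (E.symm (Pi.mulSingle i₀ 1))
      rw [hE, E.apply_symm_apply, Fintype.prod_eq_mul_prod_compl i₀] at e1 e2
      have e3 : ∀ t : S, ∏ i ∈ {i₀}ᶜ, (θ : S → ℂ) ((Pi.mulSingle i₀ t : Fin m → S) i) =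
          ∏ i ∈ ({i₀}ᶜ : Finset (Fin m)), (θ : S → ℂ) 1 := by
        intro t
        refine Finset.prod_congr rfl fun i hi => ?_
        rw [Finset.mem_compl, Finset.mem_singleton] at hi
        rw [Pi.mulSingle_eq_of_ne hi]
      rw [e3, Pi.mulSingle_eq_same] at e1 e2
      have h0 : ∏ i ∈ ({i₀}ᶜ : Finset (Fin m)), (θ : S → ℂ) 1 ≠ 0 := Finset.prod_ne_zero_iff.2 fun _ _ => hθ0
      exact hs (mul_right_cancel₀ h0 (e1.trans e2.symm)))
  omega

end Cfsg.Agent.H596.OneNonab
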