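import Cfsg.Agent.H596.OneCtx
import Cfsg.Agent.H304.CIHered
import Cfsg.Agent.S0261
import Cfsg.Agent.H571.SylowNumber
import Mathlib.GroupTheory.Transfer
import Mathlib.GroupTheory.GroupAction.Quotient
import Mathlib.Algebra.Group.Units.Defs
import Mathlib.Data.Complex.Basic
import Cfsg.Agent.S2306
import Cfsg.Agent.H981.CentAlt5
import Cfsg.Agent.TwoGenCore.IsoMEleven
import Cfsg.Agent.KFacts.MulSpor.NoDbl
import Cfsg.Agent.SporadicA.M11Facts2
import Cfsg.Agent.FooteOdd.SporMEleven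
import Cfsg.Agent.Lib.FastPerm
import Mathlib
import Cfsg.Agent.H596.FldFacts
import Cfsg.Agent.H596.OneNonab
import Cfsg.Agent.Lib.NormalAbelian
import Cfsg.Agent.S0126
import Cfsg.Agent.H586.GenAut
import Cfsg.Agent.Lib.SubnormalJoin
import Cfsg.Agent.Lib.PSolvable
import Cfsg.Agent.S0157
import Cfsg.Agent.S0856
import Cfsg.Agent.H497.AltId
import Cfsg.Agent.SectRankFour.AutM11
import Cfsg.Agent.S2300
import Cfsg.Agent.S0165
import Cfsg.Agent.H406.CritFour
import Cfsg.Agent.H710.LtwoSL2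
import Cfsg.Agent.FastGrp
import Cfsg.Agent.Prune
set_option linter.all false

section
prune_inst 0x7ffcecf9aba88ddfdfff7e3ffed0ddfc34804fffacdff94bffe069bf2f9f23020945f38509e050fe1ef6c29410a87803f9ffce7fea6bdc7ffffd5ff41ffbee1fe5f6b50851d488340f300ffe03f0778e6f3fffffffffffffffffffffffffffbefffffbfeffff

-- part: H596/OneV
section
prune_inst 0x1100214504000000001c0012f0203c06b3000530000800004864000404808e6a0080a061b030000012008845403900400008000000200000000004000118008010800200b148a008e00016800080010000000000000000000000000000000000004010000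
set_option linter.all false
open scoped Cfsg.Agent.FastGrp

-- part: H596/OneKlein
section
/-!
# The four-group in `PSL(2,F)`, `F` of odd order (helper596, for S4764)

* `klein_cond` : an element `t` of `SL(2,F)`, `t ^ 2 = -1`, normalizes no or exactly two Sylow
  `p`-subgroups, and in the last case some element commuting with `t` modulo `-1` exchanges them;
* `Ctx.caseD_PSL_odd` : `G ⧸ N = PSL(2,F)`, `N` a `p`-group: impossible for `F` of odd order.
-/

set_option autoImplicit false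

open Cfsg

namespace Cfsg.Agent.H596.OneKlein

open Matrix Cfsg.Agent.LieClassical.SLTwoUnipotent
open Cfsg.Agent.H596.OneSing Cfsg.Agent.H596.OnePart Cfsg.Agent.H596.OneL2 Cfsg.Agent.H670.PSing
  Cfsg.Agent.H596.OneCtx

universe u

section SL

variable {F : Type*} [Field F] [Fintype F] {p : ℕ} [Fact p.Prime] [CharP F p]

/-- The diagonal matrix with entries `α`, `-α`. -/
def dg (α : F) (h : α * α = -1) : _root_.Matrix.SpecialLinearGroup (Fin 2) F :=
  ⟨!![α, 0; 0, -α], by rw [det_fin_two_of]; linear_combination -h⟩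

/-- The Weyl element. -/
def wg : _root_.Matrix.SpecialLinearGroup (Fin 2) F := ⟨!![0, 1; -1, 0], by rw [det_fin_two_of]; ring⟩

omit [Fintype F] in
theorem coe_dg (α : F) (h : α * α = -1) :
    ((dg α h : _root_.Matrix.SpecialLinearGroup (Fin 2) F) : Matrix (Fin 2) (Fin 2) F) = !![α, 0; 0, -α] := rfl

omit [Fintype F] in
theorem coe_wg : ((wg : _root_.Matrix.SpecialLinearGroup (Fin 2) F) : Matrix (Fin 2) (Fin 2) F) =
    !![0, 1; -1, 0] := rfl

omit [Fintype F] in
theorem wg_mul_dg (α : F) (h : α * α = -1) : wg * dg α h = -(dg α h * wg) := by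
  apply ext_coe
  rw [coe_mul, SpecialLinearGroup.coe_neg, coe_mul, coe_wg, coe_dg]
  ext i j
  (revert i j; simp only [Matrix.mul_apply, Fin.sum_univ_two, _root_.Fin.forall_fin_succ, _root_.Matrix.of_apply, _root_.Matrix.cons_val', _root_.Matrix.cons_val_fin_one, Fin.isValue, _root_.Matrix.cons_val_zero, _root_.Matrix.cons_val_one, _root_.Matrix.cons_mul, _root_.Nat.succ_eq_add_one, Nat.reduceAdd, _root_.Matrix.vecMul_cons, _root_.Matrix.head_cons, _root_.Matrix.smul_cons, _root_.smul_eq_mul, _root_.MulZeroClass.mul_zero, _root_.mul_one, _root_.Matrix.smul_empty, _root_.Matrix.tail_cons, _root_.zero_smul, _root_.Matrix.empty_vecMul, _root_.add_zero, _root_.neg_smul, _root_.mul_neg, _root_.Matrix.neg_cons, _root_.neg_neg, _root_.neg_zero, _root_.Matrix.neg_empty, _root_.zero_add, _root_.Matrix.empty_mul, _root_.Equiv.symm_apply_apply, _root_.Matrix.neg_apply, _root_.Matrix.cons_val_succ, _root_.neg_inj, _root_.forall_const, _root_.MulZeroClass.zero_mul,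 _root_.one_mul, _root_.and_self, _root_.neg_mul, _root_.implies_true])

omit [Fintype F] in
theorem wg_mul_wg : (wg : _root_.Matrix.SpecialLinearGroup (Fin 2) F) * wg = -1 := by
  apply ext_coe
  show (!![0, 1; -1, 0] * !![0, 1; -1, 0] : Matrix (Fin 2) (Fin 2) F) = -(1 : Matrix (Fin 2) (Fin 2) F)
  ext i j
  (revert i j; simp only [Matrix.mul_apply, Fin.sum_univ_two, _root_.Fin.forall_fin_succ, _root_.Matrix.of_apply, _root_.Matrix.cons_val', _root_.Matrix.cons_val_fin_one, Fin.isValue, _root_.Matrix.cons_val_zero, _root_.Matrix.cons_val_one, _root_.Matrix.neg_apply, _root_.MulZeroClass.mul_zero, _root_.mul_neg, _root_.mul_one, _root_.zero_add, _root_.neg_inj, _root_.Matrix.cons_val_succ, _root_.add_zero, _root_.IsEmpty.forall_iff, _root_.and_true, _root_.Matrix.one_apply_eq, Nat.reduceAdd, _root_.Fin.succ_zero_eq_one, _root_.ne_eq, _root_.zero_ne_one, _root_.not_false_eq_true, _root_.Matrix.one_apply_ne, _root_.neg_zero, _root_.and_self, _root_.Fin.succ_ne_zero,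 _root_.true_and])

omit [Fintype F] in
theorem neg_eq (x : _root_.Matrix.SpecialLinearGroup (Fin 2) F) : -x = -1 * x := by
  apply ext_coe
  show -(x : Matrix (Fin 2) (Fin 2) F) = -(1 : Matrix (Fin 2) (Fin 2) F) * x
  rw [neg_mul, one_mul]

omit [Fintype F] in
theorem mul_neg_mul (a x b : _root_.Matrix.SpecialLinearGroup (Fin 2) F) : a * (-x) * b = -(a * x * b) := by
  apply ext_coe
  show (a : Matrix (Fin 2) (Fin 2) F) * (-(x : Matrix (Fin 2) (Fin 2) F)) * b =
    -((a : Matrix (Fin 2) (Fin 2) F) * x * b)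
  rw [mul_neg, neg_mul]

omit [Fintype F] in
theorem neg_one_conj (x : _root_.Matrix.SpecialLinearGroup (Fin 2) F) : -1 * x * (-1)⁻¹ = x := by
  have h : (-1 : _root_.Matrix.SpecialLinearGroup (Fin 2) F) * x = x * -1 := by
    apply ext_coe
    show -(1 : Matrix (Fin 2) (Fin 2) F) * x = (x : Matrix (Fin 2) (Fin 2) F) * -(1 : Matrix (Fin 2) (Fin 2) F)
    rw [neg_mul, one_mul, mul_neg, mul_one]
  rw [h, mul_inv_cancel_right]

theorem neg_one_smul (Q : Sylow p (_root_.Matrix.SpecialLinearGroup (Fin 2) F)) :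
    (-1 : _root_.Matrix.SpecialLinearGroup (Fin 2) F) • Q = Q := by
  apply Sylow.ext
  rw [Sylow.coe_subgroup_smul]
  ext x
  constructor
  · rintro ⟨y, hy, rfl⟩
    have h : (-1 : _root_.Matrix.SpecialLinearGroup (Fin 2) F) * y * (-1)⁻¹ = y := by
      rw [neg_one_conj]
    show (-1 : _root_.Matrix.SpecialLinearGroup (Fin 2) F) * y * (-1)⁻¹ ∈ _
    rw [h]; exact hy
  · intro hx
    refine ⟨x, hx, ?_⟩
    exact neg_one_conj x

omit [Fintype F] in
theorem coe_inv (c : _root_.Matrix.SpecialLinearGroup (Fin 2) F) :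
    ((c⁻¹ : _root_.Matrix.SpecialLinearGroup (Fin 2) F) : Matrix (Fin 2) (Fin 2) F) =
      !![c 1 1, -c 0 1; -c 1 0, c 0 0] := by
  rw [SpecialLinearGroup.SL2_inv_expl]
  rfl

theorem dg_smul (h2 : (2 : F) ≠ 0) (α : F) (h : α * α = -1)
    (Q : Sylow p (_root_.Matrix.SpecialLinearGroup (Fin 2) F)) (hQ : dg α h • Q = Q) :
    Q = upperUnipSylowSL F p ∨
      Q = (wg : _root_.Matrix.SpecialLinearGroup (Fin 2) F) • upperUnipSylowSL F p := by
  have hα : α ≠ 0 := by
    rintro rfl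
    rw [mul_zero] at h
    exact (neg_ne_zero.2 one_ne_zero) h.symm
  obtain ⟨c, rfl⟩ := exists_smul_upperUnipSylowSL_eq p Q
  have h1 : (c⁻¹ * dg α h * c) • upperUnipSylowSL F p = upperUnipSylowSL F p := by
    rw [mul_smul, mul_smul, hQ, inv_smul_smul]
  rw [smul_upperUnipSylowSL_eq_self_iff] at h1
  have h3 : c 0 0 * c 1 0 = 0 := by
    have h4 : (c⁻¹ * dg α h * c) 1 0 = -(2 * α) * (c 0 0 * c 1 0) := by
      show ((c⁻¹ * dg α h * c : _root_.Matrix.SpecialLinearGroup (Fin 2) F) : Matrix (Fin 2) (Fin 2) F) 1 0 = _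
      rw [coe_mul, coe_mul, coe_inv, coe_dg]
      simp only [Matrix.mul_apply, Fin.sum_univ_two, _root_.Fin.isValue, _root_.Matrix.cons_mul, _root_.Nat.succ_eq_add_one, _root_.Nat.reduceAdd, _root_.Matrix.vecMul_cons, _root_.Matrix.head_cons, _root_.Matrix.smul_cons, _root_.smul_eq_mul, _root_.MulZeroClass.mul_zero, _root_.Matrix.smul_empty, _root_.Matrix.tail_cons, _root_.neg_smul, _root_.mul_neg, _root_.Matrix.neg_cons, _root_.neg_zero, _root_.neg_neg, _root_.Matrix.neg_empty, _root_.Matrix.empty_vecMul, _root_.add_zero, _root_.Matrix.add_cons, _root_.zero_add, _root_.Matrix.empty_add_empty, _root_.Matrix.empty_mul, _root_.Equiv.symm_apply_apply, _root_.Matrix.of_apply, _root_.Matrix.cons_val', _root_.Matrix.cons_val_fin_one, _root_.Matrix.cons_val_one, _root_.Matrix.cons_val_zero, _root_.neg_mul]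
      ring
    rw [h4] at h1
    exact (mul_eq_zero.1 h1).resolve_left (neg_ne_zero.2 (mul_ne_zero h2 hα))
  rcases mul_eq_zero.1 h3 with h4 | h4
  · right
    have h5 : (wg⁻¹ * c) • upperUnipSylowSL F p = upperUnipSylowSL F p := by
      rw [smul_upperUnipSylowSL_eq_self_iff]
      show ((wg⁻¹ * c : _root_.Matrix.SpecialLinearGroup (Fin 2) F) : Matrix (Fin 2) (Fin 2) F) 1 0 = _
      have h6 : ((wg⁻¹ : _root_.Matrix.SpecialLinearGroup (Fin 2) F) : Matrix (Fin 2) (Fin 2) F) =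
          !![0, -1; 1, 0] := by
        rw [coe_inv]
        ext i j
        (revert i j; simp only [wg, _root_.Fin.forall_fin_succ, _root_.Fin.isValue, _root_.Matrix.of_apply, _root_.Matrix.cons_val', _root_.Matrix.cons_val_one, _root_.Matrix.cons_val_fin_one, _root_.Matrix.cons_val_zero, _root_.neg_neg, _root_.implies_true])
      rw [coe_mul, h6]
      simp [Matrix.mul_apply, Fin.sum_univ_two, h4]
    calc c • upperUnipSylowSL F p = wg • ((wg⁻¹ * c) • upperUnipSylowSL F p) := by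
          rw [smul_smul, mul_inv_cancel_left]
      _ = _ := by rw [h5]
  · left
    exact (smul_upperUnipSylowSL_eq_self_iff p).2 h4

/-- The elements of square `-1` and the Sylow subgroups. -/
theorem klein_SL (h2 : (2 : F) ≠ 0) (t : _root_.Matrix.SpecialLinearGroup (Fin 2) F) (ht : t * t = -1) :
    (∀ Q : Sylow p (_root_.Matrix.SpecialLinearGroup (Fin 2) F), t • Q ≠ Q) ∨
      ∃ (Q₁ Q₂ : Sylow p (_root_.Matrix.SpecialLinearGroup (Fin 2) F)) (w : _root_.Matrix.SpecialLinearGroup (Fin 2) F),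
        Q₁ ≠ Q₂ ∧ (∀ Q, t • Q = Q → Q = Q₁ ∨ Q = Q₂) ∧ w * t = -(t * w) ∧ w • Q₁ = Q₂ ∧
          w • Q₂ = Q₁ := by
  by_cases h0 : ∀ Q : Sylow p (_root_.Matrix.SpecialLinearGroup (Fin 2) F), t • Q ≠ Q
  · exact Or.inl h0
  right
  push Not at h0
  obtain ⟨Q, hQ⟩ := h0
  obtain ⟨c, rfl⟩ := exists_smul_upperUnipSylowSL_eq p Q
  obtain ⟨s, hs⟩ : ∃ s, s = c⁻¹ * t * c := ⟨_, rfl⟩
  have h1 : s • upperUnipSylowSL F p = upperUnipSylowSL F p := by
    rw [hs, mul_smul, mul_smul, hQ, inv_smul_smul]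
  rw [smul_upperUnipSylowSL_eq_self_iff] at h1
  have hss : s * s = -1 := by
    have h3 : s * s = c⁻¹ * (t * t) * c := by rw [hs]; group
    rw [h3, ht, mul_neg_mul, mul_one, inv_mul_cancel]
  have hmat : (s : Matrix (Fin 2) (Fin 2) F) * s = -1 := by
    rw [← coe_mul, hss]
    rfl
  have h00 := congrFun (congrFun hmat 0) 0
  have hdet : s 0 0 * s 1 1 - s 0 1 * s 1 0 = 1 := by
    have := s.2
    rw [det_fin_two] at this
    exact this
  simp only [Matrix.mul_apply, Fin.sum_univ_two, Matrix.neg_apply, Matrix.one_apply_eq] at h00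
  have h1' : (s : Matrix (Fin 2) (Fin 2) F) 1 0 = 0 := h1
  rw [h1'] at h00 hdet
  rw [mul_zero, add_zero] at h00
  rw [mul_zero, sub_zero] at hdet
  set α : F := s 0 0 with hαd
  have hα : α ≠ 0 := by
    intro h3
    rw [h3, zero_mul] at hdet
    exact zero_ne_one hdet
  have h11 : (s : Matrix (Fin 2) (Fin 2) F) 1 1 = -α := by
    have h3 : α * ((s : Matrix (Fin 2) (Fin 2) F) 1 1 + α) = 0 := by
      rw [mul_add, hdet, h00]; ring
    exact eq_neg_of_add_eq_zero_left ((mul_eq_zero.1 h3).resolve_left hα)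
  -- diagonalize
  set x : F := -(s 0 1) / (2 * α) with hx
  have hconj : s * u x = u x * dg α h00 := by
    apply ext_coe
    rw [coe_mul, coe_mul, coe_u, coe_dg]
    have hs' : (s : Matrix (Fin 2) (Fin 2) F) = !![α, s 0 1; 0, -α] := by
      ext i j
      fin_cases i <;> fin_cases j
      · rfl
      · rfl
      · exact h1'
      · exact h11
    rw [hs']
    ext i j
    (revert i j; simp only [Matrix.mul_apply, Fin.sum_univ_two, _root_.Fin.forall_fin_succ, Fin.isValue, _root_.Matrix.of_apply, _root_.Matrix.cons_val', _root_.Matrix.cons_val_fin_one, _root_.Matrix.cons_val_zero, _root_.Matrix.cons_val_one, _root_.mul_one, _root_.MulZeroClass.mul_zero, _root_.add_zero, _root_.Matrix.cons_val_succ, _root_.mul_neg, _root_.zero_add, _root_.forall_const, _root_.one_mul, _root_.MulZeroClass.zero_mul, _root_.implies_true, _root_.and_true, _root_.true_and]) <;> (repeat' with_reducible apply And.intro)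
    rw [hx]
    field_simp
    ring
  set c' := c * u x with hc'
  have htc : t = c' * dg α h00 * c'⁻¹ := by
    have h3 : t * c' = c' * dg α h00 := by
      calc t * c' = c * (s * u x) := by rw [hc', hs]; group
        _ = c' * dg α h00 := by rw [hconj, hc', mul_assoc]
    rw [← h3]; group
  have hne : upperUnipSylowSL F p ≠
      (wg : _root_.Matrix.SpecialLinearGroup (Fin 2) F) • upperUnipSylowSL F p := by
    intro h3
    have h4 : (wg : _root_.Matrix.SpecialLinearGroup (Fin 2) F) 1 0 = 0 :=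
      (smul_upperUnipSylowSL_eq_self_iff p).1 h3.symm
    have h5 : (-1 : F) = 0 := h4
    exact (neg_ne_zero.2 one_ne_zero) h5
  refine ⟨c' • upperUnipSylowSL F p,
    c' • ((wg : _root_.Matrix.SpecialLinearGroup (Fin 2) F) • upperUnipSylowSL F p), c' * wg * c'⁻¹, ?_, ?_, ?_,
    ?_, ?_⟩
  · intro h3
    exact hne (smul_left_cancel _ h3)
  · intro Q hQ
    rw [htc] at hQ
    have h3 : dg α h00 • (c'⁻¹ • Q) = c'⁻¹ • Q := by
      have h4 := congrArg (fun R => c'⁻¹ • R) hQ
      simpa only [smul_smul, mul_assoc, inv_mul_cancel_left] using h4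
    rcases dg_smul h2 α h00 _ h3 with h4 | h4
    · left; rw [← h4, smul_inv_smul]
    · right; rw [← h4, smul_inv_smul]
  · rw [htc]
    have h3 : c' * wg * c'⁻¹ * (c' * dg α h00 * c'⁻¹) = c' * (wg * dg α h00) * c'⁻¹ := by group
    have h4 : c' * dg α h00 * c'⁻¹ * (c' * wg * c'⁻¹) = c' * (dg α h00 * wg) * c'⁻¹ := by group
    rw [h3, h4, wg_mul_dg, mul_neg_mul]
  · rw [smul_smul, smul_smul]
    congr 1
    group
  · rw [smul_smul, smul_smul]
    have h3 : c' * wg * c'⁻¹ * c' * wg = c' * (wg * wg) := by group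
    rw [h3, wg_mul_wg, mul_smul, neg_one_smul]

/-- The same in a quotient. -/
theorem klein_quot {X : Type*} [Group X] [Finite X] (f : _root_.Matrix.SpecialLinearGroup (Fin 2) F →* X)
    (hf : Function.Surjective f) (hX : Nat.card (Sylow p X) = Fintype.card F + 1)
    (hneg : f (-1) = 1) (h2 : (2 : F) ≠ 0) (t : _root_.Matrix.SpecialLinearGroup (Fin 2) F) (ht : t * t = -1) :
    (∀ Q : Sylow p X, f t • Q ≠ Q) ∨ ∃ (Q₁ Q₂ : Sylow p X) (w : X),
        Q₁ ≠ Q₂ ∧ (∀ Q, f t • Q = Q → Q = Q₁ ∨ Q = Q₂) ∧ w * f t = f t * w ∧ w • Q₁ = Q₂ ∧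
          w • Q₂ = Q₁ := by
  classical
  have hinj : Function.Injective (fun Q : Sylow p (_root_.Matrix.SpecialLinearGroup (Fin 2) F) =>
      Q.mapSurjective hf) := by
    have : Fintype (Sylow p (_root_.Matrix.SpecialLinearGroup (Fin 2) F)) := Fintype.ofFinite _
    exact ((Nat.bijective_iff_surjective_and_card _).2 ⟨Sylow.mapSurjective_surjective hf p, by
      rw [hX, ll_SL.card]⟩).1
  have hsm : ∀ (c : _root_.Matrix.SpecialLinearGroup (Fin 2) F) (Q : Sylow p (_root_.Matrix.SpecialLinearGroup (Fin 2) F)),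
      f c • (Q.mapSurjective hf : Sylow p X) = (c • Q).mapSurjective hf := fun c Q =>
    (H304.CIHered.map_smul_eq hf Q c).symm
  rcases klein_SL (p := p) h2 t ht with h | ⟨Q₁, Q₂, w, hne, hfix, hcomm, hw1, hw2⟩
  · left
    intro Q hQ
    obtain ⟨Q, rfl⟩ := Sylow.mapSurjective_surjective hf p Q
    rw [hsm] at hQ
    exact h Q (hinj hQ)
  · right
    refine ⟨Q₁.mapSurjective hf, Q₂.mapSurjective hf, f w, fun h => hne (hinj h), ?_, ?_, ?_, ?_⟩
    · intro Q hQ
      obtain ⟨Q, rfl⟩ := Sylow.mapSurjective_surjective hf p Q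
      rw [hsm] at hQ
      rcases hfix Q (hinj hQ) with h | h
      · left; rw [h]
      · right; rw [h]
    · rw [← map_mul, ← map_mul, hcomm]
      rw [neg_eq, map_mul, hneg, one_mul]
    · rw [hsm, hw1]
    · rw [hsm, hw2]

/-- The second generator of the four-group. -/
def vg (a b : F) (h : a ^ 2 + b ^ 2 = -1) : _root_.Matrix.SpecialLinearGroup (Fin 2) F :=
  ⟨!![a, b; b, -a], by rw [det_fin_two_of]; linear_combination -h⟩

omit [Fintype F] in
theorem vg_mul_vg (a b : F) (h : a ^ 2 + b ^ 2 = -1) : vg a b h * vg a b h = -1 := by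
  apply ext_coe
  show (!![a, b; b, -a] * !![a, b; b, -a] : Matrix (Fin 2) (Fin 2) F) = -(1 : Matrix (Fin 2) (Fin 2) F)
  ext i j
  (revert i j; simp only [Matrix.mul_apply, Fin.sum_univ_two, _root_.Fin.forall_fin_succ, _root_.Matrix.of_apply, _root_.Matrix.cons_val', _root_.Matrix.cons_val_fin_one, Fin.isValue, _root_.Matrix.cons_val_zero, _root_.Matrix.cons_val_one, _root_.Matrix.neg_apply, _root_.Matrix.cons_val_succ, _root_.mul_neg, _root_.IsEmpty.forall_iff, _root_.Matrix.one_apply_eq, Nat.reduceAdd, _root_.Fin.succ_zero_eq_one, _root_.ne_eq, _root_.zero_ne_one, _root_.not_false_eq_true, _root_.Matrix.one_apply_ne, _root_.neg_zero, _root_.neg_mul, _root_.Fin.succ_ne_zero, _root_.neg_neg, _root_.and_true, _root_.true_and]) <;> (repeat' with_reducible apply And.intro)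
  · linear_combination h
  · ring
  · ring
  · linear_combination h

omit [Fintype F] in
theorem wv_mul_wv (a b : F) (h : a ^ 2 + b ^ 2 = -1) :
    wg * vg a b h * (wg * vg a b h) = -1 := by
  apply ext_coe
  show (!![0, 1; -1, 0] * !![a, b; b, -a] * (!![0, 1; -1, 0] * !![a, b; b, -a]) :
    Matrix (Fin 2) (Fin 2) F) = -(1 : Matrix (Fin 2) (Fin 2) F)
  ext i j
  (revert i j; simp only [Matrix.mul_apply, Fin.sum_univ_two, _root_.Fin.forall_fin_succ, _root_.Matrix.cons_mul, _root_.Nat.succ_eq_add_one, Nat.reduceAdd, _root_.Matrix.vecMul_cons, _root_.Matrix.head_cons, _root_.zero_smul, _root_.Matrix.tail_cons, _root_.one_smul, _root_.Matrix.empty_vecMul, _root_.add_zero, _root_.zero_add, _root_.neg_smul, _root_.Matrix.neg_cons, _root_.Matrix.neg_empty, _root_.Matrix.empty_mul, _root_.Equiv.symm_apply_apply, _root_.Matrix.of_apply, _root_.Matrix.cons_val', _root_.Matrix.cons_val_fin_one, Fin.isValue, _root_.Matrix.cons_val_zero, _root_.Matrix.cons_val_one,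 _root_.Matrix.neg_apply, _root_.mul_neg, _root_.Matrix.cons_val_succ, _root_.IsEmpty.forall_iff, _root_.neg_mul, _root_.neg_neg, _root_.Matrix.one_apply_eq, _root_.Fin.succ_zero_eq_one, _root_.ne_eq, _root_.zero_ne_one, _root_.not_false_eq_true, _root_.Matrix.one_apply_ne, _root_.neg_zero, _root_.Fin.succ_ne_zero, _root_.and_true, _root_.true_and]) <;> (repeat' with_reducible apply And.intro)
  · linear_combination h
  · ring
  · ring
  · linear_combination h

end SL

/-- A quotient of `SL(2,F)`, `F` of odd order, by a subgroup containing `-1`, with `|F| + 1` Sylow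
`p`-subgroups, does not act on a nontrivial abelian group in such a way that every nontrivial element
is fixed by exactly one Sylow `p`-subgroup. -/
theorem trivial_of_odd {F : Type*} [Field F] [Fintype F] {p : ℕ} [Fact p.Prime] [CharP F p]
    {X A : Type*} [Group X] [Finite X] [CommGroup A] (ρ : X →* MulAut A)
    (f : _root_.Matrix.SpecialLinearGroup (Fin 2) F →* X) (hf : Function.Surjective f)
    (hX : Nat.card (Sylow p X) = Fintype.card F + 1) (hneg : f (-1) = 1) (hodd : Odd (Fintype.card F))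
    (h : ∀ a : A, a ≠ 1 → ∃! Q : Sylow p X, (Q : Subgroup X) ≤ St ρ a) (a : A) : a = 1 := by
  have h2 : (2 : F) ≠ 0 := by
    intro h0
    have h1 : ringChar F = 2 := by
      have := ringChar.dvd (R := F) (x := 2) (by exact_mod_cast h0)
      rcases (Nat.dvd_prime Nat.prime_two).1 this with h3 | h3
      · exact absurd h3 (CharP.ringChar_ne_one)
      · exact h3
    have := FiniteField.even_card_iff_char_two.1 h1
    rw [Nat.odd_iff] at hodd
    omega
  obtain ⟨x, y, hxy⟩ := S0261.exists_sq_add_sq hodd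
  have key : ∀ t : _root_.Matrix.SpecialLinearGroup (Fin 2) F, t * t = -1 → ∀ b : A, ρ (f t) b = b → b = 1 :=
    fun t ht b hb => fix_trivial ρ h (f t) (klein_quot f hf hX hneg h2 t ht) hb
  have sq : ∀ t : _root_.Matrix.SpecialLinearGroup (Fin 2) F, t * t = -1 → ∀ b : A, ρ (f t) (ρ (f t) b) = b := by
    intro t ht b
    rw [← MulAut.mul_apply, ← map_mul, ← map_mul, ht, hneg, map_one]
    rfl
  refine eq_one_of_klein ρ (f wg) (f (vg x y hxy)) (sq _ wg_mul_wg) (sq _ (vg_mul_vg x y hxy))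
    (key _ wg_mul_wg) (key _ (vg_mul_vg x y hxy)) ?_ a
  intro b hb
  rw [← map_mul] at hb
  exact key _ (wv_mul_wv x y hxy) b hb

section caseD

variable {p : ℕ} {G : Type u} [Group G] [Finite G] {N : Subgroup G}

/-- Case D: the partition. -/
theorem partD [hp : Fact p.Prime] (h : Ctx p p N) [N.Normal] (hIM : AllIM.{u} p)
    (b : N →* ℂˣ) (hb : b ≠ 1) :
    ∃! Q : Sylow p (G ⧸ N), (Q : Subgroup (G ⧸ N)) ≤ St (act N h.comm) b := by
  obtain ⟨F, hF⟩ := ext_of_pgroup N h.pgr h.prm hb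
  exact (unique_of_ext N h.comm h.prm (fun T => hIM T) hb F hF).1

theorem caseD_card [hp : Fact p.Prime] (h : Ctx p p N) [N.Normal] (hIM : AllIM.{u} p) {a : ℕ}
    (ha : 0 < a) (hL : LL p (p ^ a) (G ⧸ N)) : Nat.card N = (p ^ a) ^ 2 := by
  have := finite_hom h.comm
  obtain ⟨m, hm, hcard⟩ := h.card
  have hA : Nat.card (N →* ℂˣ) = p ^ m := by rw [card_hom h.comm, hcard]
  rcases hL.arith ha (act N h.comm) hp.out hm hA
    (fun b hb => (by exact exists_sylow_le N h.comm h.prm hb)) with ⟨b, hb, hfix⟩ | h1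
  · exfalso
    obtain ⟨Q, -, hQ⟩ := partD h hIM b hb
    have h1 : Nat.card (Sylow p (G ⧸ N)) = 1 := by
      rw [Nat.card_eq_one_iff_unique]
      refine ⟨⟨fun P R => ?_⟩, inferInstance⟩
      rw [hQ P (by show (P : Subgroup (G ⧸ N)) ≤ _; rw [hfix]; exact le_top),
        hQ R (by show (R : Subgroup (G ⧸ N)) ≤ _; rw [hfix]; exact le_top)]
    rw [hL.card] at h1
    have := pow_pos hp.out.pos a
    omega
  · rw [hcard, h1.2]

/-- Case D, `G ⧸ N = PSL(2,F)`, `F` of odd order: impossible. -/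
theorem caseD_PSL_odd [hp : Fact p.Prime] (h : Ctx p p N) [N.Normal] (hIM : AllIM.{u} p)
    {F : Type} [Field F] [Fintype F] [CharP F p] (hodd : Odd (Fintype.card F))
    (e : G ⧸ N ≃* Matrix.ProjectiveSpecialLinearGroup (Fin 2) F) : False := by
  let f : _root_.Matrix.SpecialLinearGroup (Fin 2) F →* G ⧸ N := e.symm.toMonoidHom.comp (QuotientGroup.mk' _)
  have hf : Function.Surjective f := e.symm.surjective.comp (QuotientGroup.mk'_surjective _)
  have hL : LL p (Fintype.card F) (G ⧸ N) := (ll_PSL (F := F) (p := p)).of_equiv e.symm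
  have hneg : f (-1) = 1 := by
    show e.symm (QuotientGroup.mk' _ (-1)) = 1
    rw [map_eq_one_iff _ e.symm.injective]
    apply (QuotientGroup.eq_one_iff _).2
    rw [Subgroup.mem_center_iff]
    intro g
    have h1 := neg_one_conj g
    rw [mul_inv_eq_iff_eq_mul] at h1
    exact h1.symm
  have h1 := trivial_of_odd (A := N →* ℂˣ) (act N h.comm) f hf hL.card hneg hodd (partD h hIM)
  obtain ⟨m, hm, hcard⟩ := h.card
  have h2 : Nat.card (N →* ℂˣ) = 1 := Nat.card_eq_one_iff_unique.2 ⟨⟨fun a b => by rw [h1 a, h1 b]⟩, ⟨1⟩⟩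
  rw [card_hom h.comm] at h2
  exact h.ne (Subgroup.card_eq_one.1 h2)

end caseD

end Cfsg.Agent.H596.OneKlein
end

-- part: H596/OneV
section
/-!
# The case of a quotient `V . SL(2,F)` (helper596, for S4764)

* `Ctx.quot` : passing to the quotient by a normal subgroup `K` with `K ⊓ N = ⊥`;
* `Ctx.caseC_V`, `caseD_V` : `G ⧸ N` has a normal `p`-subgroup `V` with quotient `SL(2,F)`.
-/

set_option autoImplicit false

open Cfsg

namespace Cfsg.Agent.H596.OneV

open Cfsg.Agent.H596.OneSing Cfsg.Agent.H596.OnePart Cfsg.Agent.H596.OneL2 Cfsg.Agent.H670.PSing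
  Cfsg.Agent.H596.OneCtx Cfsg.Agent.H596.OneKlein
open Cfsg.Agent.Characters.Core Cfsg.Agent.OddOrderCharacters.IndRes Cfsg.Agent.Blocks.Knorr

universe u

section

variable {G : Type u} [Group G] {N : Subgroup G}

theorem separates [Finite G] (hc : ∀ a ∈ N, ∀ b ∈ N, a * b = b * a) {n : N} (hn : n ≠ 1) :
    ∃ lam : N →* ℂˣ, lam n ≠ 1 := by
  let _ : CommGroup N := { (inferInstance : Group N) with
    mul_comm := fun a b => Subtype.ext (hc a a.2 b b.2) }
  exact CommGroup.exists_apply_ne_one_of_hasEnoughRootsOfUnity N ℂ hn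

/-- An element acting trivially on the linear characters of `N` centralizes `N`. -/
theorem comm_of_act [Finite G] [N.Normal] (hc : ∀ a ∈ N, ∀ b ∈ N, a * b = b * a) {g : G}
    (hg : ∀ lam : N →* ℂˣ, act N hc (QuotientGroup.mk' N g) lam = lam) : ∀ n ∈ N, g * n = n * g := by
  intro n hn
  have h1 : (MulAut.conjNormal g : MulAut N).symm ⟨n, hn⟩ = ⟨n, hn⟩ := by
    by_contra hne
    have h2 : ((MulAut.conjNormal g : MulAut N).symm ⟨n, hn⟩) * (⟨n, hn⟩ : N)⁻¹ ≠ 1 := fun h =>
      hne (mul_inv_eq_one.1 h)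
    obtain ⟨lam, hlam⟩ := separates hc h2
    apply hlam
    rw [map_mul, map_inv, mul_inv_eq_one]
    have h3 := DFunLike.congr_fun (hg lam) ⟨n, hn⟩
    rw [act_mk] at h3
    exact h3
  have h2 := congrArg Subtype.val h1
  rw [MulAut.conjNormal_symm_apply] at h2
  have h3 : g⁻¹ * n * g = n := h2
  calc g * n = g * (g⁻¹ * n * g) := by rw [h3]
    _ = n * g := by group

end

/-- A normal `p`-subgroup does not matter for the property `LL`. -/
theorem ll_of_pker {p q : ℕ} [Fact p.Prime] {X : Type*} [Group X] [Finite X] (V : Subgroup X)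
    [V.Normal] (hV : IsPGroup p V) (h : LL p q (X ⧸ V)) : LL p q X := by
  have hf := QuotientGroup.mk'_surjective V
  have hk : IsPGroup p (QuotientGroup.mk' V).ker := by rw [QuotientGroup.ker_mk']; exact hV
  refine ⟨fun P Q hPQ => ?_, ?_⟩
  · have hP : V ≤ P := hV.le_sylow_of_normal P
    have hQ : V ≤ Q := hV.le_sylow_of_normal Q
    have h1 := h.gen (P.mapSurjective hf) (Q.mapSurjective hf) (by
      intro h1
      apply hPQ
      apply Sylow.ext
      have h2 : (P : Subgroup X).map (QuotientGroup.mk' V) = (Q : Subgroup X).map (QuotientGroup.mk' V) :=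
        congrArg (fun S : Sylow p (X ⧸ V) => (S : Subgroup (X ⧸ V))) h1
      have h3 := congrArg (Subgroup.comap (QuotientGroup.mk' V)) h2
      rwa [Subgroup.comap_map_eq_self (by rw [QuotientGroup.ker_mk']; exact hP),
        Subgroup.comap_map_eq_self (by rw [QuotientGroup.ker_mk']; exact hQ)] at h3)
    rw [Sylow.coe_mapSurjective, Sylow.coe_mapSurjective, ← Subgroup.map_sup] at h1
    have h2 := congrArg (Subgroup.comap (QuotientGroup.mk' V)) h1
    rwa [Subgroup.comap_map_eq_self (by rw [QuotientGroup.ker_mk']; exact hP.trans le_sup_left),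
      Subgroup.comap_top] at h2
  · rw [← h.card]
    exact H571.SylowNumber.card_sylow_of_surjective (QuotientGroup.mk' V) hf hk

section

variable {p r : ℕ} {G : Type u} [Group G] [Finite G] {N : Subgroup G}

/-- Passing to the quotient by `K`, `K ⊓ N = ⊥`. -/
theorem Ctx.quot (h : Ctx p r N) (K : Subgroup G) [K.Normal] (hK : K ⊓ N = ⊥) :
    Ctx p r (N.map (QuotientGroup.mk' K)) := by
  have hN := h.norm
  have hs := QuotientGroup.mk'_surjective K
  refine ⟨hN.map _ hs, ?_, ?_, ?_, ?_, ?_, ?_⟩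
  · intro h0
    rw [Subgroup.map_eq_bot_iff, QuotientGroup.ker_mk'] at h0
    exact h.ne (by rw [← hK, inf_eq_right.2 h0])
  · intro M hM hMN
    set M' := M.comap (QuotientGroup.mk' K) with hM'
    have hM'n : M'.Normal := hM.comap _
    have hKM : K ≤ M' := by
      rw [hM']
      intro x hx
      rw [Subgroup.mem_comap]
      have : QuotientGroup.mk' K x = 1 := (QuotientGroup.eq_one_iff x).2 hx
      rw [this]; exact one_mem _
    have hMM : M = M'.map (QuotientGroup.mk' K) := (Subgroup.map_comap_eq_self_of_surjective hs M).symm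
    have hM'N : ∀ x ∈ M', ∃ n ∈ N, ∃ k ∈ K, x = n * k := by
      intro x hx
      obtain ⟨n, hn, hnx⟩ := hMN hx
      have : n⁻¹ * x ∈ K := QuotientGroup.eq.1 hnx
      exact ⟨n, hn, _, this, by group⟩
    have hinf : (M' ⊓ N).Normal := inferInstance
    rcases h.min _ hinf inf_le_right with h1 | h1
    · left
      rw [hMM, Subgroup.map_eq_bot_iff, QuotientGroup.ker_mk']
      intro x hx
      obtain ⟨n, hn, k, hk, rfl⟩ := hM'N x hx
      have h2 : n ∈ M' := by
        have := mul_mem hx (inv_mem (hKM hk))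
        rwa [mul_inv_cancel_right] at this
      have h3 : n ∈ M' ⊓ N := ⟨h2, hn⟩
      rw [h1, Subgroup.mem_bot] at h3
      rw [h3, one_mul]
      exact hk
    · right
      apply le_antisymm hMN
      rw [hMM]
      apply Subgroup.map_mono
      rw [← h1]
      exact inf_le_left
  · rintro _ ⟨a, ha, rfl⟩ _ ⟨b, hb, rfl⟩
    rw [← map_mul, ← map_mul, h.comm a ha b hb]
  · exact h.pgr.map _
  · rintro _ ⟨a, ha, rfl⟩
    rw [← map_pow, h.pow a ha, map_one]
  · rintro χ hχ ⟨_, ⟨n, hn, rfl⟩, hne⟩ hd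
    have h1 : IsIrrCharacter G (χ ∘ QuotientGroup.mk' K) := isIrr_comp _ hs hχ
    refine h.prm _ h1 ⟨n, hn, ?_⟩ ?_
    · show χ (QuotientGroup.mk' K n) ≠ χ (QuotientGroup.mk' K 1)
      rw [map_one]; exact hne
    · have h2 : charDegree (χ ∘ QuotientGroup.mk' K) = charDegree χ := by
        apply charDegree_eq_of
        show χ (QuotientGroup.mk' K 1) = _
        rw [map_one, charDegree_eq hχ]
      rw [h2]; exact hd

/-- Case C, `G ⧸ N = V . SL(2,F)`: impossible. -/
theorem Ctx.caseC_V [hp : Fact p.Prime] (h : Ctx p r N) [N.Normal] (hr : r.Prime) (hrp : r ≠ p)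
    (hIM : AllIM.{u} p) {F : Type} [Field F] [Fintype F] [CharP F p] (h4 : 4 ≤ Fintype.card F)
    (V : Subgroup (G ⧸ N)) [hVn : V.Normal] (hV : IsPGroup p V)
    (e : (G ⧸ N) ⧸ V ≃* Matrix.SpecialLinearGroup (Fin 2) F) : False := by
  have hrF := Fact.mk hr
  set U := V.comap (QuotientGroup.mk' N) with hU
  have hUn : U.Normal := hVn.comap _
  have hNU : N ≤ U := by
    intro x hx
    rw [hU, Subgroup.mem_comap]
    have : QuotientGroup.mk' N x = 1 := (QuotientGroup.eq_one_iff x).2 hx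
    rw [this]; exact one_mem _
  have hUV : U.map (QuotientGroup.mk' N) = V :=
    Subgroup.map_comap_eq_self_of_surjective (QuotientGroup.mk'_surjective N) V
  -- `U` centralizes `N`
  have hcent : ∀ g ∈ U, ∀ n ∈ N, g * n = n * g := by
    intro g hg
    apply comm_of_act h.comm
    intro lam
    by_cases hlam : lam = 1
    · rw [hlam, map_one]
    · obtain ⟨Q, hQ⟩ := exists_sylow_le N h.comm h.prm hlam
      exact hQ (hV.le_sylow_of_normal Q hg)
  -- the Sylow subgroup of `U`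
  obtain ⟨P⟩ : Nonempty (Sylow p U) := inferInstance
  have hsup : (P : Subgroup U) ⊔ N.subgroupOf U = ⊤ := by
    rw [← Subgroup.index_eq_one]
    have h1 : ((P : Subgroup U) ⊔ N.subgroupOf U).index ∣ (P : Subgroup U).index :=
      Subgroup.index_dvd_of_le le_sup_left
    have h2 : ((P : Subgroup U) ⊔ N.subgroupOf U).index ∣ (N.subgroupOf U).index :=
      Subgroup.index_dvd_of_le le_sup_right
    have h3 : (N.subgroupOf U).index = Nat.card V := by
      have h5 := Subgroup.relIndex_ker U (QuotientGroup.mk' N)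
      rw [QuotientGroup.ker_mk', hUV] at h5
      exact h5
    obtain ⟨k, hk⟩ := (IsPGroup.iff_card (p := p)).1 hV
    rw [h3, hk] at h2
    obtain ⟨j, -, hj⟩ := (Nat.dvd_prime_pow hp.out).1 h2
    rcases Nat.eq_zero_or_pos j with h0 | h0
    · rw [hj, h0, pow_zero]
    · exfalso
      exact P.not_dvd_index ((dvd_pow_self p h0.ne').trans (hj ▸ h1))
  have hPn : (P : Subgroup U).Normal := by
    constructor
    intro x hx g
    have hg : g ∈ (P : Subgroup U) ⊔ N.subgroupOf U := by rw [hsup]; trivial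
    obtain ⟨y, hy, n, hn, rfl⟩ := Subgroup.mem_sup_of_normal_right.1 hg
    have h1 : n * x * n⁻¹ = x := by
      apply Subtype.ext
      show (n : G) * x * (n : G)⁻¹ = x
      rw [← hcent x x.2 n (Subgroup.mem_subgroupOf.1 hn), mul_inv_cancel_right]
    have h2 : y * n * x * (y * n)⁻¹ = y * (n * x * n⁻¹) * y⁻¹ := by group
    rw [h2, h1]
    exact mul_mem (mul_mem hy hx) (inv_mem hy)
  have hPc : (P : Subgroup U).Characteristic := Sylow.characteristic_of_normal P hPn
  set K := (P : Subgroup U).map U.subtype with hK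
  have hKn : K.Normal := ConjAct.normal_of_characteristic_of_normal
  have hKU : K ≤ U := Subgroup.map_subtype_le _
  have hKp : IsPGroup p K := P.isPGroup'.map _
  have hKN : K ⊓ N = ⊥ := by
    have := IsPGroup.disjoint_of_ne p r hrp.symm K N hKp h.pgr
    exact disjoint_iff.1 this
  have hKNU : K ⊔ N = U := by
    have h1 := congrArg (Subgroup.map U.subtype) hsup
    rw [Subgroup.map_sup, Subgroup.subgroupOf_map_subtype, inf_eq_left.2 hNU,
      ← MonoidHom.range_eq_map, Subgroup.range_subtype] at h1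
    exact h1
  -- the quotient
  have hc := Ctx.quot h K hKN
  have hcn := hc.norm
  have hEq : N.map (QuotientGroup.mk' K) = U.map (QuotientGroup.mk' K) := by
    rw [← hKNU, Subgroup.map_sup]
    have h1 : K.map (QuotientGroup.mk' K) = ⊥ := by
      rw [Subgroup.map_eq_bot_iff, QuotientGroup.ker_mk']
    rw [h1, bot_sup_eq]
  have e1 : (G ⧸ K) ⧸ N.map (QuotientGroup.mk' K) ≃* (G ⧸ K) ⧸ U.map (QuotientGroup.mk' K) :=
    QuotientGroup.quotientMulEquivOfEq hEq
  have e2 : (G ⧸ K) ⧸ U.map (QuotientGroup.mk' K) ≃* G ⧸ U :=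
    QuotientGroup.quotientQuotientEquivQuotient K U hKU
  have e3 : (G ⧸ N) ⧸ U.map (QuotientGroup.mk' N) ≃* G ⧸ U :=
    QuotientGroup.quotientQuotientEquivQuotient N U hNU
  have e4 : (G ⧸ N) ⧸ U.map (QuotientGroup.mk' N) ≃* (G ⧸ N) ⧸ V :=
    QuotientGroup.quotientMulEquivOfEq hUV
  exact hc.caseC_SL hr hrp hIM h4 ((e1.trans e2).trans ((e3.symm.trans e4).trans e))

/-- Case D, `G ⧸ N = V . SL(2,F)`: impossible. -/
theorem caseD_V [hp : Fact p.Prime] (h : Ctx p p N) [N.Normal] (hIM : AllIM.{u} p)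
    (hn : nSing p (G ⧸ N) ≤ 1)
    {F : Type} [Field F] [Fintype F] [CharP F p]
    (V : Subgroup (G ⧸ N)) [hVn : V.Normal] (hV : IsPGroup p V) (hV1 : V ≠ ⊥)
    (e : (G ⧸ N) ⧸ V ≃* Matrix.SpecialLinearGroup (Fin 2) F) : False := by
  have hLs : LL p (Fintype.card F) ((G ⧸ N) ⧸ V) := (ll_SL (F := F) (p := p)).of_equiv e.symm
  have hL : LL p (Fintype.card F) (G ⧸ N) := ll_of_pker V hV hLs
  have hq : Fintype.card F ≠ 0 := Fintype.card_ne_zero
  -- the Sylow subgroups of `G ⧸ N` are abelian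
  have hNt : Nontrivial N := (Subgroup.nontrivial_iff_ne_bot N).2 h.ne
  obtain ⟨lam, hlam⟩ := exists_linear_ne_one h.pgr
  obtain ⟨F', hF'⟩ := ext_of_pgroup N h.pgr h.prm hlam
  obtain ⟨⟨Q, hQ, -⟩, hab⟩ := unique_of_ext N h.comm h.prm (fun T => hIM T) hlam F' hF'
  have hQab : ∀ a ∈ (Q : Subgroup (G ⧸ N)), ∀ b ∈ (Q : Subgroup (G ⧸ N)), a * b = b * a := by
    intro a ha b hb
    have h1 := (hab (Q.subtype hQ)).2 ⟨a, hQ ha⟩ (by
      rw [Sylow.coe_subtype]; exact Subgroup.mem_subgroupOf.2 ha) ⟨b, hQ hb⟩ (by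
      rw [Sylow.coe_subtype]; exact Subgroup.mem_subgroupOf.2 hb)
    exact congrArg Subtype.val h1
  -- `V` is central
  have hz : ∀ v ∈ V, ∀ x : G ⧸ N, x * v = v * x := by
    have hle : ∀ R : Sylow p (G ⧸ N), (R : Subgroup (G ⧸ N)) ≤ Subgroup.centralizer (V : Set (G ⧸ N)) := by
      intro R x hx
      obtain ⟨g, rfl⟩ := MulAction.exists_smul_eq (G ⧸ N) Q R
      rw [Sylow.coe_subgroup_smul] at hx
      obtain ⟨y, hy, rfl⟩ := hx
      rw [Subgroup.mem_centralizer_iff]
      intro v hv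
      have h1 : g⁻¹ * v * g ∈ V := by
        have := hVn.conj_mem v hv g⁻¹
        rwa [inv_inv] at this
      have h2 := hQab _ (hV.le_sylow_of_normal Q h1) y hy
      show v * (g * y * g⁻¹) = g * y * g⁻¹ * v
      calc v * (g * y * g⁻¹) = g * ((g⁻¹ * v * g) * y) * g⁻¹ := by group
        _ = g * (y * (g⁻¹ * v * g)) * g⁻¹ := by rw [h2]
        _ = _ := by group
    have htop : Subgroup.centralizer (V : Set (G ⧸ N)) = ⊤ := by
      have h2 : ∃ R : Sylow p (G ⧸ N), R ≠ Q := by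
        by_contra hcon
        push Not at hcon
        have : Nat.card (Sylow p (G ⧸ N)) = 1 :=
          Nat.card_eq_one_iff_unique.2 ⟨⟨fun a b => by rw [hcon a, hcon b]⟩, ⟨Q⟩⟩
        rw [hL.card] at this
        omega
      obtain ⟨R, hR⟩ := h2
      rw [eq_top_iff, ← hL.gen R Q hR]
      exact sup_le (hle R) (hle Q)
    intro v hv x
    have hx : x ∈ Subgroup.centralizer (V : Set (G ⧸ N)) := by rw [htop]; trivial
    exact (Subgroup.mem_centralizer_iff.1 hx v hv).symm
  -- contradiction in `G ⧸ N`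
  have hVc : ∀ a ∈ V, ∀ b ∈ V, a * b = b * a := fun a _ b hb => hz b hb a
  have hVt : Nontrivial V := (Subgroup.nontrivial_iff_ne_bot V).2 hV1
  have hprm : Prm p V := prm_of_le V hn (nSing_ne_zero hIM hq hLs)
  obtain ⟨mu, hmu⟩ := exists_linear_ne_one hV
  obtain ⟨F₂, hF₂⟩ := ext_of_pgroup V hV hprm hmu
  obtain ⟨⟨Q', -, hQ'⟩, -⟩ := unique_of_ext V hVc hprm (fun T => hIM T) hmu F₂ hF₂
  have hSt : ∀ y : (G ⧸ N) ⧸ V, y ∈ St (act V hVc) mu := by
    intro y
    obtain ⟨x, rfl⟩ := QuotientGroup.mk'_surjective V y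
    rw [mem_St]
    ext v
    rw [act_mk]
    have : (MulAut.conjNormal x : MulAut V).symm v = v := by
      apply Subtype.ext
      rw [MulAut.conjNormal_symm_apply, mul_assoc, ← hz v v.2 x, inv_mul_cancel_left]
    rw [this]
  have h1 : Nat.card (Sylow p ((G ⧸ N) ⧸ V)) = 1 := by
    rw [Nat.card_eq_one_iff_unique]
    exact ⟨⟨fun P R => by rw [hQ' P (fun x _ => hSt x), hQ' R (fun x _ => hSt x)]⟩, inferInstance⟩
  rw [hLs.card] at h1
  omega

end

end Cfsg.Agent.H596.OneV
end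

private theorem dce_bebb3719f3b0 : _root_.True := by
  try have : _root_.True := by simp only [_root_.Cfsg.Agent.H596.OneKlein.wg.eq_1]
  try have : _root_.True := by simp only [_root_.Cfsg.Agent.H596.OneKlein.dg.congr_simp]
  exact _root_.True.intro
end

-- part: H596/OneM11
section
prune_inst 0x10020450000020000000012d0203c06ca000530002b0000d900080004861f600080af60f0801a000200a2050039000000080050000000000000000041180080902a42000140a004060018801080000000000000000000000000000000041000000000000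
set_option linter.all false
open scoped Cfsg.Agent.FastGrp

-- part: H596/OneTransfer
section
/-!
# Products over an orbit of linear characters extend (transfer) (helper596)

`T` acts transitively on `Ω`, `M` is a normal subgroup of `T` contained in all stabilisers, and
`lam : Ω → (M →* B)` is equivariant. If `lam ω` extends to the stabiliser of `ω`, then the product of all
`lam ω` extends to `T`.
-/

set_option autoImplicit false

namespace Cfsg.Agent.H596.OneTransfer

open Subgroup MulAction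

variable {T : Type*} [Group T] {B : Type*} [CommGroup B]

/-- The transfer on a normal subgroup contained in the subgroup. -/
theorem transfer_apply_normal (H M : Subgroup T) [hM : M.Normal] [H.FiniteIndex] (hMH : M ≤ H)
    (μ : H →* B) (m : T) (hm : m ∈ M) (t : T ⧸ H → T) (ht : ∀ q, (t q : T ⧸ H) = q) :
    MonoidHom.transfer μ m = ∏ᶠ q : T ⧸ H, μ ⟨(t q)⁻¹ * m * t q, hMH (by
      have := hM.conj_mem m hm (t q)⁻¹
      rwa [inv_inv] at this)⟩ := by
  classical
  let S : H.LeftTransversal := ⟨Set.range t, isComplement_range_left ht⟩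
  have _ := H.fintypeQuotientOfFiniteIndex
  rw [MonoidHom.transfer_def μ S m, finprod_eq_prod_of_fintype]
  unfold Subgroup.leftTransversals.diff
  have hS : ∀ q, (S.2.leftQuotientEquiv q : T) = t q := fun q =>
    IsComplement.leftQuotientEquiv_apply ht q
  have hq : ∀ q : T ⧸ H, m⁻¹ • q = q := by
    intro q
    obtain ⟨g, rfl⟩ := QuotientGroup.mk_surjective q
    show ((m⁻¹ * g : T) : T ⧸ H) = g
    apply QuotientGroup.eq.2
    have h1 : (m⁻¹ * g)⁻¹ * g = g⁻¹ * m * (g⁻¹)⁻¹ := by group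
    rw [h1]
    exact hMH (hM.conj_mem m hm g⁻¹)
  refine Finset.prod_congr (by congr; exact Subsingleton.elim _ _) fun q _ => ?_
  congr 1
  apply Subtype.ext
  show (S.2.leftQuotientEquiv q : T)⁻¹ * ((m • S).2.leftQuotientEquiv q : T) = (t q)⁻¹ * m * t q
  rw [smul_apply_eq_smul_apply_inv_smul, hq, hS, smul_eq_mul, mul_assoc]

/-- **Products over an orbit extend.** -/
theorem exists_prod_ext {Ω : Type*} [Fintype Ω] [MulAction T Ω] [Finite T]
    (htr : ∀ a b : Ω, ∃ g : T, g • a = b) (M : Subgroup T) [hM : M.Normal] (lam : Ω → M →* B)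
    (heq : ∀ (g : T) (ω : Ω) (m : M), lam (g • ω) m =
      lam ω ⟨g⁻¹ * m * g, by
        have := hM.conj_mem m m.2 g⁻¹
        rwa [inv_inv] at this⟩) (ω₀ : Ω)
    (hMs : M ≤ stabilizer T ω₀) (μ : stabilizer T ω₀ →* B)
    (hμ : ∀ m : M, μ ⟨m, hMs m.2⟩ = lam ω₀ m) :
    ∃ F : T →* B, ∀ m : M, F m = ∏ ω, lam ω m := by
  classical
  refine ⟨MonoidHom.transfer μ, fun m => ?_⟩
  have _ : Fintype (T ⧸ stabilizer T ω₀) := Fintype.ofFinite _
  rw [transfer_apply_normal (stabilizer T ω₀) M hMs μ m m.2 Quotient.out Quotient.out_eq',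
    finprod_eq_prod_of_fintype]
  let e : T ⧸ stabilizer T ω₀ → Ω := ofQuotientStabilizer T ω₀
  have he : Function.Bijective e := by
    refine ⟨injective_ofQuotientStabilizer T ω₀, fun b => ?_⟩
    obtain ⟨g, hg⟩ := htr ω₀ b
    exact ⟨(g : T ⧸ stabilizer T ω₀), hg⟩
  rw [← he.prod_comp (fun ω => lam ω m)]
  refine Finset.prod_congr rfl fun q _ => ?_
  have h1 : e q = (Quotient.out q : T) • ω₀ := by
    conv_lhs => rw [← Quotient.out_eq' q]
    rfl
  show _ = lam (e q) m
  rw [h1, heq, ← hμ]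

end Cfsg.Agent.H596.OneTransfer
end

-- part: H596/OneSfive
section
/-!
# The symmetric group of degree five (helper596, for S4764)

Facts on `S5` (checked by computation in the kernel), and: `S5` does not act on a nontrivial abelian group
such that every nontrivial element is fixed by exactly one Sylow 3-subgroup.
-/

set_option autoImplicit false
set_option maxRecDepth 100000

open Cfsg

namespace Cfsg.Agent.H596.OneSfive

open Cfsg.Agent.H596.OneSing Cfsg.Agent.H596.OnePart Cfsg.Agent.H596.OneL2 Cfsg.Agent.H670.PSing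
  Cfsg.Agent.H596.OneCtx Cfsg.Agent.H596.OneKlein Cfsg.Agent.H596.OneV
open Equiv

universe u

/-- The symmetric group of degree five. -/
abbrev S5 := Perm (Fin 5)

/-- `(0 1 2)` -/
def c : S5 := swap 0 1 * swap 1 2

/-- `(0 1)` -/
def tau : S5 := swap (0 : Fin 5) 1

section facts

def Q1 (x y : S5) : Prop :=
  ∃ i : Fin 5, x i = i ∧ (y i = i ∨ ((y * x * y * y) i = i ∧ y * x ≠ x * y ∧ y * x ≠ x * x * y))

instance (x y : S5) : Decidable (Q1 x y) := by unfold Q1; infer_instance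

theorem D1 : ∀ x : S5, x * x * x = 1 → x ≠ 1 → ∀ y : S5, y * y * y = 1 → y ≠ 1 → y ≠ x → y ≠ x * x →
    Q1 x y := by (delta Cfsg.Agent.H596.OneSfive.Q1; set_option synthInstance.maxSize 9000 in open scoped Cfsg.Agent.Lib.FastPerm in decide +kernel)

theorem D2 : ∀ (x : S5) (i : Fin 5), x * x * x = 1 → x ≠ 1 → x i = i →
    ∃ g : S5, g i = 4 ∧ g * x * g⁻¹ = c := by
  (set_option synthInstance.maxSize 9000 in open scoped Cfsg.Agent.Lib.FastPerm in decide +kernel)

theorem D3 : ∀ y : S5, y * y * y = 1 → y ≠ 1 → y 4 = 4 → y ≠ c → y ≠ c * c →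
    ∀ z : S5, z * z * z = 1 → z 4 = 4 →
      z = 1 ∨ z = c ∨ z = c * c ∨ z = y ∨ z = y * y ∨ z = c * y * (c * c) ∨
        z = c * (y * y) * (c * c) ∨ z = c * c * y * c ∨ z = c * c * (y * y) * c := by
  (set_option synthInstance.maxSize 9000 in open scoped Cfsg.Agent.Lib.FastPerm in decide +kernel)

theorem D4 : ∀ g : S5, g 4 = 4 → ∃ z : S5, z 4 = 4 ∧ z * z * z = 1 ∧ ∃ w : S5, w 4 = 4 ∧
    w * w * w = 1 ∧ (g = z * w ∨ g = z * w * tau) := by
  (set_option synthInstance.maxSize 9000 in open scoped Cfsg.Agent.Lib.FastPerm in decide +kernel)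

end facts

section syl

theorem card_S5 : Nat.card S5 = 120 := by
  rw [Nat.card_eq_fintype_card, Fintype.card_perm, Fintype.card_fin]; rfl

theorem card_sylow (Q : Sylow 3 S5) : Nat.card Q = 3 := by
  have h1 := Q.card_eq_multiplicity
  rw [card_S5] at h1
  have h2 : Nat.factorization 120 3 = 1 := by
    have h3 : (120 : ℕ) = 3 ^ 1 * 40 := by norm_num
    rw [h3, Nat.factorization_mul (by norm_num) (by norm_num), Finsupp.add_apply,
      Nat.Prime.factorization_pow Nat.prime_three, Finsupp.single_eq_same,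
      Nat.factorization_eq_zero_of_not_dvd (by norm_num : ¬ 3 ∣ 40)]
  rw [h2, pow_one] at h1
  exact h1

theorem exists_gen (Q : Sylow 3 S5) : ∃ x ∈ Q, x * x * x = 1 ∧ x ≠ 1 ∧
    ∀ z ∈ Q, z = 1 ∨ z = x ∨ z = x * x := by
  have hc : Nat.card (Q : Subgroup S5) = 3 := card_sylow Q
  have hnt : Nontrivial (Q : Subgroup S5) := Finite.one_lt_card_iff_nontrivial.1 (by rw [hc]; norm_num)
  obtain ⟨x, hx⟩ := exists_ne (1 : (Q : Subgroup S5))
  have ho : orderOf x = 3 := by
    have h1 := orderOf_dvd_natCard x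
    rw [hc] at h1
    rcases (Nat.dvd_prime Nat.prime_three).1 h1 with h2 | h2
    · exact absurd (orderOf_eq_one_iff.1 h2) hx
    · exact h2
  have hx3 : x * x * x = 1 := by
    have := pow_orderOf_eq_one x
    rw [ho] at this
    rwa [pow_succ, pow_succ, pow_one] at this
  have htop : Subgroup.zpowers x = ⊤ := by
    apply Subgroup.eq_top_of_card_eq
    rw [Nat.card_zpowers, ho, hc]
  refine ⟨x, x.2, congrArg Subtype.val hx3, fun h => hx (Subtype.ext h), fun z hz => ?_⟩
  have h2 : (⟨z, hz⟩ : (Q : Subgroup S5)) ∈ Subgroup.zpowers x := by rw [htop]; trivial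
  rw [mem_zpowers_iff_mem_range_orderOf] at h2
  obtain ⟨k, hk, hkz⟩ := Finset.mem_image.1 h2
  rw [Finset.mem_range, ho] at hk
  have h3 : z = ((x ^ k : (Q : Subgroup S5)) : S5) := by rw [hkz]
  interval_cases k
  · left; rw [h3, pow_zero]; rfl
  · right; left; rw [h3, pow_one]
  · right; right; rw [h3, pow_two]; rfl

theorem eq_of_mem {Q R : Sylow 3 S5} {x : S5} (hx : x ≠ 1) (hQ : x ∈ Q) (hR : x ∈ R) : Q = R := by
  have h1 : ∀ P : Sylow 3 S5, x ∈ P → (P : Subgroup S5) = Subgroup.zpowers x := by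
    intro P hP
    symm
    apply Subgroup.eq_of_le_of_card_ge (Subgroup.zpowers_le.2 hP)
    have hd : Nat.card (Subgroup.zpowers x) ∣ Nat.card (P : Subgroup S5) :=
      Subgroup.card_dvd_of_le (Subgroup.zpowers_le.2 hP)
    have h2 : Nat.card (P : Subgroup S5) = 3 := card_sylow P
    rw [h2] at hd ⊢
    rcases (Nat.dvd_prime Nat.prime_three).1 hd with h3 | h3
    · rw [Nat.card_zpowers, orderOf_eq_one_iff] at h3
      exact absurd h3 hx
    · rw [h3]
  exact Sylow.ext ((h1 Q hQ).trans (h1 R hR).symm)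

theorem exists_sylow_mem {x : S5} (hx : x * x * x = 1) : ∃ Q : Sylow 3 S5, x ∈ Q := by
  have h1 : IsPGroup 3 (Subgroup.zpowers x) := by
    rintro ⟨y, hy⟩
    obtain ⟨k, rfl⟩ := Subgroup.mem_zpowers_iff.1 hy
    refine ⟨1, Subtype.ext ?_⟩
    show (x ^ k) ^ (3 ^ 1) = 1
    rw [pow_one, ← zpow_natCast, ← zpow_mul, mul_comm, zpow_mul, zpow_natCast]
    have : x ^ 3 = 1 := by rw [pow_succ, pow_succ, pow_one]; exact hx
    rw [this, one_zpow]
  obtain ⟨Q, hQ⟩ := h1.exists_le_sylow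
  exact ⟨Q, hQ (Subgroup.mem_zpowers x)⟩

end syl

section klein

/-- The condition for `fix_trivial`. -/
theorem fix_cond (t w c₁ c₂ : S5) (h1 : c₁ * c₁ * c₁ = 1) (h1' : c₁ ≠ 1) (h2 : c₂ * c₂ * c₂ = 1)
    (h2' : c₂ ≠ 1) (hne : c₂ ≠ c₁ ∧ c₂ ≠ c₁ * c₁)
    (ht : ∀ x : S5, x * x * x = 1 → x ≠ 1 → (t * x = x * t ∨ t * x = x * x * t) →
      x = c₁ ∨ x = c₁ * c₁ ∨ x = c₂ ∨ x = c₂ * c₂)
    (hw : w * t = t * w) (hw1 : w * c₁ * w⁻¹ = c₂ ∨ w * c₁ * w⁻¹ = c₂ * c₂)
    (hw2 : w * c₂ * w⁻¹ = c₁ ∨ w * c₂ * w⁻¹ = c₁ * c₁) :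
    (∀ Q : Sylow 3 S5, t • Q ≠ Q) ∨ ∃ (Q₁ Q₂ : Sylow 3 S5) (w : S5), Q₁ ≠ Q₂ ∧
      (∀ Q : Sylow 3 S5, t • Q = Q → Q = Q₁ ∨ Q = Q₂) ∧ w * t = t * w ∧ w • Q₁ = Q₂ ∧
        w • Q₂ = Q₁ := by
  right
  obtain ⟨Q₁, hQ₁⟩ := exists_sylow_mem h1
  obtain ⟨Q₂, hQ₂⟩ := exists_sylow_mem h2
  have hsm : ∀ (g x : S5) (Q : Sylow 3 S5), x ∈ Q → g * x * g⁻¹ ∈ g • Q := by
    intro g x Q hx
    show g * x * g⁻¹ ∈ ((g • Q : Sylow 3 S5) : Subgroup S5)
    rw [Sylow.coe_subgroup_smul]
    exact ⟨x, hx, rfl⟩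
  have hconj : ∀ (g x : S5), x ≠ 1 → g * x * g⁻¹ ≠ 1 := by
    intro g x hx h
    exact hx (conj_eq_one_iff.1 h)
  have hcc : ∀ (x : S5) (Q : Sylow 3 S5), x ∈ Q → x * x ∈ Q := fun x Q hx => mul_mem hx hx
  refine ⟨Q₁, Q₂, w, ?_, ?_, hw, ?_, ?_⟩
  · rintro rfl
    obtain ⟨x, hx, hx3, hx1, hall⟩ := exists_gen Q₁
    have e1 := hall _ hQ₁
    have e2 := hall _ hQ₂
    rcases e1 with e1 | e1 | e1
    · exact h1' e1
    · rcases e2 with e2 | e2 | e2
      · exact h2' e2
      · exact hne.1 (by rw [e1, e2])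
      · exact hne.2 (by rw [e1, e2])
    · rcases e2 with e2 | e2 | e2
      · exact h2' e2
      · apply hne.2
        rw [e1, e2]
        calc x = (x * x * x) * x := by rw [hx3, one_mul]
          _ = x * x * (x * x) := by group
      · exact hne.1 (by rw [e1, e2])
  · intro Q hQ
    obtain ⟨x, hx, hx3, hx1, hall⟩ := exists_gen Q
    have h3 : t * x * t⁻¹ ∈ Q := by
      have := hsm t x Q hx
      rwa [hQ] at this
    have h4 : t * x = x * t ∨ t * x = x * x * t := by
      rcases hall _ h3 with h5 | h5 | h5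
      · exact absurd h5 (hconj t x hx1)
      · left; rw [← mul_inv_eq_iff_eq_mul]; exact h5
      · right; rw [← mul_inv_eq_iff_eq_mul]; exact h5
    rcases ht x hx3 hx1 h4 with h5 | h5 | h5 | h5
    · left; exact eq_of_mem h1' (h5 ▸ hx) hQ₁
    · left; exact eq_of_mem hx1 hx (h5 ▸ hcc _ _ hQ₁)
    · right; exact eq_of_mem h2' (h5 ▸ hx) hQ₂
    · right; exact eq_of_mem hx1 hx (h5 ▸ hcc _ _ hQ₂)
  · rcases hw1 with h5 | h5
    · exact eq_of_mem (hconj w _ h1') (hsm w _ _ hQ₁) (h5 ▸ hQ₂)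
    · exact eq_of_mem (hconj w _ h1') (hsm w _ _ hQ₁) (h5 ▸ hcc _ _ hQ₂)
  · rcases hw2 with h5 | h5
    · exact eq_of_mem (hconj w _ h2') (hsm w _ _ hQ₂) (h5 ▸ hQ₁)
    · exact eq_of_mem (hconj w _ h2') (hsm w _ _ hQ₂) (h5 ▸ hcc _ _ hQ₁)

def t₁ : S5 := swap (0 : Fin 5) 1 * swap (2 : Fin 5) 3
def t₂ : S5 := swap (0 : Fin 5) 2 * swap (1 : Fin 5) 3
def t₃ : S5 := swap (0 : Fin 5) 3 * swap (1 : Fin 5) 2

theorem cond₁ : (∀ Q : Sylow 3 S5, t₁ • Q ≠ Q) ∨ ∃ (Q₁ Q₂ : Sylow 3 S5) (w : S5), Q₁ ≠ Q₂ ∧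
      (∀ Q : Sylow 3 S5, t₁ • Q = Q → Q = Q₁ ∨ Q = Q₂) ∧ w * t₁ = t₁ * w ∧ w • Q₁ = Q₂ ∧
        w • Q₂ = Q₁ :=
  fix_cond t₁ t₂ (swap (0 : Fin 5) 1 * swap (1 : Fin 5) 4) (swap (2 : Fin 5) 3 * swap (3 : Fin 5) 4) (by decide +kernel) (by decide +kernel)
    (by decide +kernel) (by decide +kernel) (by decide +kernel) (by (set_option synthInstance.maxSize 9000 in open scoped Cfsg.Agent.Lib.FastPerm in decide +kernel)) (by decide +kernel)
    (by decide +kernel) (by decide +kernel)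

theorem cond₂ : (∀ Q : Sylow 3 S5, t₂ • Q ≠ Q) ∨ ∃ (Q₁ Q₂ : Sylow 3 S5) (w : S5), Q₁ ≠ Q₂ ∧
      (∀ Q : Sylow 3 S5, t₂ • Q = Q → Q = Q₁ ∨ Q = Q₂) ∧ w * t₂ = t₂ * w ∧ w • Q₁ = Q₂ ∧
        w • Q₂ = Q₁ :=
  fix_cond t₂ t₁ (swap (0 : Fin 5) 2 * swap (2 : Fin 5) 4) (swap (1 : Fin 5) 3 * swap (3 : Fin 5) 4) (by decide +kernel) (by decide +kernel)
    (by decide +kernel) (by decide +kernel) (by decide +kernel) (by (set_option synthInstance.maxSize 9000 in open scoped Cfsg.Agent.Lib.FastPerm in decide +kernel)) (by decide +kernel)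
    (by decide +kernel) (by decide +kernel)

theorem cond₃ : (∀ Q : Sylow 3 S5, t₃ • Q ≠ Q) ∨ ∃ (Q₁ Q₂ : Sylow 3 S5) (w : S5), Q₁ ≠ Q₂ ∧
      (∀ Q : Sylow 3 S5, t₃ • Q = Q → Q = Q₁ ∨ Q = Q₂) ∧ w * t₃ = t₃ * w ∧ w • Q₁ = Q₂ ∧
        w • Q₂ = Q₁ :=
  fix_cond t₃ t₁ (swap (0 : Fin 5) 3 * swap (3 : Fin 5) 4) (swap (1 : Fin 5) 2 * swap (2 : Fin 5) 4) (by decide +kernel) (by decide +kernel)
    (by decide +kernel) (by decide +kernel) (by decide +kernel) (by (set_option synthInstance.maxSize 9000 in open scoped Cfsg.Agent.Lib.FastPerm in decide +kernel)) (by decide +kernel)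
    (by decide +kernel) (by decide +kernel)

/-- `S5` does not act with the partition property. -/
theorem trivial_of_part {A : Type*} [CommGroup A] (ρ : S5 →* MulAut A)
    (h : ∀ a : A, a ≠ 1 → ∃! Q : Sylow 3 S5, (Q : Subgroup S5) ≤ St ρ a) (a : A) : a = 1 := by
  have sq : ∀ t : S5, t * t = 1 → ∀ b : A, ρ t (ρ t b) = b := by
    intro t ht b
    rw [← MulAut.mul_apply, ← map_mul, ht, map_one]
    rfl
  refine eq_one_of_klein ρ t₁ t₂ (sq _ (by decide +kernel)) (sq _ (by decide +kernel))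
    (fun b hb => fix_trivial ρ h t₁ cond₁ hb) (fun b hb => fix_trivial ρ h t₂ cond₂ hb) ?_ a
  intro b hb
  rw [show t₁ * t₂ = t₃ by decide +kernel] at hb
  exact fix_trivial ρ h t₃ cond₃ hb

end klein

end Cfsg.Agent.H596.OneSfive
end

-- part: H596/OneSfiveB
section
/-!
# The symmetric group of degree five acting on a 2-group (helper596, for S4764)

`exists_fixed` : `S5` acts on an elementary abelian 2-group, every nontrivial element is fixed by a Sylow
3-subgroup: some nontrivial element is fixed by the stabiliser of a point.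
-/

set_option autoImplicit false
set_option maxRecDepth 100000

open Cfsg

namespace Cfsg.Agent.H596.OneSfive

open Cfsg.Agent.H596.OneSing Cfsg.Agent.H596.OnePart Cfsg.Agent.H596.OneL2 Cfsg.Agent.H670.PSing
  Cfsg.Agent.H596.OneCtx Cfsg.Agent.H596.OneKlein Cfsg.Agent.H596.OneV
open Equiv

universe u

section transport

variable {p : ℕ} [Fact p.Prime] {X Y A : Type*} [Group X] [Group Y] [Finite X] [CommGroup A]

/-- Transport of an action. -/
def tr (e : X ≃* Y) (ρ : X →* MulAut A) : Y →* MulAut A := ρ.comp e.symm.toMonoidHom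

omit [Finite X] in
theorem tr_apply (e : X ≃* Y) (ρ : X →* MulAut A) (x : X) : tr e ρ (e x) = ρ x := by
  show ρ (e.symm (e x)) = ρ x
  rw [e.symm_apply_apply]

/-- The image of a Sylow subgroup. -/
noncomputable def ms (e : X ≃* Y) (Q : Sylow p X) : Sylow p Y :=
  Q.mapSurjective (f := e.toMonoidHom) e.surjective

theorem map_le_iff (e : X ≃* Y) (ρ : X →* MulAut A) (Q : Sylow p X) (a : A) :
    (ms e Q : Subgroup Y) ≤ St (tr e ρ) a ↔
      (Q : Subgroup X) ≤ St ρ a := by
  constructor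
  · intro h x hx
    have h1 : e x ∈ St (tr e ρ) a := h ⟨x, hx, rfl⟩
    rw [mem_St, tr_apply] at h1
    exact h1
  · rintro h _ ⟨x, hx, rfl⟩
    rw [mem_St]
    show tr e ρ (e x) a = a
    rw [tr_apply]
    exact h hx

theorem exists_tr (e : X ≃* Y) (ρ : X →* MulAut A) (a : A)
    (h : ∃ Q : Sylow p X, (Q : Subgroup X) ≤ St ρ a) :
    ∃ Q : Sylow p Y, (Q : Subgroup Y) ≤ St (tr e ρ) a := by
  obtain ⟨Q, hQ⟩ := h
  exact ⟨ms e Q, (map_le_iff e ρ Q a).2 hQ⟩

theorem unique_tr (e : X ≃* Y) (ρ : X →* MulAut A) (a : A)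
    (h : ∃! Q : Sylow p X, (Q : Subgroup X) ≤ St ρ a) :
    ∃! Q : Sylow p Y, (Q : Subgroup Y) ≤ St (tr e ρ) a := by
  obtain ⟨Q, hQ, hu⟩ := h
  refine ⟨ms e Q, (map_le_iff e ρ Q a).2 hQ, fun R hR => ?_⟩
  obtain ⟨R, rfl⟩ : ∃ R', ms e R' = R :=
    Sylow.mapSurjective_surjective (f := e.toMonoidHom) e.surjective p R
  rw [hu R ((map_le_iff e ρ R a).1 hR)]

end transport

section

variable {A : Type*} [CommGroup A] (ρ : S5 →* MulAut A)

theorem inv_three {y : S5} (hy : y * y * y = 1) : y⁻¹ = y * y := by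
  rw [inv_eq_iff_mul_eq_one, ← mul_assoc]; exact hy

/-- The group fixing `b` contains all 3-elements fixing a point. -/
theorem exists_conj {b : A} (Q R : Sylow 3 S5) (hQR : Q ≠ R) (hQ : (Q : Subgroup S5) ≤ St ρ b)
    (hR : (R : Subgroup S5) ≤ St ρ b) :
    ∃ g : S5, ∀ z : S5, z * z * z = 1 → z 4 = 4 → ρ z (ρ g b) = ρ g b := by
  obtain ⟨x, hx, hx3, hx1, hxall⟩ := exists_gen Q
  obtain ⟨y, hy, hy3, hy1, hyall⟩ := exists_gen R
  have hxS : x ∈ St ρ b := hQ hx
  have hyS : y ∈ St ρ b := hR hy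
  have hyx : y ≠ x := fun h => hQR (eq_of_mem hx1 hx (h ▸ hy))
  have hyx2 : y ≠ x * x := fun h => hQR (eq_of_mem hy1 (h ▸ mul_mem hx hx) hy)
  obtain ⟨i, hxi, hi⟩ := D1 x hx3 hx1 y hy3 hy1 hyx hyx2
  -- the second element fixing `i`
  obtain ⟨y', hy'S, hy'3, hy'1, hy'i, hy'x, hy'x2⟩ : ∃ y' ∈ St ρ b, y' * y' * y' = 1 ∧ y' ≠ 1 ∧
      y' i = i ∧ y' ≠ x ∧ y' ≠ x * x := by
    rcases hi with hi | ⟨hi, hne1, hne2⟩
    · exact ⟨y, hyS, hy3, hy1, hi, hyx, hyx2⟩
    · refine ⟨y * x * y⁻¹, mul_mem (mul_mem hyS hxS) (inv_mem hyS), ?_, ?_, ?_, ?_, ?_⟩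
      · have h1 : y * x * y⁻¹ * (y * x * y⁻¹) * (y * x * y⁻¹) = y * (x * x * x) * y⁻¹ := by group
        rw [h1, hx3, mul_one, mul_inv_cancel]
      · intro h
        exact hx1 (conj_eq_one_iff.1 h)
      · rw [inv_three hy3, ← mul_assoc]
        exact hi
      · intro h
        exact hne1 (mul_inv_eq_iff_eq_mul.1 h)
      · intro h
        exact hne2 (mul_inv_eq_iff_eq_mul.1 h)
  obtain ⟨g, hgi, hgx⟩ := D2 x i hx3 hx1 hxi
  have hSt : ∀ z ∈ St ρ b, g * z * g⁻¹ ∈ St ρ (ρ g b) := by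
    intro z hz
    rw [mem_St, ← MulAut.mul_apply, ← map_mul, inv_mul_cancel_right, map_mul, MulAut.mul_apply]
    rw [show ρ z b = b from hz]
  have hc : c ∈ St ρ (ρ g b) := hgx ▸ hSt x hxS
  set y'' := g * y' * g⁻¹ with hy''
  have hyS'' : y'' ∈ St ρ (ρ g b) := hSt y' hy'S
  have h3'' : y'' * y'' * y'' = 1 := by
    have h1 : g * y' * g⁻¹ * (g * y' * g⁻¹) * (g * y' * g⁻¹) = g * (y' * y' * y') * g⁻¹ := by group
    rw [hy'', h1, hy'3, mul_one, mul_inv_cancel]
  have h1'' : y'' ≠ 1 := fun h => hy'1 (conj_eq_one_iff.1 h)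
  have h4'' : y'' 4 = 4 := by
    rw [hy'', Perm.mul_apply, Perm.mul_apply]
    have h1 : g⁻¹ 4 = i := by rw [Perm.inv_eq_iff_eq]; exact hgi.symm
    rw [h1, hy'i, hgi]
  have hc'' : y'' ≠ c := by
    intro h
    rw [hy'', ← hgx] at h
    exact hy'x (mul_left_cancel (mul_right_cancel h))
  have hcc'' : y'' ≠ c * c := by
    intro h
    apply hy'x2
    have h1 : c * c = g * (x * x) * g⁻¹ := by rw [← hgx]; group
    rw [hy'', h1] at h
    exact mul_left_cancel (mul_right_cancel h)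
  refine ⟨g, fun z hz3 hz4 => ?_⟩
  show z ∈ St ρ (ρ g b)
  rcases D3 y'' h3'' h1'' h4'' hc'' hcc'' z hz3 hz4 with h | h | h | h | h | h | h | h | h <;> rw [h]
  · exact one_mem _
  · exact hc
  · exact mul_mem hc hc
  · exact hyS''
  · exact mul_mem hyS'' hyS''
  · exact mul_mem (mul_mem hc hyS'') (mul_mem hc hc)
  · exact mul_mem (mul_mem hc (mul_mem hyS'' hyS'')) (mul_mem hc hc)
  · exact mul_mem (mul_mem (mul_mem hc hc) hyS'') hc
  · exact mul_mem (mul_mem (mul_mem hc hc) (mul_mem hyS'' hyS'')) hc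

theorem tau_tau : tau * tau = 1 := by decide +kernel

theorem tau_four : tau 4 = 4 := by decide +kernel

/-- **`S5` on a 2-group.** -/
theorem exists_fixed (h2 : ∀ a : A, a * a = 1)
    (hfix : ∀ a : A, a ≠ 1 → ∃ Q : Sylow 3 S5, (Q : Subgroup S5) ≤ St ρ a) (hnt : ∃ a : A, a ≠ 1) :
    ∃ a : A, a ≠ 1 ∧ ∀ g : S5, g 4 = 4 → ρ g a = a := by
  obtain ⟨a₀, ha₀⟩ := hnt
  -- some element is fixed by two Sylow subgroups
  obtain ⟨b, hb, Q, R, hQR, hQ, hR⟩ : ∃ b : A, b ≠ 1 ∧ ∃ Q R : Sylow 3 S5, Q ≠ R ∧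
      (Q : Subgroup S5) ≤ St ρ b ∧ (R : Subgroup S5) ≤ St ρ b := by
    by_contra hcon
    apply ha₀
    apply trivial_of_part ρ
    intro a ha
    obtain ⟨Q, hQ⟩ := hfix a ha
    refine ⟨Q, hQ, fun R hR => ?_⟩
    by_contra hne
    exact hcon ⟨a, ha, R, Q, hne, hR, hQ⟩
  obtain ⟨g, hg⟩ := exists_conj ρ Q R hQR hQ hR
  set b' := ρ g b with hb'
  have hb'1 : b' ≠ 1 := by
    intro h
    exact hb ((map_eq_one_iff _ (ρ g).injective).1 h)
  have htt : ∀ a : A, ρ tau (ρ tau a) = a := by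
    intro a
    rw [← MulAut.mul_apply, ← map_mul, tau_tau, map_one]; rfl
  -- `ρ tau b'` is fixed by the same elements
  have hτ : ∀ z : S5, z * z * z = 1 → z 4 = 4 → ρ z (ρ tau b') = ρ tau b' := by
    intro z hz3 hz4
    have h1 := hg (tau * z * tau) (by
      have h3 : tau * z * tau * (tau * z * tau) * (tau * z * tau) =
          tau * z * (tau * tau) * z * (tau * tau) * z * tau := by group
      rw [h3, tau_tau, mul_one, mul_one]
      have h4 : tau * z * z * z * tau = tau * (z * z * z) * tau := by group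
      rw [h4, hz3, mul_one, tau_tau]) (by
      rw [Perm.mul_apply, Perm.mul_apply, tau_four, hz4, tau_four])
    rw [map_mul, map_mul, MulAut.mul_apply, MulAut.mul_apply] at h1
    have h5 := congrArg (ρ tau) h1
    rw [htt] at h5
    exact h5
  -- a fixed element
  obtain ⟨a, ha, ha3, haτ⟩ : ∃ a : A, a ≠ 1 ∧ (∀ z : S5, z * z * z = 1 → z 4 = 4 → ρ z a = a) ∧
      ρ tau a = a := by
    by_cases h : b' * ρ tau b' = 1
    · refine ⟨b', hb'1, hg, ?_⟩
      have h1 : ρ tau b' = b'⁻¹ := (inv_eq_of_mul_eq_one_right h).symm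
      rw [h1]
      exact inv_eq_of_mul_eq_one_right (h2 b')
    · refine ⟨b' * ρ tau b', h, fun z hz3 hz4 => ?_, ?_⟩
      · rw [map_mul, hg z hz3 hz4, hτ z hz3 hz4]
      · rw [map_mul, htt, mul_comm]
  refine ⟨a, ha, fun g' hg' => ?_⟩
  obtain ⟨z, hz4, hz3, w, hw4, hw3, h | h⟩ := D4 g' hg'
  · rw [h, map_mul, MulAut.mul_apply, ha3 w hw3 hw4, ha3 z hz3 hz4]
  · rw [h, map_mul, map_mul, MulAut.mul_apply, MulAut.mul_apply, haτ, ha3 w hw3 hw4, ha3 z hz3 hz4]

/-- The translates of an element fixed by the stabiliser of the last point. -/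
def om (a : A) (j : Fin 5) : A := ρ (swap j 4) a

theorem om_four (a : A) : om ρ a 4 = a := by
  unfold om
  rw [swap_self]
  have : (Equiv.refl (Fin 5) : S5) = 1 := rfl
  rw [this, map_one]; rfl

theorem rho_om {a : A} (ha : ∀ g : S5, g 4 = 4 → ρ g a = a) (g : S5) (j : Fin 5) :
    ρ g (om ρ a j) = om ρ a (g j) := by
  unfold om
  have h1 := ha ((swap (g j) 4)⁻¹ * g * swap j 4) (by
    rw [Perm.mul_apply, Perm.mul_apply, swap_apply_right, swap_inv, swap_apply_left])
  rw [← MulAut.mul_apply, ← map_mul]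
  have h2 : g * swap j 4 = swap (g j) 4 * ((swap (g j) 4)⁻¹ * g * swap j 4) := by group
  rw [h2, map_mul, MulAut.mul_apply, h1]

theorem rho_prod {a : A} (ha : ∀ g : S5, g 4 = 4 → ρ g a = a) (g : S5) :
    ρ g (∏ j, om ρ a j) = ∏ j, om ρ a j := by
  rw [map_prod, Finset.prod_congr rfl (fun j _ => rho_om ρ ha g j)]
  exact Equiv.prod_comp g (fun j => om ρ a j)

end

end Cfsg.Agent.H596.OneSfive
end

-- part: H596/OneSfiveC
section
/-!
# The quotient `S5` (helper596, for S4764)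

`N` is an abelian minimal normal subgroup of `G`, `G ⧸ N = S5`, and the irreducible characters of `G` not
trivial on `N` have degree prime to 3.

* `Ctx.s5_ne_two` : `N` is a 2-group;
* `Ctx.s5_two` : some nontrivial linear character of `N` is invariant.
-/

set_option autoImplicit false
set_option maxRecDepth 100000

open Cfsg

namespace Cfsg.Agent.H596.OneSfive

open Cfsg.Agent.H596.OneSing Cfsg.Agent.H596.OnePart Cfsg.Agent.H596.OneL2 Cfsg.Agent.H670.PSing
  Cfsg.Agent.H596.OneCtx Cfsg.Agent.H596.OneKlein Cfsg.Agent.H596.OneV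
open Cfsg.Agent.OddOrderCharacters.PF9.CliffGen
open Equiv

universe u

variable {G : Type u} [Group G] [Finite G] {N : Subgroup G}

/-- The partition property implies a contradiction for `G ⧸ N = S5`. -/
theorem false_of_part [N.Normal] (hN : N ≠ ⊥) (hc : ∀ a ∈ N, ∀ b ∈ N, a * b = b * a)
    (e : G ⧸ N ≃* S5)
    (h : ∀ b : N →* ℂˣ, b ≠ 1 → ∃! Q : Sylow 3 (G ⧸ N), (Q : Subgroup (G ⧸ N)) ≤ St (act N hc) b) :
    False := by
  have h1 := trivial_of_part (A := N →* ℂˣ) (tr (A := N →* ℂˣ) e (act N hc)) (fun b hb => unique_tr e _ b (h b hb))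
  have h2 : Nat.card (N →* ℂˣ) = 1 :=
    Nat.card_eq_one_iff_unique.2 ⟨⟨fun a b => by rw [h1 a, h1 b]⟩, ⟨1⟩⟩
  rw [card_hom hc] at h2
  exact hN (Subgroup.card_eq_one.1 h2)

theorem index_eq [N.Normal] (e : G ⧸ N ≃* S5) : N.index = 120 := by
  have h1 : Nat.card (G ⧸ N) = Nat.card S5 := Nat.card_congr e.toEquiv
  rw [card_S5] at h1
  exact h1

theorem Ctx.s5_eq_two {r : ℕ} (h : Ctx 3 r N) [N.Normal] (hr : r.Prime) (hIM : AllIM.{u} 3)
    (e : G ⧸ N ≃* S5) : r = 2 := by
  by_contra hr2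
  have hrF := Fact.mk hr
  have h3F : Fact (Nat.Prime 3) := ⟨Nat.prime_three⟩
  apply false_of_part h.ne h.comm e
  intro b hb
  by_cases hr3 : r = 3
  · subst hr3
    exact partD h hIM b hb
  · obtain ⟨F, hF⟩ := ext_of_sq' N h.pgr (by
      rw [index_eq e]
      intro hd
      have h5 : r ∣ 120 := (dvd_pow_self r two_ne_zero).trans hd
      have h6 : (120 : ℕ) = 2 ^ 3 * 3 * 5 := by norm_num
      rw [h6] at h5
      have h7 : r = 5 := by
        rcases (Nat.Prime.dvd_mul hr).1 h5 with h8 | h8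
        · rcases (Nat.Prime.dvd_mul hr).1 h8 with h9 | h9
          · exact absurd ((Nat.prime_dvd_prime_iff_eq hr Nat.prime_two).1 (hr.dvd_of_dvd_pow h9)) hr2
          · exact absurd ((Nat.prime_dvd_prime_iff_eq hr Nat.prime_three).1 h9) hr3
        · exact (Nat.prime_dvd_prime_iff_eq hr Nat.prime_five).1 h8
      subst h7
      norm_num at hd) b
    exact (unique_of_ext N h.comm h.prm (fun T => hIM T) hb F hF).1

/-- The stabiliser of two points. -/
def K₂ : Subgroup S5 where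
  carrier := {g | g 4 = 4 ∧ g 0 = 0}
  one_mem' := ⟨rfl, rfl⟩
  mul_mem' := by
    rintro a b ⟨ha, ha'⟩ ⟨hb, hb'⟩
    exact ⟨by rw [Perm.mul_apply, hb, ha], by rw [Perm.mul_apply, hb', ha']⟩
  inv_mem' := by
    rintro a ⟨ha, ha'⟩
    exact ⟨by rw [Perm.inv_eq_iff_eq, ha], by rw [Perm.inv_eq_iff_eq, ha']⟩

theorem card_K₂ : Nat.card K₂ = 6 := by
  have h1 : Nat.card K₂ = Nat.card {g : S5 // g 4 = 4 ∧ g 0 = 0} := rfl
  rw [h1, Nat.card_eq_fintype_card]
  (set_option synthInstance.maxSize 9000 in open scoped Cfsg.Agent.Lib.FastPerm in decide +kernel)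

/-- The sum over the orbit: `lam` extends to its inertia group. -/
theorem ext_of_fixed [hN : N.Normal] (hc : ∀ a ∈ N, ∀ b ∈ N, a * b = b * a) (h2 : IsPGroup 2 N)
    (e : G ⧸ N ≃* S5) (a : N →* ℂˣ)
    (ha : ∀ g : S5, g 4 = 4 → tr (A := N →* ℂˣ) e (act N hc) g a = a)
    (hno : ∀ b : N →* ℂˣ, (∀ g : S5, tr (A := N →* ℂˣ) e (act N hc) g b = b) → b = 1) (ha1 : a ≠ 1) :
    ∃ F : inertia N (fn a) →* ℂˣ, ∀ n : N, F ⟨n, le_inertia' N a n.2⟩ = a n := by
  classical
  set ρ := tr (A := N →* ℂˣ) e (act N hc) with hρ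
  -- the product
  have hprod : ∏ j, om ρ a j = 1 := hno _ (fun g => rho_prod ρ ha g)
  set T := inertia N (fn a) with hT
  have hNT : N ≤ T := le_inertia' N a
  let φ : T →* S5 := e.toMonoidHom.comp ((QuotientGroup.mk' N).comp T.subtype)
  have hφ : ∀ t : T, φ t = e (QuotientGroup.mk' N (t : G)) := fun t => rfl
  have hρφ : ∀ (t : T) (b : N →* ℂˣ), ρ (φ t) b = act N hc (QuotientGroup.mk' N (t : G)) b := by
    intro t b
    rw [hφ, hρ, tr_apply]
  have hρφa : ∀ t : T, ρ (φ t) a = a := by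
    intro t
    rw [hρφ]
    exact (mem_inertia_iff N hc a t).1 t.2
  have hφ4 : ∀ t : T, φ t 4 = 4 := by
    intro t
    by_contra hne
    apply ha1
    have hk : om ρ a (φ t 4) = a := by
      rw [← rho_om ρ ha (φ t) 4, om_four, hρφa]
    have hall : ∀ j, om ρ a j = a := by
      intro j
      by_cases hj : j = 4
      · rw [hj, om_four]
      · have h1 := rho_om ρ ha (swap (φ t 4) j) (φ t 4)
        rw [swap_apply_left, hk, ha _ (swap_apply_of_ne_of_ne (Ne.symm hne) (Ne.symm hj))] at h1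
        exact h1.symm
    apply hno
    intro g
    have h1 := rho_om ρ ha g 4
    rw [hall, hall] at h1
    exact h1
  have hlift : ∀ g : S5, g 4 = 4 → ∃ t : T, φ t = g := by
    intro g hg
    obtain ⟨x, hx⟩ := QuotientGroup.mk'_surjective N (e.symm g)
    have h1 : x ∈ T := by
      rw [hT, mem_inertia_iff N hc, hx, mem_St]
      exact ha g hg
    refine ⟨⟨x, h1⟩, ?_⟩
    rw [hφ]
    show e (QuotientGroup.mk' N x) = g
    rw [hx, e.apply_symm_apply]
  have hφN : ∀ t : T, (t : G) ∈ N → φ t = 1 := by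
    intro t ht
    rw [hφ]
    have : QuotientGroup.mk' N (t : G) = 1 := (QuotientGroup.eq_one_iff _).2 ht
    rw [this, map_one]
  -- the action
  let Ω := {j : Fin 5 // j ≠ 4}
  let _ : MulAction T Ω :=
    { smul := fun t j => ⟨φ t j, fun h => j.2 ((φ t).injective (h.trans (hφ4 t).symm))⟩
      one_smul := fun j => Subtype.ext (by show φ 1 j = j; rw [map_one]; rfl)
      mul_smul := fun s t j => Subtype.ext (by show φ (s * t) j = φ s (φ t j); rw [map_mul]; rfl) }
  have hsmul : ∀ (t : T) (j : Ω), ((t • j : Ω) : Fin 5) = φ t j := fun t j => rfl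
  have hMn : (N.subgroupOf T).Normal := inferInstance
  let lam : Ω → (N.subgroupOf T →* ℂˣ) := fun j =>
    (om ρ a j).comp (Subgroup.subgroupOfEquivOfLe hNT).toMonoidHom
  have hlam : ∀ (j : Ω) (m : N.subgroupOf T), lam j m = om ρ a j ⟨((m : T) : G), Subgroup.mem_subgroupOf.1 m.2⟩ :=
    fun j m => rfl
  let ω₀ : Ω := ⟨0, by decide⟩
  have heq : ∀ (t : T) (j : Ω) (m : N.subgroupOf T), lam (t • j) m =
      lam j ⟨t⁻¹ * m * t, by
        have := hMn.conj_mem m m.2 t⁻¹
        rwa [inv_inv] at this⟩ := by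
    intro t j m
    rw [hlam, hlam, hsmul, ← rho_om ρ ha (φ t) j, hρφ, act_mk]
    congr 1
    apply Subtype.ext
    rw [MulAut.conjNormal_symm_apply]
    rfl
  have htr : ∀ i j : Ω, ∃ t : T, t • i = j := by
    intro i j
    obtain ⟨t, ht⟩ := hlift (swap (i : Fin 5) j) (swap_apply_of_ne_of_ne (Ne.symm i.2) (Ne.symm j.2))
    refine ⟨t, Subtype.ext ?_⟩
    rw [hsmul, ht, swap_apply_left]
  have hMs : N.subgroupOf T ≤ MulAction.stabilizer T ω₀ := by
    intro m hm
    rw [MulAction.mem_stabilizer_iff]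
    apply Subtype.ext
    rw [hsmul, hφN m (Subgroup.mem_subgroupOf.1 hm)]
    rfl
  -- the extension to the stabiliser
  set H := MulAction.stabilizer T ω₀ with hH
  have hidx : ¬ 2 ^ 2 ∣ ((N.subgroupOf T).subgroupOf H).index := by
    have hker : (φ.comp H.subtype).ker = (N.subgroupOf T).subgroupOf H := by
      ext x
      rw [MonoidHom.mem_ker, Subgroup.mem_subgroupOf, Subgroup.mem_subgroupOf]
      show e (QuotientGroup.mk' N ((x : T) : G)) = 1 ↔ _
      rw [map_eq_one_iff e e.injective]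
      exact QuotientGroup.eq_one_iff _
    rw [← hker, Subgroup.index_ker]
    have h1 : (φ.comp H.subtype).range ≤ K₂ := by
      rintro _ ⟨x, rfl⟩
      refine ⟨hφ4 _, ?_⟩
      have h3 : (x : T) • ω₀ = ω₀ := MulAction.mem_stabilizer_iff.1 x.2
      exact congrArg Subtype.val h3
    have h3 := Subgroup.card_dvd_of_le h1
    rw [card_K₂] at h3
    intro h4
    have := Nat.le_of_dvd (by norm_num) (h4.trans h3)
    have h5 : (4 : ℕ) ∣ 6 := h4.trans h3
    omega
  obtain ⟨μ, hμ⟩ := ext_of_sq (r := 2) ((N.subgroupOf T).subgroupOf H)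
    ((h2.of_equiv (Subgroup.subgroupOfEquivOfLe hNT).symm).of_equiv
      (Subgroup.subgroupOfEquivOfLe hMs).symm) hidx
    ((lam ω₀).comp (Subgroup.subgroupOfEquivOfLe hMs).toMonoidHom) (by
      intro g n
      have h3 := heq (g : T)⁻¹ ω₀ ⟨((n : H) : T), Subgroup.mem_subgroupOf.1 n.2⟩
      have h4 : (g : T)⁻¹ • ω₀ = ω₀ := by
        have h5 : (g : T) • ω₀ = ω₀ := MulAction.mem_stabilizer_iff.1 g.2
        rw [inv_smul_eq_iff]
        exact h5.symm
      rw [h4] at h3
      refine Eq.trans ?_ h3.symm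
      show lam ω₀ _ = lam ω₀ _
      congr 1
      apply Subtype.ext
      show (g : T) * ((n : H) : T) * (g : T)⁻¹ = ((g : T)⁻¹)⁻¹ * ((n : H) : T) * (g : T)⁻¹
      rw [inv_inv])
  obtain ⟨F, hF⟩ := OneTransfer.exists_prod_ext htr (N.subgroupOf T) lam heq ω₀ hMs μ (by
    intro m
    exact hμ ⟨⟨m, hMs m.2⟩, Subgroup.mem_subgroupOf.2 m.2⟩)
  refine ⟨F⁻¹, fun n => ?_⟩
  have h3 := hF ⟨⟨n, hNT n.2⟩, Subgroup.mem_subgroupOf.2 n.2⟩
  have h4 : ∏ j : Ω, om ρ a j n = (a n)⁻¹ := by
    have h5 : (∏ j, om ρ a j) n = 1 := by rw [hprod]; rfl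
    rw [MonoidHom.finsetProd_apply] at h5
    have h6 : (∏ j : Fin 5, om ρ a j n) = (∏ j : Ω, om ρ a j n) * om ρ a 4 n := by
      rw [Fintype.prod_eq_mul_prod_compl (4 : Fin 5), mul_comm]
      congr 1
    rw [h6, om_four] at h5
    exact eq_inv_of_mul_eq_one_left h5
  show (F ⟨n, _⟩)⁻¹ = a n
  rw [show (F ⟨n, le_inertia' N a n.2⟩) = ∏ j : Ω, om ρ a j n from h3, h4, inv_inv]

/-- **Case `G ⧸ N = S5`, `N` a 2-group**: some nontrivial linear character is invariant. -/
theorem Ctx.s5_two (h : Ctx 3 2 N) [N.Normal] (hIM : AllIM.{u} 3) (e : G ⧸ N ≃* S5) :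
    ∃ b : N →* ℂˣ, b ≠ 1 ∧ St (act N h.comm) b = ⊤ := by
  have h3F : Fact (Nat.Prime 3) := ⟨Nat.prime_three⟩
  by_contra hcon
  have hno : ∀ b : N →* ℂˣ, (∀ g : S5, tr (A := N →* ℂˣ) e (act N h.comm) g b = b) → b = 1 := by
    intro b hb
    by_contra hb1
    apply hcon
    refine ⟨b, hb1, eq_top_iff.2 fun x _ => ?_⟩
    rw [mem_St]
    have := hb (e x)
    rwa [tr_apply] at this
  have hsq : ∀ b : N →* ℂˣ, b * b = 1 := by
    intro b
    ext n
    have h1 : n * n = 1 := Subtype.ext (by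
      have := h.pow n n.2
      rwa [pow_two] at this)
    rw [MonoidHom.mul_apply, ← map_mul, h1, map_one]
    rfl
  have hnt : ∃ b : N →* ℂˣ, b ≠ 1 := by
    have : Nontrivial N := (Subgroup.nontrivial_iff_ne_bot N).2 h.ne
    exact exists_linear_ne_one h.pgr
  obtain ⟨a, ha1, ha⟩ := exists_fixed (A := N →* ℂˣ) (tr (A := N →* ℂˣ) e (act N h.comm)) hsq
    (fun b hb => exists_tr e _ b (exists_sylow_le N h.comm h.prm hb)) hnt
  obtain ⟨F, hF⟩ := ext_of_fixed h.comm h.pgr e a ha hno ha1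
  have h1 := unique_tr e _ a (unique_of_ext N h.comm h.prm (fun T => hIM T) ha1 F hF).1
  -- two Sylow subgroups
  obtain ⟨Q, hQ⟩ := exists_sylow_mem (x := c) (by decide +kernel)
  obtain ⟨R, hR⟩ := exists_sylow_mem (x := swap (0 : Fin 5) 1 * swap (1 : Fin 5) 3) (by decide +kernel)
  have hle : ∀ (P : Sylow 3 S5) (x : S5), x ∈ P → x ≠ 1 → x 4 = 4 →
      (P : Subgroup S5) ≤ St (tr (A := N →* ℂˣ) e (act N h.comm)) a := by
    intro P x hx hx1 hx4 z hz
    obtain ⟨y, hy, hy3, hy1, hall⟩ := exists_gen P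
    have hy4 : y 4 = 4 := by
      rcases hall x hx with h2 | h2 | h2
      · exact absurd h2 hx1
      · rw [← h2]; exact hx4
      · have h3 : y = x * x := by
          rw [h2]
          calc y = (y * y * y) * y := by rw [hy3, one_mul]
            _ = y * y * (y * y) := by group
        rw [h3, Perm.mul_apply, hx4, hx4]
    apply ha
    rcases hall z hz with h2 | h2 | h2
    · rw [h2]; rfl
    · rw [h2]; exact hy4
    · rw [h2, Perm.mul_apply, hy4, hy4]
  have hQR : Q = R := h1.unique (hle Q c hQ (by decide +kernel) (by decide +kernel))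
    (hle R _ hR (by decide +kernel) (by decide +kernel))
  subst hQR
  obtain ⟨y, hy, hy3, hy1, hall⟩ := exists_gen Q
  have e1 := hall _ hQ
  have e2 := hall _ hR
  have key : ∀ y : S5, y * y * y = 1 → (c = 1 ∨ c = y ∨ c = y * y) →
      (swap (0 : Fin 5) 1 * swap (1 : Fin 5) 3 = (1 : S5) ∨ swap (0 : Fin 5) 1 * swap (1 : Fin 5) 3 = y ∨ swap (0 : Fin 5) 1 * swap (1 : Fin 5) 3 = y * y) →
      False := by (set_option synthInstance.maxSize 9000 in open scoped Cfsg.Agent.Lib.FastPerm in decide +kernel)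
  exact key y hy3 e1 e2

end Cfsg.Agent.H596.OneSfive
end

-- part: H596/OneSLfive
section
/-!
# Central extensions of `S5` (helper596, for S4764)

* `exists_six` : a faithful irreducible character of degree 6 of `SL(2,5)`;
* `Ctx.s5_false` : `G ⧸ N = S5` is impossible.
-/

set_option autoImplicit false
set_option maxRecDepth 100000

open Cfsg

namespace Cfsg.Agent.H596.OneSfive

open Cfsg.Agent.H596.OneSing Cfsg.Agent.H596.OnePart Cfsg.Agent.H596.OneL2 Cfsg.Agent.H670.PSing
  Cfsg.Agent.H596.OneCtx Cfsg.Agent.H596.OneKlein Cfsg.Agent.H596.OneV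
open Cfsg.Agent.OddOrderCharacters.PF9.CliffGen
open Matrix

universe u

instance : Fact (Nat.Prime 5) := ⟨Nat.prime_five⟩

/-- A faithful character of degree 6 of `SL(2,5)`. -/
theorem exists_six : ∃ θ : SpecialLinearGroup (Fin 2) (ZMod 5) → ℂ,
    IsIrrCharacter (SpecialLinearGroup (Fin 2) (ZMod 5)) θ ∧ θ 1 = 6 ∧ θ (-1) = -6 := by
  classical
  obtain ⟨α, hα⟩ := MulChar.exists_mulChar_orderOf (R := ℂ) (ZMod 5) (n := 4) (by
    rw [ZMod.card]) (Complex.isPrimitiveRoot_exp 4 (by norm_num))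
  have hα2 : α ^ 2 ≠ 1 := by
    intro h
    have := orderOf_dvd_of_pow_eq_one h
    rw [hα] at this
    omega
  have hirr := (S2306.result α).2 hα2
  have hfun : (fun b : ↥((Cfsg.upperTriangularGL 2 (ZMod 5)).comap Matrix.SpecialLinearGroup.toGL) =>
      α (((b : Matrix.SpecialLinearGroup (Fin 2) (ZMod 5)) : Matrix (Fin 2) (Fin 2) (ZMod 5)) 0 0)) =
      fun b => H113.BorelInd.slLin α b :=
    funext fun b => (H113.BorelInd.slLin_apply α b).symm
  rw [hfun] at hirr
  have hm1 : α (-1) = -1 := by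
    have h1 : α (-1) * α (-1) = 1 := by
      rw [← map_mul, neg_mul_neg, one_mul, map_one]
    rcases mul_self_eq_one_iff.1 h1 with h2 | h2
    · exfalso
      apply hα2
      have h3 : α 2 * α 2 = 1 := by
        rw [← map_mul, show (2 : ZMod 5) * 2 = -1 by decide, h2]
      have h4 : α 3 * α 3 = 1 := by
        rw [← map_mul, show (3 : ZMod 5) * 3 = -1 by decide, h2]
      ext a
      rw [MulChar.one_apply_coe, MulChar.pow_apply_coe]
      have ha : ∀ x : ZMod 5, x ≠ 0 → x = 1 ∨ x = 2 ∨ x = 3 ∨ x = -1 := by decide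
      rw [pow_two]
      rcases ha a a.ne_zero with h | h | h | h <;> rw [h]
      · rw [map_one, one_mul]
      · exact h3
      · exact h4
      · rw [h2, one_mul]
    · exact h2
  refine ⟨_, hirr, ?_, ?_⟩
  · rw [H113.BorelInd.indFun_sl]
    have h0 : ∀ t : ZMod 5, (if t * (((1 : SpecialLinearGroup (Fin 2) (ZMod 5)) : Matrix (Fin 2) (Fin 2) (ZMod 5)) 1 0 * t +
        ((1 : SpecialLinearGroup (Fin 2) (ZMod 5)) : Matrix (Fin 2) (Fin 2) (ZMod 5)) 1 1) =
          ((1 : SpecialLinearGroup (Fin 2) (ZMod 5)) : Matrix (Fin 2) (Fin 2) (ZMod 5)) 0 0 * t +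
            ((1 : SpecialLinearGroup (Fin 2) (ZMod 5)) : Matrix (Fin 2) (Fin 2) (ZMod 5)) 0 1 then
        α (((1 : SpecialLinearGroup (Fin 2) (ZMod 5)) : Matrix (Fin 2) (Fin 2) (ZMod 5)) 1 0 * t +
          ((1 : SpecialLinearGroup (Fin 2) (ZMod 5)) : Matrix (Fin 2) (Fin 2) (ZMod 5)) 1 1) else 0) = (1 : ℂ) := by
      intro t
      simp
    rw [Finset.sum_congr rfl (fun t _ => h0 t)]
    simp
    norm_num
  · rw [H113.BorelInd.indFun_sl]
    have h0 : ∀ t : ZMod 5, (if t * (((-1 : SpecialLinearGroup (Fin 2) (ZMod 5)) : Matrix (Fin 2) (Fin 2) (ZMod 5)) 1 0 * t +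
        ((-1 : SpecialLinearGroup (Fin 2) (ZMod 5)) : Matrix (Fin 2) (Fin 2) (ZMod 5)) 1 1) =
          ((-1 : SpecialLinearGroup (Fin 2) (ZMod 5)) : Matrix (Fin 2) (Fin 2) (ZMod 5)) 0 0 * t +
            ((-1 : SpecialLinearGroup (Fin 2) (ZMod 5)) : Matrix (Fin 2) (Fin 2) (ZMod 5)) 0 1 then
        α (((-1 : SpecialLinearGroup (Fin 2) (ZMod 5)) : Matrix (Fin 2) (Fin 2) (ZMod 5)) 1 0 * t +
          ((-1 : SpecialLinearGroup (Fin 2) (ZMod 5)) : Matrix (Fin 2) (Fin 2) (ZMod 5)) 1 1) else 0) = (-1 : ℂ) := by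
      intro t
      simp [hm1]
    rw [Finset.sum_congr rfl (fun t _ => h0 t)]
    simp [hm1]
    norm_num

/-- A linear character of a subgroup meeting `G'` trivially extends to `G`. -/
theorem exists_ext_abel {G : Type*} [Group G] [Finite G] (N : Subgroup G)
    (h0 : N ⊓ commutator G = ⊥) (lam : N →* ℂˣ) : ∃ F : G →* ℂˣ, ∀ n : N, F n = lam n := by
  let ι : N →* Abelianization G := Abelianization.of.comp N.subtype
  have hι : Function.Injective ι := by
    rw [← MonoidHom.ker_eq_bot_iff, eq_bot_iff]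
    intro n hn
    have h1 : (n : G) ∈ (Abelianization.of : G →* Abelianization G).ker := hn
    rw [Abelianization.ker_of] at h1
    have h2 : (n : G) ∈ N ⊓ commutator G := ⟨n.2, h1⟩
    rw [h0, Subgroup.mem_bot] at h2
    rw [Subgroup.mem_bot]
    exact Subtype.ext h2
  let e := MonoidHom.ofInjective hι
  obtain ⟨φ, hφ⟩ := MonoidHom.domRestrict_surjective (G := Abelianization G) (M := ℂ) ι.range
    (lam.comp e.symm.toMonoidHom)
  refine ⟨φ.comp Abelianization.of, fun n => ?_⟩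
  have h1 := DFunLike.congr_fun hφ (e n)
  have h2 : (lam.comp e.symm.toMonoidHom) (e n) = lam n := by
    show lam (e.symm (e n)) = lam n
    rw [e.symm_apply_apply]
  rw [h2] at h1
  exact h1

open Cfsg.Agent.Characters.Core Cfsg.Agent.OddOrderCharacters.IndRes Cfsg.Agent.Blocks.Knorr

variable {G : Type u} [Group G] [Finite G] {N : Subgroup G}

/-- If `b` is invariant and extends to `G`, then `G ⧸ N` has just one Sylow `p`-subgroup. -/
theorem card_of_ext {p : ℕ} [hp : Fact p.Prime] [N.Normal] (hc : ∀ a ∈ N, ∀ b ∈ N, a * b = b * a)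
    (hprm : Prm p N) (hIM : AllIM.{u} p)
    {b : N →* ℂˣ} (hb : b ≠ 1) (hfix : St (act N hc) b = ⊤) (F : G →* ℂˣ)
    (hF : ∀ n : N, F n = b n) : Nat.card (Sylow p (G ⧸ N)) = 1 := by
  obtain ⟨⟨Q, -, hQ⟩, -⟩ := unique_of_ext N hc hprm (fun T => hIM T) hb
    (F.comp (inertia N (fn b)).subtype) (fun n => hF n)
  rw [Nat.card_eq_one_iff_unique]
  refine ⟨⟨fun P R => ?_⟩, inferInstance⟩
  rw [hQ P (by show (P : Subgroup (G ⧸ N)) ≤ _; rw [hfix]; exact le_top),
    hQ R (by show (R : Subgroup (G ⧸ N)) ≤ _; rw [hfix]; exact le_top)]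

theorem card_sylow_S5_ne : Nat.card (Sylow 3 S5) ≠ 1 := by
  have h3F : Fact (Nat.Prime 3) := ⟨Nat.prime_three⟩
  intro h1
  obtain ⟨Q, hQ⟩ := exists_sylow_mem (x := c) (by decide +kernel)
  obtain ⟨R, hR⟩ := exists_sylow_mem (x := Equiv.swap (0 : Fin 5) 1 * Equiv.swap (1 : Fin 5) 3) (by decide +kernel)
  have := (Nat.card_eq_one_iff_unique.1 h1).1
  have hQR : Q = R := Subsingleton.elim _ _
  subst hQR
  obtain ⟨y, hy, hy3, hy1, hall⟩ := exists_gen Q
  have e1 := hall _ hQ
  have e2 := hall _ hR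
  have key : ∀ y : S5, y * y * y = 1 → (c = 1 ∨ c = y ∨ c = y * y) →
      (Equiv.swap (0 : Fin 5) 1 * Equiv.swap (1 : Fin 5) 3 = (1 : S5) ∨ Equiv.swap (0 : Fin 5) 1 * Equiv.swap (1 : Fin 5) 3 = y ∨
        Equiv.swap (0 : Fin 5) 1 * Equiv.swap (1 : Fin 5) 3 = y * y) → False := by (set_option synthInstance.maxSize 9000 in open scoped Cfsg.Agent.Lib.FastPerm in decide +kernel)
  exact key y hy3 e1 e2

/-- **`G ⧸ N = S5` is impossible.** -/
theorem Ctx.s5_false {r : ℕ} (h : Ctx 3 r N) [hNn : N.Normal] (hr : r.Prime) (hIM : AllIM.{u} 3)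
    (e : G ⧸ N ≃* S5) : False := by
  classical
  have h3F : Fact (Nat.Prime 3) := ⟨Nat.prime_three⟩
  have hr2 := Ctx.s5_eq_two h hr hIM e
  subst hr2
  obtain ⟨b, hb, hfix⟩ := Ctx.s5_two h hIM e
  obtain ⟨hz, -⟩ := central_of_fixed N h.min h.comm hb hfix
  have hcard := h.card_eq hr hz
  let f : G →* S5 := e.toMonoidHom.comp (QuotientGroup.mk' N)
  have hf : Function.Surjective f := e.surjective.comp (QuotientGroup.mk'_surjective N)
  have hk : ∀ x, f x = 1 ↔ x ∈ N := by
    intro x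
    show e (QuotientGroup.mk' N x) = 1 ↔ _
    rw [map_eq_one_iff e e.injective]
    exact QuotientGroup.eq_one_iff x
  have h5 : 5 ≤ Nat.card (Fin 5) := by rw [Nat.card_fin]
  have hDf : (commutator G).map f = alternatingGroup (Fin 5) := by
    rw [← alternatingGroup.commutator_perm_eq h5, commutator_def, commutator_def,
      Subgroup.map_commutator, Subgroup.map_top_of_surjective _ hf]
  have hn : (N ⊓ commutator G).Normal := inferInstance
  rcases h.min _ hn inf_le_left with h0 | h0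
  · obtain ⟨F, hF⟩ := exists_ext_abel N h0 b
    have h1 := card_of_ext h.comm h.prm hIM hb hfix F hF
    rw [H571.SylowNumber.card_sylow_congr e] at h1
    exact card_sylow_S5_ne h1
  -- `N ≤ G'`
  have hND : N ≤ commutator G := by rw [← h0]; exact inf_le_right
  set D := commutator G with hD
  have hidx : D.index = 2 := by
    have h1 : D.index = (alternatingGroup (Fin 5)).index := by
      rw [← hDf, Subgroup.index_map_eq _ hf]
      intro x hx
      exact hND ((hk x).1 hx)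
    rw [h1]
    exact alternatingGroup.index_eq_two
  -- the second derived subgroup
  let D₂ := (commutator D).map D.subtype
  have hD₂n : D₂.Normal := by
    have : (commutator D).Characteristic := inferInstance
    exact ConjAct.normal_of_characteristic_of_normal
  -- `f` on `D`
  let fD : D →* alternatingGroup (Fin 5) := (f.comp D.subtype).codRestrict (alternatingGroup (Fin 5))
    (fun x => by rw [← hDf]; exact ⟨x, x.2, rfl⟩)
  have hfD : Function.Surjective fD := by
    rintro ⟨y, hy⟩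
    rw [← hDf] at hy
    obtain ⟨x, hx, rfl⟩ := hy
    exact ⟨⟨x, hx⟩, rfl⟩
  have hkD : ∀ x : D, fD x = 1 ↔ (x : G) ∈ N := by
    intro x
    rw [← hk]
    exact ⟨fun h => congrArg Subtype.val h, fun h => Subtype.ext h⟩
  have hcomm : (commutator D).map fD = ⊤ := by
    rw [commutator_def, Subgroup.map_commutator, Subgroup.map_top_of_surjective _ hfD, ← commutator_def]
    exact commutator_alternatingGroup_eq_top h5
  have hDsup : ∀ x ∈ D, ∃ y ∈ D₂, ∃ n ∈ N, x = y * n := by
    intro x hx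
    have h1 : fD ⟨x, hx⟩ ∈ (commutator D).map fD := by rw [hcomm]; trivial
    obtain ⟨y, hy, hyx⟩ := h1
    refine ⟨y, ⟨y, hy, rfl⟩, (y : G)⁻¹ * x, ?_, by group⟩
    have h2 : fD (y⁻¹ * ⟨x, hx⟩) = 1 := by rw [map_mul, map_inv, hyx, inv_mul_cancel]
    exact (hkD _).1 h2
  have hperf : commutator D = ⊤ := by
    have hn₂ : (N ⊓ D₂).Normal := inferInstance
    rcases h.min _ hn₂ inf_le_left with h1 | h1
    · exfalso
      -- `G ⧸ D₂` is abelian
      have hcent : D.map (QuotientGroup.mk' D₂) ≤ Subgroup.center (G ⧸ D₂) := by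
        rintro _ ⟨x, hx, rfl⟩
        obtain ⟨y, hy, n, hn, rfl⟩ := hDsup x hx
        rw [map_mul, show QuotientGroup.mk' D₂ y = 1 from (QuotientGroup.eq_one_iff y).2 hy, one_mul,
          Subgroup.mem_center_iff]
        intro g
        obtain ⟨g, rfl⟩ := QuotientGroup.mk'_surjective D₂ g
        rw [← map_mul, ← map_mul, Subgroup.mem_center_iff.1 (hz hn) g]
      have hab : ∀ a b : G ⧸ D₂, a * b = b * a := by
        have hnD : (D.map (QuotientGroup.mk' D₂)).Normal :=
          (inferInstance : D.Normal).map _ (QuotientGroup.mk'_surjective D₂)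
        have hcyc : IsCyclic ((G ⧸ D₂) ⧸ D.map (QuotientGroup.mk' D₂)) := by
          apply isCyclic_of_prime_card (p := 2)
          show (D.map (QuotientGroup.mk' D₂)).index = 2
          rw [Subgroup.index_map_eq _ (QuotientGroup.mk'_surjective D₂), hidx]
          rw [QuotientGroup.ker_mk']
          exact Subgroup.map_subtype_le _
        intro a b
        exact commutative_of_cyclic_center_quotient (QuotientGroup.mk' (D.map (QuotientGroup.mk' D₂)))
          (by rw [QuotientGroup.ker_mk']; exact hcent) a b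
      have hDD : D ≤ D₂ := by
        rw [hD, commutator_def, Subgroup.commutator_le]
        intro x _ y _
        rw [← QuotientGroup.eq_one_iff]
        show QuotientGroup.mk' D₂ (x * y * x⁻¹ * y⁻¹) = 1
        rw [map_mul, map_mul, map_mul, hab (QuotientGroup.mk' D₂ x), ← map_mul, ← map_mul, ← map_mul]
        rw [mul_inv_cancel_right, mul_inv_cancel, map_one]
      apply h.ne
      rw [← h1]
      exact (inf_eq_left.2 (hND.trans hDD)).symm
    · have hN₂ : N ≤ D₂ := by rw [← h1]; exact inf_le_right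
      rw [eq_top_iff]
      rintro ⟨x, hx⟩ -
      obtain ⟨y, hy, n, hn, rfl⟩ := hDsup x hx
      obtain ⟨z, hz', hzx⟩ : y * n ∈ D₂ := mul_mem hy (hN₂ hn)
      have : z = ⟨y * n, hx⟩ := Subtype.ext hzx
      rw [← this]; exact hz'
  -- the centre of `D`
  have hZ : Subgroup.center D = fD.ker := by
    apply le_antisymm
    · intro x hx
      rw [MonoidHom.mem_ker]
      have h1 : fD x ∈ Subgroup.center (alternatingGroup (Fin 5)) := by
        rw [Subgroup.mem_center_iff]
        intro g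
        obtain ⟨y, rfl⟩ := hfD g
        rw [← map_mul, ← map_mul, Subgroup.mem_center_iff.1 hx y]
      have h2 : Subgroup.center (alternatingGroup (Fin 5)) = ⊥ :=
        alternatingGroup.center_eq_bot (by rw [Nat.card_fin]; norm_num)
      rw [h2] at h1
      exact h1
    · intro x hx
      rw [Subgroup.mem_center_iff]
      intro g
      apply Subtype.ext
      have h1 : (x : G) ∈ N := (hkD x).1 hx
      exact Subgroup.mem_center_iff.1 (hz h1) g
  have e₁ : D ⧸ Subgroup.center D ≃* alternatingGroup (Fin 5) :=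
    (QuotientGroup.quotientMulEquivOfEq hZ).trans
      (QuotientGroup.quotientKerEquivOfSurjective fD hfD)
  rcases H981.CentAlt5.alt5 hperf e₁ with h1 | ⟨⟨η⟩⟩
  · -- `N = 1`
    apply h.ne
    rw [eq_bot_iff]
    intro x hx
    have h2 : (⟨x, hND hx⟩ : D) ∈ Subgroup.center D := by
      rw [hZ]; exact (hkD _).2 hx
    rw [h1, Subgroup.mem_bot] at h2
    exact congrArg Subtype.val h2
  · -- the character of degree 6
    obtain ⟨θ, hθ, hθ1, hθm⟩ := exists_six
    have : Fintype G := Fintype.ofFinite G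
    have : Fintype D := Fintype.ofFinite D
    have hθ' : IsIrrCharacter D (θ ∘ η) := isIrr_comp η.toMonoidHom η.surjective hθ
    obtain ⟨χ, hχ⟩ := Blocks.Over.exists_over D ⟨θ ∘ η, hθ'⟩
    have hd := degree_dvd_of_over D hθ' χ.2 hχ
    have hdeg : charDegree (θ ∘ η) = 6 := by
      apply charDegree_eq_of
      show θ (η 1) = _
      rw [map_one, hθ1]; norm_num
    -- the central element
    set z : D := η.symm (-1) with hzd
    have hzN : (z : G) ∈ N := by
      rw [← hkD]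
      have h2 : z ∈ Subgroup.center D := by
        rw [Subgroup.mem_center_iff]
        intro g
        apply η.injective
        rw [map_mul, map_mul, hzd, η.apply_symm_apply]
        have h3 := neg_one_conj (η g)
        rw [mul_inv_eq_iff_eq_mul] at h3
        exact h3.symm
      rw [hZ] at h2
      exact h2
    refine h.prm _ χ.2 ⟨z, hzN, fun h3 => ?_⟩ ?_
    · have h4 := constituent_ker (isCharacter_res D (isIrr_isCharacter χ.2)) hθ' hχ
        (y := z) (by
          show (χ : G → ℂ) z = (χ : G → ℂ) 1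
          exact h3)
      have h5 : θ (η z) = θ (η 1) := h4
      rw [hzd, η.apply_symm_apply, map_one, hθm, hθ1] at h5
      norm_num at h5
    · rw [hdeg] at hd
      exact (by norm_num : (3 : ℕ) ∣ 6).trans hd

end Cfsg.Agent.H596.OneSfive
end

-- part: H596/OneM11
section
/-!
# The quotient `M11` (helper596, for S4764)

`N` is an abelian minimal normal subgroup of `G`, `G ⧸ N = M11`, and the irreducible characters of `G` not
trivial on `N` have degree prime to 3: impossible (`Ctx.m11_false`).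
-/

set_option autoImplicit false

open Cfsg

namespace Cfsg.Agent.H596.OneM11

open Cfsg.Agent.H596.OneSing Cfsg.Agent.H596.OnePart Cfsg.Agent.H596.OneL2 Cfsg.Agent.H670.PSing
  Cfsg.Agent.H596.OneCtx Cfsg.Agent.H596.OneKlein Cfsg.Agent.H596.OneV

universe u

section sylow

variable {X : Type u} [Group X] [Finite X]

theorem card_sylow (hX : IsM11 X) : Nat.card (Sylow 3 X) = 55 := by
  have : Fact (Nat.Prime 3) := ⟨Nat.prime_three⟩
  obtain ⟨P⟩ : Nonempty (Sylow 3 X) := inferInstance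
  have h1 := Subgroup.card_mul_index (Subgroup.normalizer ((P : Subgroup X) : Set X))
  rw [SporadicA.M11Norm3.card_normalizer_three hX P, hX.2] at h1
  have h2 : (Subgroup.normalizer ((P : Subgroup X) : Set X)).index = 55 := by omega
  rw [P.card_eq_index_normalizer]
  exact h2

end sylow

section action

variable {X : Type u} [Group X] [Finite X] {A : Type*} [CommGroup A] [Finite A] (ρ : X →* MulAut A)

/-- The fixed points of an element. -/
def Fe (x : X) : Subgroup A := Fx ρ (Subgroup.zpowers x)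

omit [Finite X] [Finite A] in
theorem mem_Fe {x : X} {a : A} : a ∈ Fe ρ x ↔ ρ x a = a := by
  constructor
  · intro h
    exact h x (Subgroup.mem_zpowers x)
  · intro h
    have h1 : Subgroup.zpowers x ≤ St ρ a := Subgroup.zpowers_le.2 h
    exact h1

omit [Finite X] [Finite A] in
theorem Fe_conj (g x : X) : Fe ρ (g * x * g⁻¹) = (Fe ρ x).map (ρ g).toMonoidHom := by
  ext a
  rw [mem_Fe]
  constructor
  · intro h
    refine ⟨ρ g⁻¹ a, ?_, ?_⟩
    · show ρ g⁻¹ a ∈ Fe ρ x
      rw [mem_Fe]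
      calc ρ x (ρ g⁻¹ a) = ρ g⁻¹ (ρ (g * x * g⁻¹) a) := by
            rw [← MulAut.mul_apply, ← MulAut.mul_apply, ← map_mul, ← map_mul]; congr 2; group
        _ = ρ g⁻¹ a := by rw [h]
    · show ρ g (ρ g⁻¹ a) = a
      rw [← MulAut.mul_apply, ← map_mul, mul_inv_cancel, map_one]; rfl
  · rintro ⟨b, hb, rfl⟩
    have hb' : ρ x b = b := (mem_Fe ρ).1 hb
    show ρ (g * x * g⁻¹) (ρ g b) = ρ g b
    rw [← MulAut.mul_apply, ← map_mul, inv_mul_cancel_right, map_mul, MulAut.mul_apply, hb']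

omit [Finite X] [Finite A] in
theorem Fx_conj (g : X) (P : Subgroup X) (hg : g ∈ Subgroup.normalizer (P : Set X)) :
    (Fx ρ P).map (ρ g).toMonoidHom = Fx ρ P := by
  have key : ∀ g ∈ Subgroup.normalizer (P : Set X), ∀ a ∈ Fx ρ P, ρ g a ∈ Fx ρ P := by
    intro g hg a ha x hx
    have h1 : g⁻¹ * x * g ∈ P := by
      have h2 := (Subgroup.mem_normalizer_iff.1 (inv_mem hg) x).1 hx
      rwa [inv_inv] at h2
    have h2 := ha _ h1
    calc ρ x (ρ g a) = ρ g (ρ (g⁻¹ * x * g) a) := by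
          rw [← MulAut.mul_apply, ← MulAut.mul_apply, ← map_mul, ← map_mul]; congr 2; group
      _ = ρ g a := by rw [h2]
  apply le_antisymm
  · rintro _ ⟨a, ha, rfl⟩
    exact key g hg a ha
  · intro a ha
    refine ⟨ρ g⁻¹ a, key _ (inv_mem hg) a ha, ?_⟩
    show ρ g (ρ g⁻¹ a) = a
    rw [← MulAut.mul_apply, ← map_mul, mul_inv_cancel, map_one]; rfl

omit [Finite X] [Finite A] in
/-- If `ρ y b = b * d` with `d` fixed by `y`, `y ^ 3 = 1` and `A` of exponent two, then `ρ y b = b`. -/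
theorem fixed_of_mul (h2 : ∀ a : A, a * a = 1) {y : X} (hy : y * y * y = 1) {b d : A}
    (hb : ρ y b = b * d) (hd : ρ y d = d) : ρ y b = b := by
  have h3 : ρ (y * y) b = b := by
    rw [map_mul, MulAut.mul_apply, hb, map_mul, hb, hd, mul_assoc, h2, mul_one]
  have h4 : ρ (y * y * y) b = b := by rw [hy, map_one]; rfl
  rw [mul_assoc, map_mul, MulAut.mul_apply, h3] at h4
  exact h4

/-- The data: an elementary abelian group of order nine. -/
structure E9 (P : Subgroup X) (x y : X) : Prop where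
  hx : x ∈ P
  hy : y ∈ P
  comm : x * y = y * x
  x3 : x * x * x = 1
  y3 : y * y * y = 1
  gen : ∀ z ∈ P, z ∈ Subgroup.closure {x, y}

variable {ρ}

omit [Finite X] [Finite A] in
theorem E9.mem_Fx {P : Subgroup X} {x y : X} (h : E9 P x y) {a : A} (h1 : ρ x a = a) (h2 : ρ y a = a) :
    a ∈ Fx ρ P := by
  intro z hz
  have h3 : Subgroup.closure {x, y} ≤ St ρ a := by
    rw [Subgroup.closure_le]
    rintro w (rfl | rfl)
    · exact h1
    · exact h2
  exact h3 (h.gen z hz)

omit [Finite X] [Finite A] in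
theorem Fx_le_Fe {P : Subgroup X} {x : X} (hx : x ∈ P) : Fx ρ P ≤ Fe ρ x := by
  intro a ha
  rw [mem_Fe]
  exact ha x hx

omit [Finite X] [Finite A] in
theorem E9.inf {P : Subgroup X} {x y : X} (h : E9 P x y) : Fe ρ x ⊓ Fe ρ y = Fx ρ P := by
  apply le_antisymm
  · rintro a ⟨h1, h2⟩
    exact h.mem_Fx ((mem_Fe ρ).1 h1) ((mem_Fe ρ).1 h2)
  · exact le_inf (Fx_le_Fe h.hx) (Fx_le_Fe h.hy)

omit [Finite X] [Finite A] in
theorem E9.inf₃ {P : Subgroup X} {x y : X} (h : E9 P x y) (h2 : ∀ a : A, a * a = 1) :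
    (Fe ρ x ⊔ Fe ρ y) ⊓ Fe ρ (x * y) = Fx ρ P := by
  apply le_antisymm
  · rintro a ⟨h1, h3⟩
    obtain ⟨b, hb, c, hc, rfl⟩ := Subgroup.mem_sup.1 h1
    have hb : ρ x b = b := (mem_Fe ρ).1 hb
    have hc : ρ y c = c := (mem_Fe ρ).1 hc
    have h3 : ρ (x * y) (b * c) = b * c := (mem_Fe ρ).1 h3
    have e1 : ρ (x * y) b = ρ y b := by rw [h.comm, map_mul, MulAut.mul_apply, hb]
    have e2 : ρ (x * y) c = ρ x c := by rw [map_mul, MulAut.mul_apply, hc]
    rw [map_mul, e1, e2] at h3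
    -- the common element
    obtain ⟨d, hd⟩ : ∃ d, d = b⁻¹ * ρ y b := ⟨_, rfl⟩
    have hbd : ρ y b = b * d := by rw [hd, mul_inv_cancel_left]
    have hcd : ρ x c = c * d⁻¹ := by
      rw [hbd] at h3
      have h4 : b * d * ρ x c = b * c := h3
      calc ρ x c = d⁻¹ * (b⁻¹ * (b * d * ρ x c)) := by group
        _ = d⁻¹ * (b⁻¹ * (b * c)) := by rw [h4]
        _ = c * d⁻¹ := by rw [inv_mul_cancel_left, mul_comm]
    have hdx : ρ x d = d := by
      rw [hd, map_mul, map_inv, hb, ← MulAut.mul_apply, ← map_mul, h.comm, map_mul, MulAut.mul_apply, hb]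
    have hdy : ρ y d = d := by
      have h5 : d⁻¹ = c⁻¹ * ρ x c := by rw [hcd, inv_mul_cancel_left]
      have h6 : ρ y d⁻¹ = d⁻¹ := by
        rw [h5, map_mul, map_inv, hc, ← MulAut.mul_apply, ← map_mul, ← h.comm, map_mul,
          MulAut.mul_apply, hc]
      rw [map_inv] at h6
      exact inv_injective h6
    have hby : ρ y b = b := fixed_of_mul ρ h2 h.y3 hbd hdy
    have hcx : ρ x c = c := fixed_of_mul ρ h2 h.x3 hcd (by rw [map_inv, hdx])
    exact mul_mem (h.mem_Fx hb hby) (h.mem_Fx hcx hc)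
  · exact le_inf ((Fx_le_Fe h.hx).trans le_sup_left) (Fx_le_Fe (mul_mem h.hx h.hy))

/-- If the fixed points of `x` are more than those of `P`, they are at least four times as many. -/
theorem E9.four {P : Subgroup X} {x y : X} (h : E9 P x y) (h2 : ∀ a : A, a * a = 1)
    (hne : Fe ρ x ≠ Fx ρ P) : 4 ≤ (Fx ρ P).relIndex (Fe ρ x) := by
  have : Fact (Nat.Prime 2) := ⟨Nat.prime_two⟩
  have hp : IsPGroup 2 (Fe ρ x) := by
    intro a
    refine ⟨1, ?_⟩
    rw [pow_one, pow_two]
    exact Subtype.ext (h2 a)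
  have hle : Fx ρ P ≤ Fe ρ x := Fx_le_Fe h.hx
  obtain ⟨k, hk⟩ := hp.index ((Fx ρ P).subgroupOf (Fe ρ x))
  have hk' : (Fx ρ P).relIndex (Fe ρ x) = 2 ^ k := hk
  rw [hk']
  by_contra hlt
  push Not at hlt
  have hk2 : k < 2 := by
    by_contra h5
    push Not at h5
    have : 2 ^ 2 ≤ 2 ^ k := Nat.pow_le_pow_right (by norm_num) h5
    omega
  interval_cases k
  · apply hne
    rw [pow_zero, Subgroup.relIndex_eq_one] at hk'
    exact le_antisymm hk' hle
  · -- index two
    rw [pow_one] at hk'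
    apply hne
    apply le_antisymm _ hle
    intro b hb
    by_contra hbC
    have hbx : ρ x b = b := (mem_Fe ρ).1 hb
    have hyb : ρ y b ∈ Fe ρ x := by
      rw [mem_Fe, ← MulAut.mul_apply, ← map_mul, h.comm, map_mul, MulAut.mul_apply, hbx]
    have hybC : ρ y b ∉ Fx ρ P := by
      intro h5
      apply hbC
      have h6 : ρ y (ρ y b) = ρ y b := h5 y h.hy
      have h7 : ρ y b = b := (ρ y).injective h6
      rw [← h7]; exact h5
    have h8 : b⁻¹ * ρ y b ∈ Fx ρ P := by
      have h9 := Subgroup.mul_mem_iff_of_index_two (H := (Fx ρ P).subgroupOf (Fe ρ x)) hk'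
        (a := ⟨b, hb⟩⁻¹) (b := ⟨ρ y b, hyb⟩)
      have h10 : (⟨b, hb⟩ : Fe ρ x)⁻¹ * ⟨ρ y b, hyb⟩ ∈ (Fx ρ P).subgroupOf (Fe ρ x) := by
        rw [h9, Subgroup.inv_mem_iff, Subgroup.mem_subgroupOf, Subgroup.mem_subgroupOf]
        exact iff_of_false hbC hybC
      exact Subgroup.mem_subgroupOf.1 h10
    apply hbC
    apply h.mem_Fx hbx
    exact fixed_of_mul ρ h2 h.y3 (d := b⁻¹ * ρ y b) (by rw [mul_inv_cancel_left]) (h8 y h.hy)

omit [Finite X] in
theorem card_sup (H K C : Subgroup A) (hC : H ⊓ K = C) :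
    Nat.card (H ⊔ K : Subgroup A) = Nat.card K * C.relIndex H := by
  have h1 : K.relIndex (H ⊔ K) = K.relIndex H := Subgroup.relIndex_sup_right H K
  have h2 : (H ⊓ K).relIndex H = K.relIndex H := by rw [inf_comm]; exact Subgroup.inf_relIndex_right K H
  have h3 := Subgroup.card_mul_index (K.subgroupOf (H ⊔ K))
  have h4 : Nat.card (K.subgroupOf (H ⊔ K)) = Nat.card K :=
    Nat.card_congr (Subgroup.subgroupOfEquivOfLe (le_sup_right : K ≤ H ⊔ K)).toEquiv
  rw [h4] at h3
  rw [← h3, ← hC, h2, ← h1]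
  rfl

theorem E9.bound {P : Subgroup X} {x y : X} (h : E9 P x y) (h2 : ∀ a : A, a * a = 1)
    (hall : ∀ z ∈ P, z ≠ 1 → ∃ w, E9 P z w) (hx1 : x ≠ 1) (hy1 : y ≠ 1) (hxy1 : x * y ≠ 1)
    (hne : ∀ z ∈ P, z ≠ 1 → Fe ρ z ≠ Fx ρ P) : 64 * Nat.card (Fx ρ P) ≤ Nat.card A := by
  have key : ∀ z ∈ P, z ≠ 1 → 4 ≤ (Fx ρ P).relIndex (Fe ρ z) := by
    intro z hz hz1
    obtain ⟨w, hw⟩ := hall z hz hz1
    exact hw.four h2 (hne z hz hz1)
  have e1 := card_sup (Fe ρ x) (Fe ρ y) (Fx ρ P) h.inf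
  have e2 := card_sup (Fe ρ x ⊔ Fe ρ y) (Fe ρ (x * y)) (Fx ρ P) (h.inf₃ h2)
  have e3 : ∀ z ∈ P, Nat.card (Fe ρ z) = Nat.card (Fx ρ P) * (Fx ρ P).relIndex (Fe ρ z) := by
    intro z hz
    have h3 := Subgroup.card_mul_index ((Fx ρ P).subgroupOf (Fe ρ z))
    rw [Nat.card_congr (Subgroup.subgroupOfEquivOfLe (Fx_le_Fe hz : Fx ρ P ≤ Fe ρ z)).toEquiv] at h3
    exact h3.symm
  have e4 : Nat.card (Fe ρ x ⊔ Fe ρ y : Subgroup A) =
      Nat.card (Fx ρ P) * (Fx ρ P).relIndex (Fe ρ x ⊔ Fe ρ y) := by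
    have hle : Fx ρ P ≤ Fe ρ x ⊔ Fe ρ y := (Fx_le_Fe h.hx).trans le_sup_left
    have h3 := Subgroup.card_mul_index ((Fx ρ P).subgroupOf (Fe ρ x ⊔ Fe ρ y))
    rw [Nat.card_congr (Subgroup.subgroupOfEquivOfLe hle).toEquiv] at h3
    exact h3.symm
  have hpos : 0 < Nat.card (Fx ρ P) := Nat.card_pos
  have k1 := key x h.hx hx1
  have k2 := key y h.hy hy1
  have k3 := key (x * y) (mul_mem h.hx h.hy) hxy1
  rw [e3 y h.hy] at e1
  rw [e4] at e1
  -- `|F₁ F₂ : C| ≥ 16`
  have k4 : 16 ≤ (Fx ρ P).relIndex (Fe ρ x ⊔ Fe ρ y) := by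
    have h5 : (Fx ρ P).relIndex (Fe ρ x ⊔ Fe ρ y) =
        (Fx ρ P).relIndex (Fe ρ y) * (Fx ρ P).relIndex (Fe ρ x) := by
      apply Nat.eq_of_mul_eq_mul_left hpos
      rw [e1, mul_assoc]
    rw [h5]
    calc 16 = 4 * 4 := rfl
      _ ≤ _ := Nat.mul_le_mul k2 k1
  have k5 : Nat.card ((Fe ρ x ⊔ Fe ρ y) ⊔ Fe ρ (x * y) : Subgroup A) ≤ Nat.card A :=
    Subgroup.card_le_card_group _
  rw [e2, e3 (x * y) (mul_mem h.hx h.hy), mul_assoc] at k5
  refine le_trans ?_ k5
  rw [mul_comm 64]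
  apply Nat.mul_le_mul_left
  calc 64 = 4 * 16 := rfl
    _ ≤ _ := Nat.mul_le_mul k3 k4

omit [Finite X] [Finite A] in
/-- If all nontrivial elements of `P` have the same fixed points, `P` acts trivially. -/
theorem E9.trivial {P : Subgroup X} {x y : X} (h : E9 P x y) (h2 : ∀ a : A, a * a = 1)
    (hall : ∀ z ∈ P, z ≠ 1 → Fe ρ z = Fx ρ P) (hx1 : x ≠ 1) (hy1 : y ≠ 1) (hxy1 : x * y ≠ 1)
    (hxyy1 : x * (y * y) ≠ 1) (a : A) : a ∈ Fx ρ P := by
  have key : ∀ z ∈ P, z * z * z = 1 → z ≠ 1 → ∀ a : A, a * ρ z a * ρ (z * z) a ∈ Fx ρ P := by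
    intro z hz hz3 hz1 a
    rw [← hall z hz hz1, mem_Fe, map_mul, map_mul, ← MulAut.mul_apply, ← MulAut.mul_apply, ← map_mul,
      ← map_mul, ← mul_assoc, hz3, map_one]
    show ρ z a * ρ (z * z) a * a = a * ρ z a * ρ (z * z) a
    rw [mul_assoc a, mul_comm a]
  have hc := h.comm
  have c3 : ∀ z w : X, z * w = w * z → z * z * z = 1 → w * w * w = 1 → z * w * (z * w) * (z * w) = 1 := by
    intro z w hzw hz hw
    have h5 : (z * w) ^ 3 = z ^ 3 * w ^ 3 := (show Commute z w from hzw).mul_pow 3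
    have h6 : ∀ t : X, t ^ 3 = t * t * t := fun t => by rw [pow_succ, pow_two]
    rw [h6, h6, h6, hz, hw, one_mul] at h5
    exact h5
  have hyy3 : (y * y) * (y * y) * (y * y) = 1 := by
    have : (y * y) * (y * y) * (y * y) = (y * y * y) * (y * y * y) := by group
    rw [this, h.y3, one_mul]
  have hyy : y * y ∈ P := mul_mem h.hy h.hy
  -- the four products
  have p1 := key x h.hx h.x3 hx1 a
  have p2 := key y h.hy h.y3 hy1 a
  have p3 := key (x * y) (mul_mem h.hx h.hy) (c3 x y hc h.x3 h.y3) hxy1 a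
  have hcyy : x * (y * y) = (y * y) * x := by
    rw [← mul_assoc, hc, mul_assoc, hc, ← mul_assoc]
  have p4 := key (x * (y * y)) (mul_mem h.hx hyy) (c3 x (y * y) hcyy h.x3 hyy3) hxyy1 a
  -- the norm
  have p5 := key y h.hy h.y3 hy1 (a * ρ x a * ρ (x * x) a)
  simp only [map_mul, MulAut.mul_apply] at p1 p2 p3 p4 p5
  -- powers of `y` and `x`
  have hxxx : ∀ b, ρ x (ρ x (ρ x b)) = b := by
    intro b
    rw [← MulAut.mul_apply, ← MulAut.mul_apply, ← map_mul, ← map_mul, h.x3, map_one]; rfl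
  have hyyy : ∀ b, ρ y (ρ y (ρ y b)) = b := by
    intro b
    rw [← MulAut.mul_apply, ← MulAut.mul_apply, ← map_mul, ← map_mul, h.y3, map_one]; rfl
  have hyx : ∀ b, ρ y (ρ x b) = ρ x (ρ y b) := by
    intro b
    rw [← MulAut.mul_apply, ← MulAut.mul_apply, ← map_mul, ← map_mul, hc]
  simp only [hyx, hyyy, hxxx] at p1 p2 p3 p4 p5
  have q := mul_mem (mul_mem (mul_mem (mul_mem p1 p2) p3) p4) p5
  have hEq : a * ρ x a * ρ x (ρ x a) * (a * ρ y a * ρ y (ρ y a)) *
      (a * ρ x (ρ y a) * ρ x (ρ x (ρ y (ρ y a)))) * (a * ρ x (ρ y (ρ y a)) * ρ x (ρ x (ρ y a))) *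
      (a * ρ x a * ρ x (ρ x a) * (ρ y a * ρ x (ρ y a) * ρ x (ρ x (ρ y a))) *
        (ρ y (ρ y a) * ρ x (ρ y (ρ y a)) * ρ x (ρ x (ρ y (ρ y a))))) = a := by
    generalize ρ x a = b1 at *
    generalize ρ x b1 = b2 at *
    generalize ρ y a = b3 at *
    generalize ρ y b3 = b4 at *
    generalize ρ x b3 = b5 at *
    generalize ρ x b5 = b6 at *
    generalize ρ x b4 = b7 at *
    generalize ρ x b7 = b8 at *
    have : a * b1 * b2 * (a * b3 * b4) * (a * b5 * b8) * (a * b7 * b6) *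
        (a * b1 * b2 * (b3 * b5 * b6) * (b4 * b7 * b8)) =
        (a * a) * (a * a) * a * (b1 * b1) * (b2 * b2) * (b3 * b3) * (b4 * b4) * (b5 * b5) *
          (b6 * b6) * (b7 * b7) * (b8 * b8) := by
      simp only [mul_assoc, mul_comm, mul_left_comm]
    rw [this]
    simp only [h2, one_mul, mul_one]
  rw [hEq] at q
  exact q

end action

section main

variable {X : Type u} [Group X] [Finite X]

/-- Generators of a Sylow 3-subgroup. -/
theorem exists_E9 (hX : IsM11 X) (P : Sylow 3 X) {z : X} (hz : z ∈ P) (hz1 : z ≠ 1) :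
    ∃ w, E9 (P : Subgroup X) z w ∧ w ≠ 1 ∧ z * w ≠ 1 ∧ z * (w * w) ≠ 1 := by
  have h3 : Fact (Nat.Prime 3) := ⟨Nat.prime_three⟩
  have hc3 : ∀ t ∈ P, t * t * t = 1 := by
    intro t ht
    have := SporadicA.M11Facts2.pow_three_eq_one hX P ht
    rwa [pow_succ, pow_two] at this
  have hzo : orderOf z = 3 := orderOf_eq_prime (SporadicA.M11Facts2.pow_three_eq_one hX P hz) hz1
  have h9 : Nat.card (P : Subgroup X) = 9 := SporadicA.M11Three.card_P hX P
  obtain ⟨w, hw, hwz⟩ : ∃ w ∈ (P : Subgroup X), w ∉ Subgroup.zpowers z := by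
    by_contra hcon
    push Not at hcon
    have h4 : Nat.card (P : Subgroup X) ≤ Nat.card (Subgroup.zpowers z) :=
      Subgroup.card_le_of_le hcon
    rw [h9, Nat.card_zpowers, hzo] at h4
    omega
  have hzz : z ∈ Subgroup.zpowers z := Subgroup.mem_zpowers z
  refine ⟨w, ⟨hz, hw, ?_, hc3 z hz, hc3 w hw, ?_⟩, ?_, ?_, ?_⟩
  · exact congrArg Subtype.val (SporadicA.M11Three.comm_P hX P ⟨z, hz⟩ ⟨w, hw⟩)
  · intro t ht
    have hle : Subgroup.closure {z, w} ≤ (P : Subgroup X) := by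
      rw [Subgroup.closure_le]
      rintro s (rfl | rfl)
      · exact hz
      · exact hw
    have hzle : Subgroup.zpowers z ≤ Subgroup.closure {z, w} :=
      Subgroup.zpowers_le.2 (Subgroup.subset_closure (by simp))
    have hwc : w ∈ Subgroup.closure {z, w} := Subgroup.subset_closure (by simp)
    have hd : Nat.card (Subgroup.closure {z, w}) ∣ 9 := h9 ▸ Subgroup.card_dvd_of_le hle
    have hd3 : 3 ∣ Nat.card (Subgroup.closure {z, w}) := by
      have := Subgroup.card_dvd_of_le hzle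
      rwa [Nat.card_zpowers, hzo] at this
    have hne : Nat.card (Subgroup.closure {z, w}) ≠ 3 := by
      intro h4
      apply hwz
      have h5 : Subgroup.zpowers z = Subgroup.closure {z, w} :=
        Subgroup.eq_of_le_of_card_ge hzle (by rw [Nat.card_zpowers, hzo, h4])
      rw [h5]; exact hwc
    have h4 : Nat.card (Subgroup.closure {z, w}) = 9 := by
      have h5 : Nat.card (Subgroup.closure {z, w}) ∣ 3 ^ 2 := hd
      obtain ⟨k, hk, hk'⟩ := (Nat.dvd_prime_pow Nat.prime_three).1 h5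
      rw [hk'] at hd3 hne ⊢
      interval_cases k
      · norm_num at hd3
      · norm_num at hne
      · norm_num
    have h5 : Subgroup.closure {z, w} = (P : Subgroup X) :=
      Subgroup.eq_of_le_of_card_ge hle (by rw [h9, h4])
    rw [h5]; exact ht
  · rintro rfl
    exact hwz (one_mem _)
  · intro h4
    apply hwz
    rw [← inv_eq_of_mul_eq_one_right h4]
    exact inv_mem hzz
  · intro h4
    apply hwz
    have h5 : z * (w * w) * w = w := by rw [h4, one_mul]
    rw [mul_assoc, hc3 w hw, mul_one] at h5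
    rw [← h5]; exact hzz

/-- **`M11` on a 2-group.** -/
theorem exists_fixed (hX : IsM11 X) {A : Type*} [CommGroup A] [Finite A] (ρ : X →* MulAut A)
    (h2 : ∀ a : A, a * a = 1)
    (hfix : ∀ a : A, a ≠ 1 → ∃ Q : Sylow 3 X, (Q : Subgroup X) ≤ St ρ a) (hnt : ∃ a : A, a ≠ 1) :
    ∃ a : A, a ≠ 1 ∧ ∀ g : X, ρ g a = a := by
  have h3 : Fact (Nat.Prime 3) := ⟨Nat.prime_three⟩
  obtain ⟨a₀, ha₀⟩ := hnt
  obtain ⟨P⟩ : Nonempty (Sylow 3 X) := inferInstance
  have h9 : Nat.card (P : Subgroup X) = 9 := SporadicA.M11Three.card_P hX P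
  have : Nontrivial (P : Subgroup X) := Finite.one_lt_card_iff_nontrivial.1 (by rw [h9]; norm_num)
  obtain ⟨⟨z, hz⟩, hz1⟩ := exists_ne (1 : (P : Subgroup X))
  have hz1 : z ≠ 1 := fun h => hz1 (Subtype.ext h)
  obtain ⟨w, hE, hw1, hzw1, hzww1⟩ := exists_E9 hX P hz hz1
  have hdich : (∃ t ∈ (P : Subgroup X), t ≠ 1 ∧ Fe ρ t = Fx ρ (P : Subgroup X)) →
      ∀ s ∈ (P : Subgroup X), s ≠ 1 → Fe ρ s = Fx ρ (P : Subgroup X) := by
    rintro ⟨t, ht, ht1, htE⟩ s hs hs1
    obtain ⟨g, hg, hgt⟩ := SporadicA.M11Facts2.exists_conj_of_mem_sylow_three hX P hs hs1 ht ht1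
    rw [← hgt, Fe_conj, htE, Fx_conj ρ g _ hg]
  by_cases hc : ∃ t ∈ (P : Subgroup X), t ≠ 1 ∧ Fe ρ t = Fx ρ (P : Subgroup X)
  · have hall := hdich hc
    have h4 := hE.trivial h2 hall hz1 hw1 hzw1 hzww1
    have := hX.1
    have h5 : ρ.ker = ⊤ := by
      rcases (inferInstance : ρ.ker.Normal).eq_bot_or_eq_top with h6 | h6
      · exfalso
        apply hz1
        have h7 : z ∈ ρ.ker := by
          rw [MonoidHom.mem_ker]
          ext a
          exact h4 a z hz
        rw [h6, Subgroup.mem_bot] at h7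
        exact h7
      · exact h6
    refine ⟨a₀, ha₀, fun g => ?_⟩
    have h6 : g ∈ ρ.ker := by rw [h5]; trivial
    rw [MonoidHom.mem_ker] at h6
    rw [h6]; rfl
  · exfalso
    push Not at hc
    have h4 := hE.bound h2 (fun s hs hs1 => (exists_E9 hX P hs hs1).imp fun _ h => h.1) hz1 hw1 hzw1 hc
    have h5 := card_union ρ hfix P
    rw [card_sylow hX] at h5
    have hpos : 0 < Nat.card (Fx ρ (P : Subgroup X)) := Nat.card_pos
    omega

variable {G : Type u} [Group G] [Finite G] {N : Subgroup G}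

theorem Ctx.m11_eq_two {r : ℕ} (h : Ctx 3 r N) [N.Normal] (hr : r.Prime) (hIM : AllIM.{u} 3)
    (hX : IsM11 (G ⧸ N)) : r = 2 := by
  by_contra hr2
  have hrF := Fact.mk hr
  have h3F : Fact (Nat.Prime 3) := ⟨Nat.prime_three⟩
  have := finite_hom h.comm
  have hpart : ∀ b : N →* ℂˣ, b ≠ 1 →
      ∃! Q : Sylow 3 (G ⧸ N), (Q : Subgroup (G ⧸ N)) ≤ St (act N h.comm) b := by
    intro b hb
    by_cases hr3 : r = 3
    · subst hr3
      exact partD h hIM b hb
    · obtain ⟨F, hF⟩ := ext_of_sq' N h.pgr (by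
        have hidx : N.index = 7920 := hX.2
        rw [hidx]
        intro hd
        have h5 : r ∣ 7920 := (dvd_pow_self r two_ne_zero).trans hd
        have h6 : (7920 : ℕ) = 2 ^ 4 * 3 ^ 2 * 5 * 11 := by norm_num
        rw [h6] at h5
        have h7 : r = 5 ∨ r = 11 := by
          rcases (Nat.Prime.dvd_mul hr).1 h5 with h8 | h8
          · rcases (Nat.Prime.dvd_mul hr).1 h8 with h9 | h9
            · rcases (Nat.Prime.dvd_mul hr).1 h9 with h10 | h10
              · exact absurd ((Nat.prime_dvd_prime_iff_eq hr Nat.prime_two).1 (hr.dvd_of_dvd_pow h10)) hr2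
              · exact absurd ((Nat.prime_dvd_prime_iff_eq hr Nat.prime_three).1 (hr.dvd_of_dvd_pow h10)) hr3
            · exact Or.inl ((Nat.prime_dvd_prime_iff_eq hr Nat.prime_five).1 h9)
          · exact Or.inr ((Nat.prime_dvd_prime_iff_eq hr (by norm_num)).1 h8)
        rcases h7 with h7 | h7 <;> subst h7 <;> norm_num at hd) b
      exact (unique_of_ext N h.comm h.prm (fun T => hIM T) hb F hF).1
  obtain ⟨m, hm, hcard⟩ := h.card
  have hA : Nat.card (N →* ℂˣ) = r ^ m := by rw [card_hom h.comm, hcard]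
  obtain ⟨Q⟩ : Nonempty (Sylow 3 (G ⧸ N)) := inferInstance
  have h2 := card_partition (A := N →* ℂˣ) (act N h.comm) hpart Q
  rw [hA, card_sylow hX] at h2
  have h3 : Nat.card (Fx (A := N →* ℂˣ) (act N h.comm) (Q : Subgroup (G ⧸ N))) ∣ r ^ m := by
    rw [← hA]; exact Subgroup.card_subgroup_dvd_card _
  obtain ⟨c, -, hc⟩ := (Nat.dvd_prime_pow hr).1 h3
  rw [hc] at h2
  exact arith_fiftyfive hr hm h2

/-- **`G ⧸ N = M11` is impossible.** -/
theorem Ctx.m11_false {r : ℕ} (h : Ctx 3 r N) [hNn : N.Normal] (hr : r.Prime) (hIM : AllIM.{u} 3)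
    (hX : IsM11 (G ⧸ N)) : False := by
  have h3F : Fact (Nat.Prime 3) := ⟨Nat.prime_three⟩
  have hr2 := Ctx.m11_eq_two h hr hIM hX
  subst hr2
  have := finite_hom h.comm
  have hsq : ∀ b : N →* ℂˣ, b * b = 1 := by
    intro b
    ext n
    have h1 : n * n = 1 := Subtype.ext (by
      have := h.pow n n.2
      rwa [pow_two] at this)
    rw [MonoidHom.mul_apply, ← map_mul, h1, map_one]
    rfl
  have hnt : ∃ b : N →* ℂˣ, b ≠ 1 := by
    have : Nontrivial N := (Subgroup.nontrivial_iff_ne_bot N).2 h.ne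
    exact exists_linear_ne_one h.pgr
  obtain ⟨b, hb, hfix'⟩ := exists_fixed (A := N →* ℂˣ) hX (act N h.comm) hsq
    (fun b hb => exists_sylow_le N h.comm h.prm hb) hnt
  have hfix : St (act N h.comm) b = ⊤ := eq_top_iff.2 fun x _ => hfix' x
  obtain ⟨hz, -⟩ := central_of_fixed N h.min h.comm hb hfix
  have hcard := h.card_eq hr hz
  obtain ⟨e⟩ := TwoGenCore.IsoMEleven.isoM11 hX
  have hperf : commutator (G ⧸ N) = ⊤ :=
    perfect_of_surj e.symm.toMonoidHom e.symm.surjective FooteOdd.SporMEleven.perfect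
  have hn : (N ⊓ commutator G).Normal := inferInstance
  rcases h.min _ hn inf_le_left with h0 | h0
  · obtain ⟨F, hF⟩ := OneSfive.exists_ext_abel N h0 b
    have h1 := OneSfive.card_of_ext h.comm h.prm hIM hb hfix F hF
    rw [card_sylow hX] at h1
    omega
  · have h1 : N ≤ commutator G := by rw [← h0]; exact inf_le_right
    have h2 := perfect_sup N hperf
    rw [sup_eq_right.2 h1] at h2
    -- the centre
    have hZ : Subgroup.center G = N := by
      apply le_antisymm _ hz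
      intro x hx
      have hs := hX.1
      have h3 : QuotientGroup.mk' N x ∈ Subgroup.center (G ⧸ N) := by
        rw [Subgroup.mem_center_iff]
        intro g
        obtain ⟨g, rfl⟩ := QuotientGroup.mk'_surjective N g
        rw [← map_mul, ← map_mul, Subgroup.mem_center_iff.1 hx g]
      rcases (inferInstance : (Subgroup.center (G ⧸ N)).Normal).eq_bot_or_eq_top with h4 | h4
      · rw [h4, Subgroup.mem_bot] at h3
        exact (QuotientGroup.eq_one_iff x).1 h3
      · exfalso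
        have h5 : commutator (G ⧸ N) = ⊥ := by
          rw [commutator_def, Subgroup.commutator_eq_bot_iff_le_centralizer]
          intro y _
          rw [Subgroup.mem_centralizer_iff]
          intro w _
          have : y ∈ Subgroup.center (G ⧸ N) := by rw [h4]; trivial
          exact Subgroup.mem_center_iff.1 this w
        rw [hperf] at h5
        have h6 : Nat.card (G ⧸ N) = 1 := by
          rw [← Subgroup.card_top, h5, Subgroup.card_bot]
        rw [hX.2] at h6
        omega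
    have e' : G ⧸ Subgroup.center G ≃* G ⧸ N := QuotientGroup.quotientMulEquivOfEq hZ
    apply KFacts.MulM11.odd_center h2 ⟨e'.trans e⟩
    rw [hZ, hcard]

end main

end Cfsg.Agent.H596.OneM11
end
end

-- part: H596/MaxF_mg
section
prune_inst 0x100001000600000000000000000000101000000000000000802004040000800800000000080004000000000000000000000000000000000000000400000000000080000000000008400006000000010000000000000000000000000000000000004010000
set_option linter.all false
open scoped Cfsg.Agent.FastGrp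

-- part: H596/MaxA
section
/-!
# Normalisers of Sylow subgroups: maximality (helper596, for S4761)

* `eq_of_le` : a Sylow subgroup normal in `K` is the only one contained in `K`;
* `normalizer_sup_eq` : `N ≤ N_G(P)` gives `N_G(P N) = N_G(P)`;
* `coatom_of_quot` : the reduction to the quotient by `N ≤ N_G(P)`;
* `normal_of_sup` : `P N` normal and `N ≤ N_G(P)` give `P` normal;
* `abelian_case` : `V` an abelian minimal normal `p'`-subgroup, `P V` normal, `P` not normal:
  `N_G(P)` is a complement of `V` and maximal;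
* `inf_normal` : if `N ≤ N_G(P)` is normal then `N ⊓ P` is normal.
-/

set_option autoImplicit false

open scoped Pointwise

namespace Cfsg.Agent.H596.MaxA

section

variable {G : Type*} [Group G] {p : ℕ}

/-- Elements of the normaliser of `P` of order a power of `p` lie in `P`. -/
theorem mem_of_mem_normalizer [Finite G] [Fact p.Prime] (P : Sylow p G) {x : G}
    (hx : x ∈ Subgroup.normalizer ((P : Subgroup G) : Set G)) {k : ℕ} (hk : x ^ p ^ k = 1) : x ∈ P := by
  have h1 : IsPGroup p (Subgroup.zpowers x) := by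
    rintro ⟨_, n, rfl⟩
    refine ⟨k, Subtype.ext ?_⟩
    show (x ^ n) ^ p ^ k = 1
    rw [← zpow_natCast, ← zpow_mul, mul_comm, zpow_mul, zpow_natCast, hk, one_zpow]
  have h2 : Subgroup.zpowers x ⊓ Subgroup.normalizer ((P : Subgroup G) : Set G) =
      Subgroup.zpowers x ⊓ (P : Subgroup G) := IsPGroup.inf_normalizer_sylow h1 P
  have h3 : x ∈ Subgroup.zpowers x ⊓ Subgroup.normalizer ((P : Subgroup G) : Set G) :=
    ⟨Subgroup.mem_zpowers x, hx⟩
  rw [h2] at h3
  exact h3.2

/-- A Sylow subgroup normalised by `K` contains all the `p`-subgroups of `K`. -/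
theorem eq_of_le [Finite G] [Fact p.Prime] (P Q : Sylow p G)
    (h : (Q : Subgroup G) ≤ Subgroup.normalizer ((P : Subgroup G) : Set G)) : Q = P := by
  have h2 : (Q : Subgroup G) ⊓ Subgroup.normalizer ((P : Subgroup G) : Set G) =
      (Q : Subgroup G) ⊓ (P : Subgroup G) := IsPGroup.inf_normalizer_sylow Q.isPGroup' P
  rw [inf_eq_left.2 h] at h2
  have h3 : (Q : Subgroup G) ≤ P := by rw [h2]; exact inf_le_right
  exact (Sylow.ext (Q.is_maximal' P.isPGroup' h3).symm)

theorem sup_le_normalizer (P : Sylow p G) {N : Subgroup G}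
    (hN : N ≤ Subgroup.normalizer ((P : Subgroup G) : Set G)) :
    (P : Subgroup G) ⊔ N ≤ Subgroup.normalizer ((P : Subgroup G) : Set G) :=
  sup_le Subgroup.le_normalizer hN

theorem normalizer_sup_eq [Finite G] [Fact p.Prime] (P : Sylow p G) {N : Subgroup G} [hNn : N.Normal]
    (hN : N ≤ Subgroup.normalizer ((P : Subgroup G) : Set G)) :
    Subgroup.normalizer (((P : Subgroup G) ⊔ N : Subgroup G) : Set G) =
      Subgroup.normalizer ((P : Subgroup G) : Set G) := by
  apply le_antisymm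
  · intro g hg
    refine Sylow.smul_eq_iff_mem_normalizer.1 ?_
    apply eq_of_le
    have h1 : ((g • P : Sylow p G) : Subgroup G) ≤ (P : Subgroup G) ⊔ N := by
      rw [Sylow.coe_subgroup_smul]
      rintro _ ⟨x, hx, rfl⟩
      exact (Subgroup.mem_normalizer_iff.1 hg x).1 (Subgroup.mem_sup_left hx)
    exact h1.trans (sup_le_normalizer P hN)
  · intro g hg
    have key : ∀ k ∈ Subgroup.normalizer ((P : Subgroup G) : Set G), ∀ x ∈ (P : Subgroup G) ⊔ N,
        k * x * k⁻¹ ∈ (P : Subgroup G) ⊔ N := by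
      intro k hk x hx
      obtain ⟨y, hy, z, hz, rfl⟩ := Subgroup.mem_sup_of_normal_right.1 hx
      have h1 : k * (y * z) * k⁻¹ = (k * y * k⁻¹) * (k * z * k⁻¹) := by group
      rw [h1]
      exact mul_mem (Subgroup.mem_sup_left ((Subgroup.mem_normalizer_iff.1 hk y).1 hy))
        (Subgroup.mem_sup_right (hNn.conj_mem z hz k))
    rw [Subgroup.mem_normalizer_iff]
    intro x
    constructor
    · exact key g hg x
    · intro hx
      have := key g⁻¹ (inv_mem hg) _ hx
      have h1 : g⁻¹ * (g * x * g⁻¹) * g⁻¹⁻¹ = x := by group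
      rwa [h1] at this

/-- The preimage of the normaliser of the image of `P` in `G ⧸ N`. -/
theorem comap_normalizer [Finite G] [Fact p.Prime] (P : Sylow p G) (N : Subgroup G) [N.Normal] :
    (Subgroup.normalizer (((P.mapSurjective (QuotientGroup.mk'_surjective N) : Sylow p (G ⧸ N)) :
      Subgroup (G ⧸ N)) : Set (G ⧸ N))).comap (QuotientGroup.mk' N) =
      Subgroup.normalizer (((P : Subgroup G) ⊔ N : Subgroup G) : Set G) := by
  rw [Subgroup.comap_normalizer_eq_of_surjective _ (QuotientGroup.mk'_surjective N),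
    Sylow.coe_mapSurjective, Subgroup.comap_map_eq, QuotientGroup.ker_mk']

/-- **The reduction to the quotient.** -/
theorem coatom_of_quot [Finite G] [Fact p.Prime] (P : Sylow p G) (N : Subgroup G) [N.Normal]
    (hN : N ≤ Subgroup.normalizer ((P : Subgroup G) : Set G))
    (h : IsCoatom (Subgroup.normalizer (((P.mapSurjective (QuotientGroup.mk'_surjective N) :
      Sylow p (G ⧸ N)) : Subgroup (G ⧸ N)) : Set (G ⧸ N)))) :
    IsCoatom (Subgroup.normalizer ((P : Subgroup G) : Set G)) := by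
  rw [← normalizer_sup_eq P hN, ← comap_normalizer P N]
  exact Subgroup.isCoatom_comap_of_surjective (QuotientGroup.mk'_surjective N) h

theorem normal_iff_sup (P : Subgroup G) (N : Subgroup G) [N.Normal] :
    (P.map (QuotientGroup.mk' N)).Normal ↔ (P ⊔ N).Normal := by
  constructor
  · intro h
    have h1 : P ⊔ N = (P.map (QuotientGroup.mk' N)).comap (QuotientGroup.mk' N) := by
      rw [Subgroup.comap_map_eq, QuotientGroup.ker_mk']
    rw [h1]
    exact h.comap _
  · intro h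
    have h1 : P.map (QuotientGroup.mk' N) = (P ⊔ N).map (QuotientGroup.mk' N) := by
      rw [Subgroup.map_sup]
      have h2 : N.map (QuotientGroup.mk' N) = ⊥ := by
        rw [Subgroup.map_eq_bot_iff, QuotientGroup.ker_mk']
      rw [h2, sup_bot_eq]
    rw [h1]
    exact h.map _ (QuotientGroup.mk'_surjective N)

/-- `P N` normal and `N ≤ N_G(P)` give `P` normal. -/
theorem normal_of_sup [Finite G] [Fact p.Prime] (P : Sylow p G) (N : Subgroup G)
    (hN : N ≤ Subgroup.normalizer ((P : Subgroup G) : Set G)) (h : ((P : Subgroup G) ⊔ N).Normal) :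
    (P : Subgroup G).Normal := by
  rw [← Subgroup.normalizer_eq_top_iff, eq_top_iff]
  intro g _
  refine Sylow.smul_eq_iff_mem_normalizer.1 ?_
  apply eq_of_le
  refine le_trans ?_ (sup_le_normalizer P hN)
  rw [Sylow.coe_subgroup_smul]
  rintro _ ⟨x, hx, rfl⟩
  exact h.conj_mem x (Subgroup.mem_sup_left hx) g

/-- Frattini. -/
theorem frattini [Finite G] [Fact p.Prime] (P : Sylow p G) (V : Subgroup G)
    (h : ((P : Subgroup G) ⊔ V).Normal) : Subgroup.normalizer ((P : Subgroup G) : Set G) ⊔ V = ⊤ := by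
  have h1 : Subgroup.normalizer ((P : Subgroup G) : Set G) ⊔ ((P : Subgroup G) ⊔ V) = ⊤ :=
    Sylow.normalizer_sup_eq_top' (P := P) (N := (P : Subgroup G) ⊔ V) le_sup_left
  rw [← sup_assoc] at h1
  rwa [sup_eq_left.2 (Subgroup.le_normalizer (H := (P : Subgroup G)))] at h1

/-- **The case of an abelian minimal normal subgroup.** -/
theorem abelian_case [Finite G] [Fact p.Prime] (V : Subgroup G) [hV : V.Normal]
    (hmin : ∀ M : Subgroup G, M.Normal → M ≤ V → M = ⊥ ∨ M = V) (hc : ∀ a ∈ V, ∀ b ∈ V, Commute a b)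
    (P : Sylow p G) (hPV : ((P : Subgroup G) ⊔ V).Normal) (hP : ¬ (P : Subgroup G).Normal) :
    V ⊓ Subgroup.normalizer ((P : Subgroup G) : Set G) = ⊥ ∧
      IsCoatom (Subgroup.normalizer ((P : Subgroup G) : Set G)) := by
  have hF := frattini P V hPV
  set H := Subgroup.normalizer ((P : Subgroup G) : Set G) with hH
  have hHt : H ≠ ⊤ := fun h => hP (Subgroup.normalizer_eq_top_iff.1 h)
  -- `X ⊓ V` is normal for `H ≤ X`
  have key : ∀ X : Subgroup G, H ≤ X → (V ⊓ X).Normal := by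
    intro X hX
    rw [← Subgroup.normalizer_eq_top_iff, eq_top_iff, ← hF]
    refine sup_le ?_ ?_
    · intro g hg
      rw [Subgroup.mem_normalizer_iff]
      intro x
      have e1 : x ∈ V ↔ g * x * g⁻¹ ∈ V := by
        constructor
        · intro hx; exact hV.conj_mem x hx g
        · intro hx
          have := hV.conj_mem _ hx g⁻¹
          simpa [mul_assoc] using this
      have hgX := hX hg
      have e2 : x ∈ X ↔ g * x * g⁻¹ ∈ X := by
        constructor
        · intro hx; exact mul_mem (mul_mem hgX hx) (inv_mem hgX)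
        · intro hx
          have := mul_mem (mul_mem (inv_mem hgX) hx) hgX
          simpa [mul_assoc] using this
      rw [Subgroup.mem_inf, Subgroup.mem_inf, ← e1, ← e2]
    · intro g hg
      rw [Subgroup.mem_normalizer_iff]
      intro x
      constructor
      · intro hx
        have h1 : g * x * g⁻¹ = x := by
          rw [(hc g hg x hx.1).eq, mul_inv_cancel_right]
        rw [h1]; exact hx
      · intro hx
        have h1 : g⁻¹ * (g * x * g⁻¹) * g = g * x * g⁻¹ := by
          rw [(hc _ (inv_mem hg) _ hx.1).eq, inv_mul_cancel_right]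
        have h2 : x = g * x * g⁻¹ := by
          rw [← h1]; group
        rw [h2]; exact hx
  have h0 : V ⊓ H = ⊥ := by
    rcases hmin _ (key H le_rfl) inf_le_left with h | h
    · exact h
    · exfalso
      apply hHt
      rw [← hF]
      exact (sup_eq_left.2 (inf_eq_left.1 h)).symm
  refine ⟨h0, hHt, fun X hX => ?_⟩
  rcases hmin _ (key X hX.le) inf_le_left with h | h
  · exfalso
    apply hX.ne
    apply le_antisymm hX.le
    intro x hx
    have hx' : x ∈ H ⊔ V := by rw [hF]; trivial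
    obtain ⟨y, hy, z, hz, rfl⟩ := Subgroup.mem_sup_of_normal_right.1 hx'
    have h1 : z ∈ V ⊓ X := ⟨hz, by
      have := mul_mem (inv_mem (hX.le hy)) hx
      rwa [inv_mul_cancel_left] at this⟩
    rw [h, Subgroup.mem_bot] at h1
    rw [h1, mul_one]; exact hy
  · rw [eq_top_iff, ← hF]
    exact sup_le hX.le (inf_eq_left.1 h)

/-- If the normal subgroup `N` normalises `P` then `N ⊓ P` is normal. -/
theorem inf_normal [Finite G] [Fact p.Prime] (P : Sylow p G) (N : Subgroup G) [hNn : N.Normal]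
    (hN : N ≤ Subgroup.normalizer ((P : Subgroup G) : Set G)) : (N ⊓ (P : Subgroup G)).Normal := by
  constructor
  rintro x ⟨hxN, hxP⟩ g
  have h1 := hNn.conj_mem x hxN g
  refine ⟨h1, ?_⟩
  obtain ⟨k, hk⟩ := P.isPGroup' ⟨x, hxP⟩
  have hk' : x ^ p ^ k = 1 := congrArg Subtype.val hk
  refine mem_of_mem_normalizer P (hN h1) (k := k) ?_
  rw [← MulAut.conj_apply, ← map_pow, hk', map_one]

/-- Then `N` centralises `P` and has order prime to `p`, if `O_p(G) = 1`. -/
theorem comm_of_core [Finite G] [hp : Fact p.Prime] (P : Sylow p G) (N : Subgroup G) [hNn : N.Normal]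
    (hN : N ≤ Subgroup.normalizer ((P : Subgroup G) : Set G))
    (hO : ∀ R : Subgroup G, R.Normal → IsPGroup p R → R = ⊥) :
    (∀ x ∈ N, ∀ s ∈ (P : Subgroup G), Commute x s) ∧ ¬ p ∣ Nat.card N := by
  have h0 : N ⊓ (P : Subgroup G) = ⊥ :=
    hO _ (inf_normal P N hN) (P.isPGroup'.to_le inf_le_right)
  constructor
  · intro x hx s hs
    have h1 : x * s * x⁻¹ * s⁻¹ ∈ N ⊓ (P : Subgroup G) := by
      refine ⟨?_, ?_⟩
      · have h2 : x * s * x⁻¹ * s⁻¹ = x * (s * x⁻¹ * s⁻¹) := by group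
        rw [h2]
        exact mul_mem hx (hNn.conj_mem _ (inv_mem hx) s)
      · show x * s * x⁻¹ * s⁻¹ ∈ (P : Subgroup G)
        exact mul_mem ((Subgroup.mem_normalizer_iff.1 (hN hx) s).1 hs) (inv_mem hs)
    rw [h0, Subgroup.mem_bot] at h1
    have h2 : x * s * x⁻¹ = s := mul_inv_eq_one.1 h1
    exact mul_inv_eq_iff_eq_mul.1 h2
  · intro hd
    obtain ⟨x, hx⟩ := exists_prime_orderOf_dvd_card' p hd
    have h1 : (x : G) ^ p ^ 1 = 1 := by
      rw [pow_one, ← hx, ← Subgroup.orderOf_coe x]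
      exact pow_orderOf_eq_one (x : G)
    have h2 := mem_of_mem_normalizer P (hN x.2) h1
    have h3 : (x : G) ∈ N ⊓ (P : Subgroup G) := ⟨x.2, h2⟩
    rw [h0, Subgroup.mem_bot] at h3
    have h4 : x = 1 := Subtype.ext h3
    rw [h4, orderOf_one] at hx
    exact hp.out.one_lt.ne hx

end

end Cfsg.Agent.H596.MaxA
end

-- part: H596/MaxB
section
/-!
# Normalisers of Sylow subgroups: non-abelian minimal normal `p'`-subgroups (helper596, for S4761)

* `ConjMoved` : the statement T7 (`P`-moved classes of a normal `p'`-subgroup form one `G`-orbit);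
* `nonab_false` : a non-abelian minimal normal `p'`-subgroup `W`, `P W` normal, `P` not normal:
  `G` has at least two irreducible characters of degree divisible by `p`.
-/

set_option autoImplicit false

open Cfsg

namespace Cfsg.Agent.H596.MaxB

open Cfsg.Agent.H670.PSing Cfsg.Agent.H596.MaxA Cfsg.Agent.H596.Fld
open Cfsg.Agent.Lib.MinNormalNonabelian Cfsg.Agent.H383.Derange

universe u

/-- T7. -/
def ConjMoved : Prop :=
  ∀ {G : Type u} [Group G] [Finite G] {p : ℕ} [Fact p.Prime] (W : Subgroup G) [W.Normal]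
    (_ : ¬ p ∣ Nat.card W) (P : Sylow p G) (_ : ((P : Subgroup G) ⊔ W).Normal) (_ : nSing p G ≤ 1) {x y : W}
    (_ : ∃ s ∈ (P : Subgroup G), ¬ IsConj (MulAut.conjNormal s x) x)
    (_ : ∃ s ∈ (P : Subgroup G), ¬ IsConj (MulAut.conjNormal s y) y), ∃ g : G, g * (x : G) * g⁻¹ = y

variable {G : Type u} [Group G] [Finite G] {p : ℕ} [hp : Fact p.Prime]

/-- Conjugate elements of `W` have the same order. -/
theorem orderOf_eq (hT7 : ConjMoved.{u}) (W : Subgroup G) [W.Normal] (hW : ¬ p ∣ Nat.card W) (P : Sylow p G)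
    (hPW : ((P : Subgroup G) ⊔ W).Normal) (hn : nSing p G ≤ 1) {x y : W}
    (hx : ∃ s ∈ (P : Subgroup G), ¬ IsConj (MulAut.conjNormal s x) x)
    (hy : ∃ s ∈ (P : Subgroup G), ¬ IsConj (MulAut.conjNormal s y) y) : orderOf x = orderOf y := by
  obtain ⟨g, hg⟩ := hT7 W hW P hPW hn hx hy
  rw [← Subgroup.orderOf_coe x, ← Subgroup.orderOf_coe y, ← hg]
  exact (MulEquiv.orderOf_eq (MulAut.conj g) (x : G)).symm

/-- The automorphism of `T` induced by an element of the normaliser. -/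
def autOf (T : Subgroup G) (g : G) (hg : T.map (MulAut.conj g).toMonoidHom = T) : MulAut T where
  toFun x := ⟨g * x * g⁻¹, (hg.le : _) ⟨x, x.2, rfl⟩⟩
  invFun x := ⟨g⁻¹ * x * g, by
    have h := (hg.ge : _) x.2
    obtain ⟨y, hy, hyx⟩ := h
    have h1 : g * y * g⁻¹ = x := hyx
    rw [← h1]
    have h2 : g⁻¹ * (g * y * g⁻¹) * g = y := by group
    rw [h2]; exact hy⟩
  left_inv x := Subtype.ext (by
    show g⁻¹ * (g * (x : G) * g⁻¹) * g = x
    group)
  right_inv x := Subtype.ext (by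
    show g * (g⁻¹ * (x : G) * g) * g⁻¹ = x
    group)
  map_mul' x y := Subtype.ext (by
    show g * ((x : G) * y) * g⁻¹ = g * x * g⁻¹ * (g * y * g⁻¹)
    group)

omit [Finite G] in
theorem autOf_coe (T : Subgroup G) (g : G) (hg : T.map (MulAut.conj g).toMonoidHom = T) (x : T) :
    ((autOf T g hg x : T) : G) = g * x * g⁻¹ := rfl

omit [Finite G] in
/-- Conjugation of elements of `T` in `W = T C_W(T)`. -/
theorem isConj_of_isConj {W T : Subgroup G} (h : NA W) (hT : T ∈ minSet W) {x y : T} {x' y' : W}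
    (hx : (x' : G) = x) (hy : (y' : G) = y) (hc : IsConj x' y') : IsConj x y := by
  obtain ⟨w, hw⟩ := isConj_iff.1 hc
  obtain ⟨t, ht, c, hc', hcT, hwtc⟩ := h.exists_mul hT w.2
  rw [isConj_iff]
  refine ⟨⟨t, ht⟩, Subtype.ext ?_⟩
  have h1 : (w : G) * x' * (w : G)⁻¹ = y' := congrArg Subtype.val hw
  rw [hx, hy, hwtc] at h1
  show t * (x : G) * t⁻¹ = y
  rw [← h1]
  have h2 : c * (x : G) = x * c := hcT x x.2
  calc t * (x : G) * t⁻¹ = t * (x * c) * c⁻¹ * t⁻¹ := by group
    _ = t * (c * x) * c⁻¹ * t⁻¹ := by rw [h2]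
    _ = t * c * x * (t * c)⁻¹ := by group

/-- **Non-abelian minimal normal `p'`-subgroups.** -/
theorem nonab_false (hT7 : ConjMoved.{u}) (hMoved : FactMoved.{u}) (W : Subgroup G) [hWn : W.Normal]
    (hmin : ∀ M : Subgroup G, M.Normal → M ≤ W → M = ⊥ ∨ M = W)
    (hna : ¬ ∀ x ∈ W, ∀ y ∈ W, Commute x y) (hW : ¬ p ∣ Nat.card W) (P : Sylow p G)
    (hPW : ((P : Subgroup G) ⊔ W).Normal) (hP : ¬ (P : Subgroup G).Normal) (hn : nSing p G ≤ 1) : False := by
  have h := NA.of_min W hmin hna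
  have hTW : ∀ T ∈ minSet W, T ≤ W := fun T hT => hT.1
  -- `P` normalises the simple factors
  have hnorm : ∀ T ∈ minSet W, ∀ s ∈ (P : Subgroup G), T.map (MulAut.conj s).toMonoidHom = T := by
    intro T hT s hs
    rcases h.conj_eq_or_commute hT s with h1 | h1
    · exact h1
    · exfalso
      obtain ⟨x, hx, y, hy, a, b, ha, hb, hab, hxa, hyb⟩ := h.exists_two_primes hT
      have key : ∀ x ∈ T, orderOf x ≠ 1 → ∀ x' : W, (x' : G) = x →
          ∃ s ∈ (P : Subgroup G), ¬ IsConj (MulAut.conjNormal s x') x' := by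
        intro x hx hx1 x' hx'
        refine ⟨s, hs, fun hc => hx1 ?_⟩
        have hsx : s * x * s⁻¹ ∈ T := by
          obtain ⟨w, hw⟩ := isConj_iff.1 hc.symm
          have h2 : (w : G) * x * (w : G)⁻¹ = s * x * s⁻¹ := by
            have h3 := congrArg Subtype.val hw
            simp only [Subgroup.coe_mul, Subgroup.coe_inv, MulAut.conjNormal_apply, hx'] at h3
            exact h3
          rw [← h2]
          exact (Subgroup.mem_normalizer_iff.1 (hT.2.2.1 w.2) x).1 hx
        have h3 := h.centerless T hT _ hsx (fun t ht => h1 x hx t ht)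
        have h4 : x = 1 := by
          have h5 : s⁻¹ * (s * x * s⁻¹) * s = x := by group
          rw [← h5, h3]; group
        rw [h4, orderOf_one]
      have h2 := orderOf_eq hT7 W hW P hPW hn (key x hx (by rw [hxa]; exact ha.one_lt.ne') ⟨x, hTW T hT hx⟩ rfl)
        (key y hy (by rw [hyb]; exact hb.one_lt.ne') ⟨y, hTW T hT hy⟩ rfl)
      rw [Subgroup.orderOf_mk, Subgroup.orderOf_mk, hxa, hyb] at h2
      exact hab h2
  -- `P` does not centralise some simple factor
  obtain ⟨T, hT, s, hs, t, ht, hst⟩ : ∃ T ∈ minSet W, ∃ s ∈ (P : Subgroup G), ∃ t ∈ T, ¬ Commute s t := by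
    by_contra hcon
    push Not at hcon
    apply hP
    refine normal_of_sup P W ?_ hPW
    have h1 : W ≤ Subgroup.centralizer ((P : Subgroup G) : Set G) := by
      rw [← h.sup]
      refine sSup_le fun T hT t ht => ?_
      rw [Subgroup.mem_centralizer_iff]
      intro s hs
      exact (hcon T hT s hs t ht).eq
    intro w hw
    rw [Subgroup.mem_normalizer_iff]
    intro x
    have h2 : ∀ x ∈ (P : Subgroup G), w * x * w⁻¹ = x := by
      intro x hx
      have h3 := Subgroup.mem_centralizer_iff.1 (h1 hw) x hx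
      rw [← h3, mul_inv_cancel_right]
    constructor
    · intro hx
      rw [h2 x hx]; exact hx
    · intro hx
      have h3 : w⁻¹ * (w * x * w⁻¹) * w = w * x * w⁻¹ := by
        have h4 := Subgroup.mem_centralizer_iff.1 (h1 hw) _ hx
        rw [mul_assoc, h4]; group
      have h4 : x = w * x * w⁻¹ := by rw [← h3]; group
      rw [h4]; exact hx
  -- the automorphism
  let f : (P : Subgroup G) →* MulAut T :=
    { toFun := fun u => autOf T u (hnorm T hT u u.2)
      map_one' := by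
        ext x
        rw [autOf_coe]
        simp
      map_mul' := fun u v => by
        ext x
        rw [autOf_coe, MulAut.mul_apply, autOf_coe, autOf_coe]
        show (u : G) * v * x * ((u : G) * v)⁻¹ = _
        group }
  have hf : ∀ (u : (P : Subgroup G)) (x : T), ((f u x : T) : G) = u * x * (u : G)⁻¹ := fun u x => rfl
  have hfs : f ⟨s, hs⟩ ≠ 1 := by
    intro h1
    apply hst
    have h2 := congrArg (fun x : T => (x : G)) (DFunLike.congr_fun h1 ⟨t, ht⟩)
    have h3 : s * t * s⁻¹ = t := h2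
    exact mul_inv_eq_iff_eq_mul.1 h3
  obtain ⟨k, hk⟩ := (IsPGroup.iff_orderOf.1 P.isPGroup') ⟨s, hs⟩
  have hfin : Finite T := inferInstance
  obtain ⟨j, hj, hjo⟩ : ∃ j ≤ k, orderOf (f ⟨s, hs⟩) = p ^ j :=
    (Nat.dvd_prime_pow hp.out).1 (hk ▸ orderOf_map_dvd f ⟨s, hs⟩)
  have hj0 : j ≠ 0 := by
    rintro rfl
    rw [pow_zero, orderOf_eq_one_iff] at hjo
    exact hfs hjo
  obtain ⟨i, rfl⟩ := Nat.exists_eq_succ_of_ne_zero hj0
  have hα : orderOf (f (⟨s, hs⟩ ^ p ^ i)) = p := by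
    rw [map_pow, orderOf_pow_of_dvd (pow_ne_zero _ hp.out.ne_zero) (by rw [hjo]; exact pow_dvd_pow p (Nat.le_succ i)),
      hjo, Nat.succ_eq_add_one, pow_succ, Nat.mul_div_cancel_left _ (pow_pos hp.out.pos i)]
  set u : (P : Subgroup G) := ⟨s, hs⟩ ^ p ^ i with hu
  have hTp : ¬ p ∣ Nat.card T := fun h1 => hW (h1.trans (Subgroup.card_dvd_of_le (hTW T hT)))
  have := h.simple T hT
  have hTna : ¬ IsMulCommutative T := by
    intro hc
    apply hT.2.1
    rw [eq_bot_iff]
    intro z hz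
    rw [Subgroup.mem_bot]
    exact h.centerless T hT z hz fun t ht => congrArg Subtype.val (hc.is_comm.comm ⟨z, hz⟩ ⟨t, ht⟩)
  obtain ⟨x, y, hx, hy, hxy⟩ := hMoved T hTna (f u) (by rw [hα]; exact hp.out) (by rw [hα]; exact hTp)
  have key : ∀ x : T, ¬ IsConj (f u x) x →
      ∃ s ∈ (P : Subgroup G), ¬ IsConj (MulAut.conjNormal s (⟨x, hTW T hT x.2⟩ : W)) ⟨x, hTW T hT x.2⟩ := by
    intro x hx
    refine ⟨u, u.2, fun hc => hx ?_⟩
    refine isConj_of_isConj h hT ?_ rfl hc
    rw [MulAut.conjNormal_apply]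
    rfl
  have h2 := orderOf_eq hT7 W hW P hPW hn (key x hx) (key y hy)
  rw [Subgroup.orderOf_mk, Subgroup.orderOf_mk, Subgroup.orderOf_coe, Subgroup.orderOf_coe] at h2
  exact hxy h2

end Cfsg.Agent.H596.MaxB
end

-- part: H596/MaxC
section
/-!
# Normalisers of Sylow subgroups: the critical situation (helper596, for S4761)

* `core_quot` : `O_p(G ⧸ N) = 1` if `O_p(G) = 1`;
* `Sit p r N M` : a group with a section `M / N`, an elementary abelian `r`-group, on which the Sylow
  `p`-subgroups act without fixed points and are normal modulo `M`;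
* `Sit.exists_R` : `M = R N` with a normal `r`-subgroup `R` such that `R P` contains all Sylow `p`-subgroups.
-/

set_option autoImplicit false

open Cfsg

namespace Cfsg.Agent.H596.MaxC

open Cfsg.Agent.H670.PSing Cfsg.Agent.H596.MaxA Cfsg.Agent.H596.OneSing Cfsg.Agent.H596.OneCtx
open scoped Pointwise

universe u

/-- **`O_p(G ⧸ N) = 1`.** -/
theorem core_quot {G : Type u} [Group G] [Finite G] {p q : ℕ} [hp : Fact p.Prime] (hq : q.Prime) (hqp : q ≠ p)
    {N : Subgroup G} (h : Ctx p q N) [hN : N.Normal]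
    (hO : ∀ R : Subgroup G, R.Normal → IsPGroup p R → R = ⊥) (R : Subgroup (G ⧸ N)) (hRn : R.Normal)
    (hR : IsPGroup p R) : R = ⊥ := by
  obtain ⟨P⟩ : Nonempty (Sylow p G) := inferInstance
  set Pb := P.mapSurjective (QuotientGroup.mk'_surjective N) with hPb
  have hfix : ∀ x ∈ R, ∀ lam : N →* ℂˣ, act N h.comm x lam = lam := by
    intro x hx lam
    by_cases hl : lam = 1
    · rw [hl, map_one]
    · obtain ⟨Q, hQ⟩ := exists_sylow_le N h.comm h.prm hl
      exact hQ (hR.le_sylow_of_normal Q hx)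
  have hcomm : ∀ g : G, QuotientGroup.mk' N g ∈ R → ∀ n ∈ N, g * n = n * g := fun g hg =>
    OneV.comm_of_act h.comm fun lam => hfix _ hg lam
  have hRP : ∀ x ∈ R, ∃ u ∈ (P : Subgroup G), QuotientGroup.mk' N u = x := by
    intro x hx
    have h1 : x ∈ (Pb : Subgroup (G ⧸ N)) := hR.le_sylow_of_normal Pb hx
    rw [hPb, Sylow.coe_mapSurjective] at h1
    exact h1
  let S : Subgroup G := (P : Subgroup G) ⊓ R.comap (QuotientGroup.mk' N)
  have hS : S.Normal := by
    constructor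
    rintro s ⟨hsP, hsR⟩ g
    have hsR' : QuotientGroup.mk' N s ∈ R := hsR
    have ht : QuotientGroup.mk' N (g * s * g⁻¹) ∈ R := by
      rw [map_mul, map_mul, map_inv]
      exact hRn.conj_mem _ hsR' _
    refine ⟨?_, ht⟩
    obtain ⟨u, hu, hut⟩ := hRP _ ht
    have hn : u⁻¹ * (g * s * g⁻¹) ∈ N := QuotientGroup.eq.1 hut
    set n := u⁻¹ * (g * s * g⁻¹) with hn'
    have htn : g * s * g⁻¹ = u * n := by rw [hn']; group
    have hun : Commute u n := hcomm u (by rw [hut]; exact ht) n hn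
    obtain ⟨k, hk⟩ := P.isPGroup' ⟨s, hsP⟩
    obtain ⟨j, hj⟩ := P.isPGroup' ⟨u, hu⟩
    have hk' : s ^ p ^ k = 1 := congrArg Subtype.val hk
    have hj' : u ^ p ^ j = 1 := congrArg Subtype.val hj
    have h1 : (g * s * g⁻¹) ^ p ^ (k + j) = 1 := by
      rw [← MulAut.conj_apply, ← map_pow, pow_add, pow_mul, hk', one_pow, map_one]
    have h2 : u ^ p ^ (k + j) = 1 := by rw [add_comm, pow_add, pow_mul, hj', one_pow]
    rw [htn, hun.mul_pow, h2, one_mul] at h1
    have h3 : n = 1 := by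
      rw [← orderOf_eq_one_iff]
      have h4 : orderOf n ∣ p ^ (k + j) := orderOf_dvd_of_pow_eq_one h1
      have h5 : orderOf n ∣ q := orderOf_dvd_of_pow_eq_one (h.pow n hn)
      exact Nat.eq_one_of_dvd_coprimes (Nat.Coprime.pow_left _ ((Nat.coprime_primes hp.out hq).2 hqp.symm)) h4 h5
    rw [htn, h3, mul_one]
    exact hu
  have hS0 : S = ⊥ := hO S hS (P.isPGroup'.to_le inf_le_left)
  rw [eq_bot_iff]
  intro x hx
  obtain ⟨u, hu, rfl⟩ := hRP x hx
  have h1 : u ∈ S := ⟨hu, hx⟩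
  rw [hS0, Subgroup.mem_bot] at h1
  rw [h1, map_one]
  exact one_mem _

/-- The situation. -/
structure Sit (p r : ℕ) {X : Type*} [Group X] (N M : Subgroup X) : Prop where
  normN : N.Normal
  normM : M.Normal
  le : N ≤ M
  cop : ¬ p ∣ Nat.card M
  comm : ∀ P : Sylow p X, ∀ x ∈ N, ∀ s ∈ (P : Subgroup X), Commute x s
  sup : ∀ P : Sylow p X, ((P : Subgroup X) ⊔ M).Normal
  inf : ∀ P : Sylow p X, ∀ x ∈ M, x ∈ Subgroup.normalizer ((P : Subgroup X) : Set X) → x ∈ N
  ne : N ≠ M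
  min : ∀ K : Subgroup X, K.Normal → N ≤ K → K ≤ M → K = N ∨ K = M
  ab : ∀ a ∈ M, ∀ b ∈ M, a * b * a⁻¹ * b⁻¹ ∈ N
  pow : ∀ a ∈ M, a ^ r ∈ N

section

variable {X : Type*} [Group X] [Finite X] {p r : ℕ} [hp : Fact p.Prime] {N M : Subgroup X}

/-- The Sylow subgroups are conjugate under `M`. -/
theorem Sit.exists_smul (h : Sit p r N M) (P Q : Sylow p X) : ∃ m ∈ M, m • P = Q := by
  obtain ⟨g, rfl⟩ := MulAction.exists_smul_eq X P Q
  have hF := _root_.Cfsg.Agent.H596.MaxA.frattini P M (h.sup P)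
  have hM := h.normM
  have hg : g ∈ M ⊔ Subgroup.normalizer ((P : Subgroup X) : Set X) := by rw [sup_comm, hF]; trivial
  obtain ⟨m, hm, k, hk, rfl⟩ := Subgroup.mem_sup_of_normal_left.1 hg
  refine ⟨m, hm, ?_⟩
  rw [mul_smul]
  congr 1
  exact (Sylow.smul_eq_iff_mem_normalizer.2 hk).symm

omit hp in
theorem index_dvd (H M : Subgroup X) [M.Normal] (h : H ⊔ M = ⊤) : H.index ∣ Nat.card M := by
  have htr : MulAction.IsPretransitive M (X ⧸ H) := by
    have key : ∀ x : X ⧸ H, ∃ m : M, m • ((1 : X) : X ⧸ H) = x := by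
      intro x
      obtain ⟨g, rfl⟩ := QuotientGroup.mk_surjective x
      have hg : g ∈ M ⊔ H := by rw [sup_comm, h]; trivial
      obtain ⟨m, hm, k, hk, rfl⟩ := Subgroup.mem_sup_of_normal_left.1 hg
      refine ⟨⟨m, hm⟩, ?_⟩
      show ((m * 1 : X) : X ⧸ H) = ((m * k : X) : X ⧸ H)
      rw [mul_one, QuotientGroup.eq]
      simpa using hk
    refine ⟨fun x y => ?_⟩
    obtain ⟨a, rfl⟩ := key x
    obtain ⟨b, rfl⟩ := key y
    exact ⟨b * a⁻¹, by rw [mul_smul, inv_smul_smul]⟩
  have h1 := MulAction.index_stabilizer_of_transitive M ((1 : X) : X ⧸ H)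
  have h2 : H.index = Nat.card (X ⧸ H) := rfl
  rw [h2, ← h1]
  exact Subgroup.index_dvd_card _

/-- **The normal `r`-subgroup.** -/
theorem Sit.exists_R (h : Sit p r N M) (hr : r.Prime) :
    ∃ R L : Subgroup X, R.Normal ∧ L.Normal ∧ IsPGroup r R ∧ R ≤ M ∧ R ⊔ N = M ∧
      (∀ P : Sylow p X, (P : Subgroup X) ≤ L) ∧ (∀ P : Sylow p X, L ≤ R ⊔ (P : Subgroup X)) ∧
      ∀ q : ℕ, q.Prime → q ∣ Nat.card L → q = p ∨ q = r := by
  have hrF : Fact r.Prime := ⟨hr⟩
  have hM := h.normM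
  have hN := h.normN
  -- a Sylow `r`-subgroup of `M` normalised by a Sylow `p`-subgroup
  obtain ⟨S₀⟩ : Nonempty (Sylow r M) := inferInstance
  set S : Subgroup X := (S₀ : Subgroup M).map M.subtype with hS
  have hSM : S ≤ M := Subgroup.map_subtype_le _
  have hSr : IsPGroup r S := S₀.isPGroup'.map _
  have hF : Subgroup.normalizer (S : Set X) ⊔ M = ⊤ := Sylow.normalizer_sup_eq_top S₀
  obtain ⟨P, hP⟩ : ∃ P : Sylow p X, (P : Subgroup X) ≤ Subgroup.normalizer (S : Set X) := by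
    apply exists_sylow_le_of_index
    intro hd
    exact h.cop (hd.trans (index_dvd _ M hF))
  have hPM : M ⊓ (P : Subgroup X) = ⊥ := by
    rw [eq_bot_iff]
    rintro x ⟨hxM, hxP⟩
    rw [Subgroup.mem_bot]
    by_contra hx1
    apply h.cop
    obtain ⟨k, hk⟩ := (IsPGroup.iff_orderOf.1 P.isPGroup') ⟨x, hxP⟩
    rw [Subgroup.orderOf_mk] at hk
    have hk0 : k ≠ 0 := by
      rintro rfl
      rw [pow_zero, orderOf_eq_one_iff] at hk
      exact hx1 hk
    have h1 : orderOf x ∣ Nat.card M := Subgroup.orderOf_dvd_natCard M hxM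
    rw [hk] at h1
    exact (dvd_pow_self p hk0).trans h1
  -- `M = S N`
  have hSN : S ⊔ N = M := by
    apply le_antisymm (sup_le hSM h.le)
    have h1 : ¬ r ∣ ((S₀ : Subgroup M) ⊔ N.subgroupOf M).index := fun hd =>
      S₀.not_dvd_index (hd.trans (Subgroup.index_dvd_of_le le_sup_left))
    have h2 : IsPGroup r (M ⧸ N.subgroupOf M) := by
      intro x
      obtain ⟨y, rfl⟩ := QuotientGroup.mk_surjective x
      refine ⟨1, ?_⟩
      rw [pow_one, ← QuotientGroup.mk_pow, QuotientGroup.eq_one_iff, Subgroup.mem_subgroupOf]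
      exact h.pow y y.2
    have h3 : ((S₀ : Subgroup M) ⊔ N.subgroupOf M).index ∣ (N.subgroupOf M).index :=
      Subgroup.index_dvd_of_le le_sup_right
    obtain ⟨k, hk⟩ := (IsPGroup.iff_card (p := r)).1 h2
    have h4 : (N.subgroupOf M).index = r ^ k := hk
    rw [h4] at h3
    obtain ⟨j, -, hj⟩ := (Nat.dvd_prime_pow hr).1 h3
    have hj0 : j = 0 := by
      by_contra hj0
      exact h1 (hj ▸ dvd_pow_self r hj0)
    rw [hj0, pow_zero, Subgroup.index_eq_one] at hj
    have h5 := congrArg (Subgroup.map M.subtype) hj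
    rw [Subgroup.map_sup, Subgroup.subgroupOf_map_subtype, inf_eq_left.2 h.le, ← MonoidHom.range_eq_map,
      Subgroup.range_subtype] at h5
    exact h5.ge
  -- the Sylow subgroups
  have hSyl : ∀ Q : Sylow p X, (Q : Subgroup X) ≤ S ⊔ (P : Subgroup X) := by
    intro Q
    obtain ⟨m, hm, rfl⟩ := h.exists_smul P Q
    rw [← hSN] at hm
    obtain ⟨s, hs, n, hn, rfl⟩ := Subgroup.mem_sup_of_normal_right.1 hm
    rw [Sylow.coe_subgroup_smul]
    rintro _ ⟨x, hx, rfl⟩
    have h1 : n * x = x * n := h.comm P n hn x hx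
    have h2 : (s * n) * x * (s * n)⁻¹ = s * x * s⁻¹ := by
      calc (s * n) * x * (s * n)⁻¹ = s * (n * x) * n⁻¹ * s⁻¹ := by group
        _ = s * x * s⁻¹ := by rw [h1]; group
    show (s * n) * x * (s * n)⁻¹ ∈ _
    rw [h2]
    exact mul_mem (mul_mem (Subgroup.mem_sup_left hs) (Subgroup.mem_sup_right hx))
      (inv_mem (Subgroup.mem_sup_left hs))
  set L : Subgroup X := Subgroup.normalClosure ((P : Subgroup X) : Set X) with hL
  have hLn : L.Normal := Subgroup.normalClosure_normal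
  have hPL : (P : Subgroup X) ≤ L := Subgroup.subset_normalClosure
  have hQL : ∀ Q : Sylow p X, (Q : Subgroup X) ≤ L := by
    intro Q
    obtain ⟨m, hm, rfl⟩ := h.exists_smul P Q
    rw [Sylow.coe_subgroup_smul]
    rintro _ ⟨x, hx, rfl⟩
    exact hLn.conj_mem x (hPL hx) m
  have hLS : L ≤ S ⊔ (P : Subgroup X) := by
    rw [hL, Subgroup.normalClosure, Subgroup.closure_le]
    intro x hx
    obtain ⟨s, hs, hsx⟩ := Group.mem_conjugatesOfSet_iff.1 hx
    obtain ⟨g, rfl⟩ := isConj_iff.1 hsx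
    exact hSyl (g • P) (by rw [Sylow.coe_subgroup_smul]; exact ⟨s, hs, rfl⟩)
  have hLS' : ∀ x ∈ L, ∃ y ∈ S, ∃ z ∈ (P : Subgroup X), x = y * z := by
    intro x hx
    have h1 : x ∈ ((S ⊔ (P : Subgroup X) : Subgroup X) : Set X) := hLS hx
    rw [Subgroup.coe_mul_of_right_le_normalizer_left _ _ hP] at h1
    obtain ⟨y, hy, z, hz, rfl⟩ := h1
    exact ⟨y, hy, z, hz, rfl⟩
  have hLM : L ⊓ M ≤ S := by
    rintro x ⟨hxL, hxM⟩
    obtain ⟨y, hy, z, hz, rfl⟩ := hLS' x hxL
    have h1 : z ∈ M ⊓ (P : Subgroup X) := ⟨by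
      have := mul_mem (inv_mem (hSM hy)) hxM
      rwa [inv_mul_cancel_left] at this, hz⟩
    rw [hPM, Subgroup.mem_bot] at h1
    rw [h1, mul_one]; exact hy
  have hRn : (L ⊓ M).Normal := inferInstance
  have hLR : L ≤ L ⊓ M ⊔ (P : Subgroup X) := by
    intro x hx
    obtain ⟨y, hy, z, hz, rfl⟩ := hLS' x hx
    have h1 : y ∈ L := by
      have := mul_mem hx (inv_mem (hPL hz))
      rwa [mul_inv_cancel_right] at this
    exact mul_mem (Subgroup.mem_sup_left ⟨h1, hSM hy⟩) (Subgroup.mem_sup_right hz)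
  refine ⟨L ⊓ M, L, inferInstance, hLn, hSr.to_le hLM, inf_le_right, ?_, hQL, ?_, ?_⟩
  · rcases h.min (L ⊓ M ⊔ N) inferInstance le_sup_right (sup_le inf_le_right h.le) with h1 | h1
    · exfalso
      have hRN : L ⊓ M ≤ N := by rw [← h1]; exact le_sup_left
      apply h.ne
      apply le_antisymm h.le
      intro m hm
      apply h.inf P m hm
      refine Sylow.smul_eq_iff_mem_normalizer.1 ?_
      apply eq_of_le
      rw [Sylow.coe_subgroup_smul]
      rintro _ ⟨x, hx, rfl⟩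
      have h2 : m * x * m⁻¹ * x⁻¹ ∈ L ⊓ M := by
        refine ⟨L.mul_mem (hLn.conj_mem x (hPL hx) m) (L.inv_mem (hPL hx)), ?_⟩
        have h3 : m * x * m⁻¹ * x⁻¹ = m * (x * m⁻¹ * x⁻¹) := by group
        rw [h3]
        exact mul_mem hm (hM.conj_mem _ (inv_mem hm) x)
      have h3 : m * x * m⁻¹ = (m * x * m⁻¹ * x⁻¹) * x := by group
      show m * x * m⁻¹ ∈ _
      rw [h3]
      refine mul_mem ?_ (Subgroup.le_normalizer hx)
      rw [Subgroup.mem_normalizer_iff]
      intro y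
      have h4 := h.comm P _ (hRN h2)
      constructor
      · intro hy
        rw [(h4 y hy).eq, mul_inv_cancel_right]; exact hy
      · intro hy
        have h5 := h4 _ hy
        have h6 : ∀ a y : X, Commute a (a * y * a⁻¹) → y = a * y * a⁻¹ := by
          intro a y hc
          have h7 := (hc.inv_left).eq
          calc y = a⁻¹ * (a * y * a⁻¹) * a := by group
            _ = (a * y * a⁻¹) * a⁻¹ * a := by rw [h7]
            _ = a * y * a⁻¹ := by group
        rw [h6 _ y h5]; exact hy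
    · exact h1
  · intro Q
    obtain ⟨m, hm, rfl⟩ := h.exists_smul P Q
    intro x hx
    have h1 := hLR (hLn.conj_mem x hx m⁻¹)
    obtain ⟨y, hy, z, hz, hyz⟩ := Subgroup.mem_sup_of_normal_left.1 h1
    have h2 : x = (m * y * m⁻¹) * (m * z * m⁻¹) := by
      have h3 : x = m * (m⁻¹ * x * m⁻¹⁻¹) * m⁻¹ := by group
      rw [h3, ← hyz]; group
    rw [h2]
    refine mul_mem (Subgroup.mem_sup_left (hRn.conj_mem y hy m)) (Subgroup.mem_sup_right ?_)
    rw [Sylow.coe_subgroup_smul]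
    exact ⟨z, hz, rfl⟩
  · intro q hq hqd
    have hqF : Fact q.Prime := ⟨hq⟩
    have h1 : Nat.card L ∣ Nat.card (L ⊓ M : Subgroup X) * Nat.card (P : Subgroup X) := by
      have h2 : L = L ⊓ M ⊔ (P : Subgroup X) := le_antisymm hLR (sup_le inf_le_left hPL)
      have h3 : Nat.card L = Nat.card (L ⊓ M : Subgroup X) * (L ⊓ M).relIndex L := by
        have h4 := Subgroup.relIndex_mul_relIndex ⊥ (L ⊓ M) L bot_le inf_le_left
        rw [Subgroup.relIndex_bot_left, Subgroup.relIndex_bot_left] at h4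
        exact h4.symm
      rw [h3]
      apply mul_dvd_mul_left
      have h4 : ∀ R : Subgroup X, R.Normal → L = R ⊔ (P : Subgroup X) →
          R.relIndex L = R.relIndex (P : Subgroup X) := by
        intro R _ e
        rw [e, Subgroup.relIndex_sup_left]
      rw [h4 _ hRn h2]
      exact Subgroup.relIndex_dvd_card _ _
    rcases (hq.dvd_mul).1 (hqd.trans h1) with h2 | h2
    · right
      obtain ⟨k, hk⟩ := (IsPGroup.iff_card (p := r)).1 (hSr.to_le hLM)
      rw [hk] at h2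
      exact (Nat.prime_dvd_prime_iff_eq hq hr).1 (hq.dvd_of_dvd_pow h2)
    · left
      obtain ⟨k, hk⟩ := (IsPGroup.iff_card (p := p)).1 P.isPGroup'
      rw [hk] at h2
      exact (Nat.prime_dvd_prime_iff_eq hq hp.out).1 (hq.dvd_of_dvd_pow h2)

end

end Cfsg.Agent.H596.MaxC
end

-- part: H596/MaxD
section
/-!
# Normalisers of Sylow subgroups: uniqueness of the Sylow subgroup fixing a linear character (helper596)

* `Prm.sub` : the property `Prm` passes to normal subgroups;
* `unique` : if a normal subgroup `L` of `G ⧸ N` of order prime to `q` contains the Sylow `p`-subgroups,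
  then every nontrivial linear character of the `q`-group `N` is fixed by exactly one Sylow `p`-subgroup.
-/

set_option autoImplicit false

open Cfsg

namespace Cfsg.Agent.H596.MaxD

open Cfsg.Agent.Characters.Core Cfsg.Agent.OddOrderCharacters.IndRes
  Cfsg.Agent.OddOrderCharacters.PF9.CliffGen
open Cfsg.Agent.H670.PSing Cfsg.Agent.H596.MaxA Cfsg.Agent.H596.OneSing Cfsg.Agent.H596.OneCtx

universe u

variable {G : Type u} [Group G] [Finite G] {p q : ℕ} [hp : Fact p.Prime]

theorem Prm.sub {N H : Subgroup G} [N.Normal] [H.Normal] (hNH : N ≤ H) (h : Prm p N) :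
    Prm p (N.subgroupOf H) := by
  have : Fintype G := Fintype.ofFinite G
  have : Fintype H := Fintype.ofFinite H
  rintro χ hχ ⟨n, hn, hne⟩ hd
  obtain ⟨ψ, hψ⟩ := Blocks.Over.exists_over H ⟨χ, hχ⟩
  refine h ψ ψ.2 ?_ (hd.trans (degree_dvd_of_over H hχ ψ.2 hψ))
  by_contra hcon
  push Not at hcon
  apply hne
  exact constituent_ker (isCharacter_res H (isIrr_isCharacter ψ.2)) hχ hψ (y := n) (by
    show (ψ : G → ℂ) n = (ψ : G → ℂ) (1 : H)
    rw [Subgroup.coe_one]
    exact hcon n (Subgroup.mem_subgroupOf.1 hn))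

/-- **Uniqueness.** -/
theorem unique (hq : q.Prime) {N : Subgroup G} [hN : N.Normal] (h : Ctx p q N) (hIM : AllIM.{u} p)
    (L : Subgroup (G ⧸ N)) [hL : L.Normal] (hLq : ¬ q ∣ Nat.card L)
    (hS : ∀ P : Sylow p (G ⧸ N), (P : Subgroup (G ⧸ N)) ≤ L) (lam : N →* ℂˣ) (hlam : lam ≠ 1) :
    ∃! Q : Sylow p (G ⧸ N), (Q : Subgroup (G ⧸ N)) ≤ St (act N h.comm) lam := by
  have hqF : Fact q.Prime := ⟨hq⟩
  set H : Subgroup G := L.comap (QuotientGroup.mk' N) with hH
  have hNH : N ≤ H := by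
    intro n hn
    show QuotientGroup.mk' N n ∈ L
    rw [show QuotientGroup.mk' N n = 1 from (QuotientGroup.eq_one_iff n).2 hn]
    exact one_mem _
  have hHn : H.Normal := hL.comap _
  set N' : Subgroup H := N.subgroupOf H with hN'
  have hN'n : N'.Normal := inferInstance
  let e : N' ≃* N := Subgroup.subgroupOfEquivOfLe hNH
  have hc' : ∀ a ∈ N', ∀ b ∈ N', a * b = b * a := fun a ha b hb =>
    Subtype.ext (h.comm a (Subgroup.mem_subgroupOf.1 ha) b (Subgroup.mem_subgroupOf.1 hb))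
  have hprm : Prm p N' := Prm.sub hNH h.prm
  let lam' : N' →* ℂˣ := lam.comp e.toMonoidHom
  have hlam' : lam' ≠ 1 := by
    intro h1
    apply hlam
    ext n
    have h2 := DFunLike.congr_fun h1 (e.symm n)
    have h3 : lam' (e.symm n) = lam n := by
      show lam (e (e.symm n)) = lam n
      rw [e.apply_symm_apply]
    rw [← h3, h2]
    rfl
  -- the index
  have hidx : N'.index = Nat.card L := by
    have h1 : (⊥ : Subgroup (G ⧸ N)).comap (QuotientGroup.mk' N) = N := by
      rw [MonoidHom.comap_bot, QuotientGroup.ker_mk']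
    show N.relIndex H = Nat.card L
    conv_lhs => rw [← h1]
    rw [Subgroup.relIndex_comap, hH, Subgroup.map_comap_eq_self_of_surjective (QuotientGroup.mk'_surjective N),
      Subgroup.relIndex_bot_left]
  obtain ⟨F, hF⟩ := ext_of_sq' (r := q) N' (h.pgr.of_equiv e.symm) (fun hd => hLq (by
    rw [← hidx]
    exact (dvd_pow_self q (by norm_num)).trans hd)) lam'
  obtain ⟨hu, -⟩ := unique_of_ext (p := p) N' hc' hprm (fun T => hIM T) hlam' F hF
  -- the embedding
  let f : H ⧸ N' →* G ⧸ N := QuotientGroup.lift N' ((QuotientGroup.mk' N).comp H.subtype) (by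
    intro n hn
    exact (QuotientGroup.eq_one_iff (n : G)).2 (Subgroup.mem_subgroupOf.1 hn))
  have hf : ∀ x : H, f (QuotientGroup.mk' N' x) = QuotientGroup.mk' N (x : G) := fun x => rfl
  have hfi : Function.Injective f := by
    rw [injective_iff_map_eq_one]
    intro x hx
    obtain ⟨y, rfl⟩ := QuotientGroup.mk'_surjective N' x
    rw [hf] at hx
    exact (QuotientGroup.eq_one_iff y).2 (Subgroup.mem_subgroupOf.2 ((QuotientGroup.eq_one_iff (y : G)).1 hx))
  have hfr : L ≤ f.range := by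
    intro x hx
    obtain ⟨g, rfl⟩ := QuotientGroup.mk'_surjective N x
    exact ⟨QuotientGroup.mk' N' ⟨g, hx⟩, rfl⟩
  have hst : ∀ Q : Sylow p (G ⧸ N), (Q : Subgroup (G ⧸ N)) ≤ St (act N h.comm) lam →
      ((Q.comapOfInjective f hfi ((hS Q).trans hfr) : Sylow p (H ⧸ N')) : Subgroup (H ⧸ N')) ≤
        St (act N' hc') lam' := by
    intro Q hQ
    rw [Sylow.coe_comapOfInjective]
    intro x hx
    obtain ⟨y, rfl⟩ := QuotientGroup.mk'_surjective N' x
    have h1 : QuotientGroup.mk' N (y : G) ∈ (Q : Subgroup (G ⧸ N)) := hx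
    have h2 := hQ h1
    rw [mem_St] at h2 ⊢
    ext n
    have h3 := DFunLike.congr_fun h2 (e n)
    rw [act_mk] at h3
    rw [act_mk]
    have h4 : e ((MulAut.conjNormal y : MulAut N').symm n) = (MulAut.conjNormal (y : G) : MulAut N).symm (e n) := by
      apply Subtype.ext
      rw [MulAut.conjNormal_symm_apply]
      show ((((MulAut.conjNormal y : MulAut N').symm n : N') : H) : G) = _
      rw [MulAut.conjNormal_symm_apply]
      rfl
    show ((lam (e ((MulAut.conjNormal y : MulAut N').symm n)) : ℂˣ) : ℂ) = (lam (e n) : ℂ)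
    rw [h4, h3]
  obtain ⟨Q, hQ⟩ := exists_sylow_le N h.comm h.prm hlam
  refine ⟨Q, hQ, fun R hR => ?_⟩
  have h1 := hu.unique (hst Q hQ) (hst R hR)
  have h2 : (Q : Subgroup (G ⧸ N)).comap f = (R : Subgroup (G ⧸ N)).comap f := by
    have := congrArg (fun P : Sylow p (H ⧸ N') => (P : Subgroup (H ⧸ N'))) h1
    simpa only [Sylow.coe_comapOfInjective] using this
  have h3 := congrArg (Subgroup.map f) h2
  rw [Subgroup.map_comap_eq, Subgroup.map_comap_eq, inf_eq_right.2 ((hS Q).trans hfr),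
    inf_eq_right.2 ((hS R).trans hfr)] at h3
  exact Sylow.ext h3.symm

end Cfsg.Agent.H596.MaxD
end

-- part: H273/S61/Bin
section
/-!
# S4761, task BIN (helper273 for helper596)
-/

set_option autoImplicit false
set_option linter.unusedVariables false

namespace Cfsg.Agent.H273.S61

open Polynomial Module

theorem core {V : Type*} {q r : ℕ} [Fact q.Prime] (hr : r.Prime) [AddCommGroup V] [Module (ZMod q) V] [Finite V]
    [Nontrivial V] (T : Module.End (ZMod q) V) (hTr : T ^ r = 1) (hfix : ∀ v, T v = v → v = 0)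
    (hconj : ∀ j : ℕ, 0 < j → j < r → ∃ B B' : Module.End (ZMod q) V, B * B' = 1 ∧ B' * B = 1 ∧ T ^ j = B * T * B') :
    r - 1 ≤ finrank (ZMod q) V := by
  classical
  have hmf : Module.Finite (ZMod q) V := Module.Finite.of_finite
  set f := minpoly (ZMod q) T with hf
  have hint : IsIntegral (ZMod q) T := Algebra.IsIntegral.isIntegral T
  have hf0 : f ≠ 0 := minpoly.ne_zero hint
  have hdeg : f.natDegree ≤ finrank (ZMod q) V := by
    rw [← LinearMap.charpoly_natDegree T]
    exact natDegree_le_of_dvd (LinearMap.minpoly_dvd_charpoly T) (LinearMap.charpoly_monic T).ne_zero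
  -- `f` divides `X ^ r - 1`
  have hdvd : f ∣ X ^ r - 1 := by
    apply minpoly.dvd
    rw [map_sub, map_pow, aeval_X, map_one, hTr, sub_self]
  -- `1` is not a root
  have h1 : ¬ f.IsRoot 1 := by
    intro h1
    obtain ⟨v, hv⟩ := (Module.End.hasEigenvalue_iff_isRoot.2 h1).exists_hasEigenvector
    have h2 := hv.apply_eq_smul
    rw [one_smul] at h2
    exact hv.2 (hfix v h2)
  -- `f` divides `f (X ^ j)`
  have hj : ∀ j, 0 < j → j < r → f ∣ f.comp (X ^ j) := by
    intro j hj0 hjr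
    obtain ⟨B, B', h3', h3, h2⟩ := hconj j hj0 hjr
    apply minpoly.dvd
    rw [aeval_comp, map_pow, aeval_X]
    have h4 : ∀ g : (ZMod q)[X], aeval (T ^ j) g = B * aeval T g * B' := by
      intro g
      induction g using Polynomial.induction_on' with
      | add g h hg hh => rw [map_add, map_add, hg, hh, mul_add, add_mul]
      | monomial k a =>
        rw [aeval_monomial, aeval_monomial]
        have h5 : ∀ k : ℕ, (T ^ j) ^ k = B * T ^ k * B' := by
          intro k
          induction k with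
          | zero => rw [pow_zero, pow_zero, mul_one, h3']
          | succ k ih =>
            rw [pow_succ, ih, h2, pow_succ]
            calc B * T ^ k * B' * (B * T * B') = B * T ^ k * (B' * B) * T * B' := by simp only [mul_assoc]
              _ = B * (T ^ k * T) * B' := by rw [h3, mul_one, mul_assoc B]
        rw [h5, Algebra.algebraMap_eq_smul_one, smul_one_mul, smul_one_mul, mul_smul_comm, smul_mul_assoc]
    rw [h4, minpoly.aeval, mul_zero, zero_mul]
  -- a root in the algebraic closure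
  let L := AlgebraicClosure (ZMod q)
  obtain ⟨ζ, hζ⟩ := IsAlgClosed.exists_aeval_eq_zero L f (minpoly.degree_pos hint).ne'
  have hζr : ζ ^ r = 1 := by
    obtain ⟨g, hg⟩ := hdvd
    have h2 : aeval ζ (X ^ r - 1 : (ZMod q)[X]) = 0 := by rw [hg, map_mul, hζ, zero_mul]
    rw [map_sub, map_pow, aeval_X, map_one] at h2
    exact sub_eq_zero.1 h2
  have hζ1 : ζ ≠ 1 := by
    intro h2
    apply h1
    rw [h2] at hζ
    have h3 : algebraMap (ZMod q) L (f.eval 1) = 0 := by
      rw [← hζ, aeval_def, eval₂_at_one]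
    exact (map_eq_zero (algebraMap (ZMod q) L)).1 h3
  have hord : orderOf ζ = r := by
    have : Fact r.Prime := ⟨hr⟩
    exact orderOf_eq_prime hζr hζ1
  have hinj : Set.InjOn (fun j => ζ ^ j) (Finset.Ioo 0 r : Set ℕ) := by
    have h2 := pow_injOn_Iio_orderOf (x := ζ)
    rw [hord] at h2
    refine h2.mono fun i hi => ?_
    simp only [Finset.coe_Ioo, Set.mem_Ioo] at hi
    exact hi.2
  have hsub : (Finset.Ioo 0 r).image (fun j => ζ ^ j) ⊆ (f.aroots L).toFinset := by
    intro y hy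
    obtain ⟨j, hj', rfl⟩ := Finset.mem_image.1 hy
    rw [Finset.mem_Ioo] at hj'
    rw [Multiset.mem_toFinset, mem_aroots]
    refine ⟨hf0, ?_⟩
    obtain ⟨g, hg⟩ := hj j hj'.1 hj'.2
    have h2 : aeval ζ (f.comp (X ^ j)) = 0 := by rw [hg, map_mul, hζ, zero_mul]
    rw [aeval_comp, map_pow, aeval_X] at h2
    exact h2
  have hc := Finset.card_le_card hsub
  rw [Finset.card_image_of_injOn hinj, Nat.card_Ioo] at hc
  have h5 := (Multiset.toFinset_card_le _).trans ((card_roots' (f.map (algebraMap (ZMod q) L))).trans natDegree_map_le)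
  have h6 : (f.aroots L).toFinset.card ≤ f.natDegree := h5
  omega

theorem core' {V : Type*} {q r n : ℕ} [Fact q.Prime] (hr : r.Prime) [AddCommGroup V] [Module (ZMod q) V] [Finite V]
    (hcard : Nat.card V = q ^ n) (hn : n ≠ 0) (T : V ≃+ V) (hTr : ∀ v, T^[r] v = v) (hfix : ∀ v, T v = v → v = 0)
    (hconj : ∀ j : ℕ, 0 < j → j < r → ∃ B : V ≃+ V, ∀ v, B (T (B.symm v)) = T^[j] v) : r - 1 ≤ n := by
  have hq : q.Prime := Fact.out
  have hmf : Module.Finite (ZMod q) V := Module.Finite.of_finite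
  have hrank : finrank (ZMod q) V = n := by
    have h1 := Module.natCard_eq_pow_finrank (K := ZMod q) (V := V)
    rw [Nat.card_zmod, hcard] at h1
    exact (Nat.pow_right_injective hq.two_le h1).symm
  have hnt : Nontrivial V := by
    rw [← Finite.one_lt_card_iff_nontrivial, hcard]
    exact Nat.one_lt_pow hn hq.one_lt
  rw [← hrank]
  have hit : ∀ (k : ℕ) (v : V), (T.toAddMonoidHom.toZModLinearMap q)^[k] v = T^[k] v := fun k v => rfl
  refine core hr (T.toAddMonoidHom.toZModLinearMap q) ?_ hfix ?_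
  · ext v
    rw [Module.End.pow_apply, hit, hTr]
    rfl
  · intro j hj0 hjr
    obtain ⟨β, hβ⟩ := hconj j hj0 hjr
    refine ⟨β.toAddMonoidHom.toZModLinearMap q, β.symm.toAddMonoidHom.toZModLinearMap q, ?_, ?_, ?_⟩
    · ext v
      exact β.apply_symm_apply v
    · ext v
      exact β.symm_apply_apply v
    · ext v
      rw [Module.End.pow_apply, hit, ← hβ]
      rfl

theorem le_of_conj {A : Type*} [CommGroup A] [Finite A] {q r n : ℕ} (hq : q.Prime) (hr : r.Prime) (hqr : q ≠ r)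
    (hA : ∀ a : A, a ^ q = 1) (hcard : Nat.card A = q ^ n) (hn : n ≠ 0) (α : MulAut A) (hα : α ^ r = 1)
    (hfix : ∀ a, α a = a → a = 1) (hconj : ∀ j : ℕ, 0 < j → j < r → ∃ β : MulAut A, β * α * β⁻¹ = α ^ j) :
    r - 1 ≤ n := by
  have : Fact q.Prime := ⟨hq⟩
  have hfin : Finite (Additive A) := inferInstanceAs (Finite A)
  have hpow : ∀ (k : ℕ) (a : A), (α ^ k) a = α^[k] a := by
    intro k
    induction k with
    | zero => intro a; rfl
    | succ k ih => intro a; rw [pow_succ', Function.iterate_succ_apply', MulAut.mul_apply, ih]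
  have hit : ∀ (k : ℕ) (v : Additive A), (MulEquiv.toAdditive α)^[k] v = Additive.ofMul (α^[k] v.toMul) := by
    intro k
    induction k with
    | zero => intro a; rfl
    | succ k ih => intro a; rw [Function.iterate_succ_apply', Function.iterate_succ_apply', ih]; rfl
  refine @core' (Additive A) q r n _ hr _ (AddCommGroup.zmodModule (fun x => congrArg Additive.ofMul (hA x.toMul))) _
    hcard hn (MulEquiv.toAdditive α) ?_ ?_ ?_
  · intro v
    rw [hit, ← hpow, hα]
    rfl
  · intro v hv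
    exact congrArg Additive.ofMul (hfix v.toMul (congrArg Additive.toMul hv))
  · intro j hj0 hjr
    obtain ⟨β, hβ⟩ := hconj j hj0 hjr
    refine ⟨MulEquiv.toAdditive β, fun v => ?_⟩
    rw [hit, ← hpow, ← hβ]
    rfl

theorem sum_mul (x k : ℕ) (hx : 1 ≤ x) : (∑ i ∈ Finset.range k, x ^ i) * (x - 1) + 1 = x ^ k := by
  have h := geom_sum_mul_add (x - 1) k
  rwa [Nat.sub_add_cancel hx] at h

/-- a sum of an odd number of odd numbers is odd -/
theorem odd_sum {x k : ℕ} (hx : Odd x) : Odd (∑ i ∈ Finset.range k, x ^ i) ↔ Odd k := by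
  induction k with
  | zero => simp
  | succ k ih =>
    rw [Finset.sum_range_succ, Nat.odd_add, ih, Nat.odd_add]
    have h1 : ¬ Even (x ^ k) := Nat.not_even_iff_odd.2 hx.pow
    simp only [h1, _root_.iff_false, _root_.Nat.not_odd_iff_even, _root_.Nat.not_even_one]

theorem sum_two_mul (x j : ℕ) :
    ∑ i ∈ Finset.range (2 * j), x ^ i = (x + 1) * ∑ i ∈ Finset.range j, (x ^ 2) ^ i := by
  induction j with
  | zero => simp
  | succ j ih =>
    rw [mul_add, mul_one, Finset.sum_range_succ, Finset.sum_range_succ, ih, Finset.sum_range_succ, mul_add]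
    ring

/-- from `q ^ n - 1 = a (q ^ c - 1)`, `a > 0`: `c ∣ n` and `a = 1 + x + ... + x ^ (k - 1)`, `x = q ^ c`, `k = n / c`. -/
theorem exists_sum {q n c a : ℕ} (hq : 2 ≤ q) (hn : 0 < n) (h : q ^ n - 1 = a * (q ^ c - 1)) :
    0 < c ∧ ∃ k : ℕ, 0 < k ∧ n = c * k ∧ a = ∑ i ∈ Finset.range k, (q ^ c) ^ i := by
  have hn1 : 1 < q ^ n := Nat.one_lt_pow hn.ne' hq
  have hc : 0 < c := by
    rcases Nat.eq_zero_or_pos c with h0 | h0
    · rw [h0, pow_zero, Nat.sub_self, mul_zero] at h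
      omega
    · exact h0
  have hc1 : 1 < q ^ c := Nat.one_lt_pow hc.ne' hq
  have hd : c ∣ n := by
    have h1 := Nat.pow_sub_one_gcd_pow_sub_one q c n
    rw [Nat.gcd_eq_left (h ▸ Dvd.intro_left a rfl)] at h1
    have h2 : 1 ≤ q ^ c.gcd n := Nat.one_le_pow _ _ (by omega)
    have h3 : q ^ c = q ^ c.gcd n := by omega
    have h4 := Nat.pow_right_injective hq h3
    rw [h4]
    exact Nat.gcd_dvd_right c n
  obtain ⟨k, hk⟩ := hd
  refine ⟨hc, k, ?_, hk, ?_⟩
  · rcases Nat.eq_zero_or_pos k with h0 | h0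
    · rw [h0, mul_zero] at hk
      omega
    · exact h0
  · have h1 := sum_mul (q ^ c) k hc1.le
    rw [← pow_mul, ← hk] at h1
    have h2 : a * (q ^ c - 1) = (∑ i ∈ Finset.range k, (q ^ c) ^ i) * (q ^ c - 1) := by omega
    exact Nat.eq_of_mul_eq_mul_right (by omega) h2

theorem arith_two {p q n c m : ℕ} (hp : p.Prime) (hq : q.Prime) (hpq : p ≠ q) (hq2 : q ≠ 2) (hn : 0 < n) (hm : 0 < m)
    (h : q ^ n - 1 = 2 ^ m * (q ^ c - 1)) (hmod : p ∣ 2 ^ m - 1) : False := by
  obtain ⟨hc, k, hk0, hk, hs⟩ := exists_sum hq.two_le hn h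
  have hqo : Odd q := hq.odd_of_ne_two hq2
  set x := q ^ c with hx
  have hxo : Odd x := hqo.pow
  have hx3 : 3 ≤ x := by
    have h1 : 1 < x := Nat.one_lt_pow hc.ne' hq.one_lt
    obtain ⟨y, hy⟩ := hxo
    omega
  have hke : ¬ Odd k := by
    rw [← odd_sum hxo, ← hs]
    rw [Nat.not_odd_iff_even]
    exact (Nat.even_pow.2 ⟨even_two, hm.ne'⟩)
  rw [Nat.not_odd_iff_even] at hke
  obtain ⟨j, hj⟩ := hke
  have hj2 : k = 2 * j := by omega
  rw [hj2, sum_two_mul] at hs
  have hd1 : (x + 1) ∣ 2 ^ m := Dvd.intro _ hs.symm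
  have hd2 : (∑ i ∈ Finset.range j, (x ^ 2) ^ i) ∣ 2 ^ m := Dvd.intro_left _ hs.symm
  rcases Nat.lt_or_ge j 2 with hj1 | hj1
  · have hj3 : j = 1 := by omega
    rw [hj3, Finset.sum_range_one, pow_zero, mul_one] at hs
    rw [hs, Nat.add_sub_cancel, hx] at hmod
    exact hpq ((Nat.prime_dvd_prime_iff_eq hp hq).1 (hp.dvd_of_dvd_pow hmod))
  · have hje : ¬ Odd j := by
      rw [← odd_sum (x := x ^ 2) hxo.pow]
      obtain ⟨t, -, ht⟩ := (Nat.dvd_prime_pow Nat.prime_two).1 hd2
      rw [ht, Nat.not_odd_iff_even, Nat.even_pow]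
      refine ⟨even_two, ?_⟩
      rintro rfl
      rw [pow_zero] at ht
      have h1 : ∑ i ∈ Finset.range 2, (x ^ 2) ^ i ≤ ∑ i ∈ Finset.range j, (x ^ 2) ^ i :=
        Finset.sum_le_sum_of_subset (Finset.range_mono hj1)
      rw [Finset.sum_range_succ, Finset.sum_range_one, pow_zero, pow_one, ht] at h1
      nlinarith only [hx3, h1]
    rw [Nat.not_odd_iff_even] at hje
    obtain ⟨l, hl⟩ := hje
    have hl2 : j = 2 * l := by omega
    rw [hl2, sum_two_mul] at hd2
    have hd3 : (x ^ 2 + 1) ∣ 2 ^ m := (Dvd.intro _ rfl).trans hd2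
    obtain ⟨t, -, ht⟩ := (Nat.dvd_prime_pow Nat.prime_two).1 hd3
    obtain ⟨y, hy⟩ := hxo
    have h1 : x ^ 2 + 1 = 4 * (y ^ 2 + y) + 2 := by rw [hy]; ring
    have h2 : t < 2 := by
      by_contra h2
      have h3 : 4 ∣ 2 ^ t := pow_dvd_pow 2 (not_lt.1 h2)
      omega
    have h3 : 2 ^ t ≤ 2 ^ 1 := Nat.pow_le_pow_right (by norm_num) (by omega)
    linarith only [hx3, ht, hy, h1, h3, _root_.sq_nonneg (↑y : ℤ)]

theorem arith_odd {p q r n c : ℕ} (hp : p.Prime) (hq : q.Prime) (hr : r.Prime) (hr2 : r ≠ 2) (hpq : p ≠ q) (hn : 0 < n)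
    (hrn : r - 1 ≤ n) (h : q ^ n - 1 = r * (q ^ c - 1)) (hmod : p ∣ r - 1) : False := by
  obtain ⟨hc, k, hk0, hk, hs⟩ := exists_sum hq.two_le hn h
  have hr3 : 3 ≤ r := by
    have := hr.two_le
    omega
  have hq2 := hq.two_le
  -- `k ≥ 2`
  have hk2 : 2 ≤ k := by
    by_contra hk1
    have h1 : k = 1 := by omega
    rw [h1, Finset.sum_range_one, pow_zero] at hs
    omega
  -- `q ^ (n - c) ≤ r`
  have h1 : q ^ (n - c) ≤ r := by
    rw [hs, hk]
    have h2 : c * k - c = c * (k - 1) := by rw [Nat.mul_sub, mul_one]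
    rw [h2, pow_mul]
    exact Finset.single_le_sum (f := fun i => (q ^ c) ^ i) (fun i _ => Nat.zero_le _)
      (Finset.mem_range.2 (by omega : k - 1 < k))
  have hn2 : 2 * c ≤ n := by rw [hk, mul_comm 2 c]; exact Nat.mul_le_mul_left c hk2
  set d := n - c with hd
  have hnd : n = c + d := by omega
  have hd2 : d ≤ 2 := by
    by_contra h3
    have h4 : 2 ^ d ≤ q ^ d := Nat.pow_le_pow_left hq2 d
    have h5 : 2 * d + 1 < 2 ^ d := by
      have h6 : ∀ e : ℕ, 2 * (e + 3) + 1 < 2 ^ (e + 3) := by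
        intro e
        induction e with
        | zero => norm_num
        | succ e ih => rw [show e + 1 + 3 = (e + 3) + 1 by ring, pow_succ]; omega
      have := h6 (d - 3)
      rwa [show d - 3 + 3 = d by omega] at this
    omega
  have hd1 : 1 ≤ d := by omega
  have hcd : c ≤ d := by omega
  have hrle : r ≤ n + 1 := by omega
  have key : q = 2 ∧ (r = 3 ∨ r = 5) := by
    interval_cases d
    · have hc1 : c = 1 := by omega
      have hn' : n = 2 := by omega
      have hq3 : q ≤ 3 := by rw [pow_one] at h1; omega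
      rw [hc1, hn', pow_one] at h
      interval_cases q
      · exact ⟨rfl, by omega⟩
      · exfalso
        norm_num at h
        have : r = 4 := by omega
        rw [this] at hr
        exact absurd hr (by decide)
    · have hq3 : q < 3 := by
        by_contra h3
        have : 3 ^ 2 ≤ q ^ 2 := Nat.pow_le_pow_left (not_lt.1 h3) 2
        omega
      have hq' : q = 2 := by omega
      refine ⟨hq', ?_⟩
      rw [hq'] at h
      interval_cases c
      · have hn' : n = 3 := by omega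
        rw [hn'] at h
        norm_num at h
        omega
      · have hn' : n = 4 := by omega
        rw [hn'] at h
        norm_num at h
        omega
  obtain ⟨hq', h3⟩ := key
  have hp2 : p = 2 := by
    rcases h3 with h3 | h3
    · rw [h3] at hmod
      exact (Nat.prime_dvd_prime_iff_eq hp Nat.prime_two).1 hmod
    · rw [h3] at hmod
      have h4 : p ∣ 2 ^ 2 := hmod
      exact (Nat.prime_dvd_prime_iff_eq hp Nat.prime_two).1 (hp.dvd_of_dvd_pow h4)
  exact hpq (hp2.trans hq'.symm)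

end Cfsg.Agent.H273.S61
end

-- part: H596/MaxE
section
/-!
# Normalisers of Sylow subgroups: the contradiction in the critical situation (helper596, for S4761)

`X` acts on the elementary abelian `q`-group `A` such that every `a ≠ 1` is fixed by exactly one Sylow
`p`-subgroup.

* `fix_of_comm` : an element commuting with the Sylow `p`-subgroups and fixing some `a ≠ 1` acts trivially;
* `fix_out` : the elements of `M` outside `N` have no nontrivial fixed points;
* `contra` : the situation `Sit p r N M` is impossible.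
-/

set_option autoImplicit false

open Cfsg

namespace Cfsg.Agent.H596.MaxE

open Cfsg.Agent.H596.MaxA Cfsg.Agent.H596.MaxC Cfsg.Agent.H596.OneSing Cfsg.Agent.H596.OnePart
open scoped Pointwise

section

variable {X A : Type*} [Group X] [Finite X] [CommGroup A] {ρ : X →* MulAut A} {p : ℕ} [hp : Fact p.Prime]

omit [Finite X] hp in
theorem Fx_of_comm {Q : Sylow p X} {z : X} (hz : ∀ s ∈ (Q : Subgroup X), Commute z s) {b : A}
    (hb : b ∈ Fx ρ (Q : Subgroup X)) : ρ z b ∈ Fx ρ (Q : Subgroup X) := by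
  intro s hs
  rw [← MulAut.mul_apply, ← map_mul, ← (hz s hs).eq, map_mul, MulAut.mul_apply, hb s hs]

/-- An element commuting with the Sylow `p`-subgroups and fixing some `a ≠ 1` acts trivially. -/
theorem fix_of_comm (hu : ∀ a : A, a ≠ 1 → ∃! Q : Sylow p X, (Q : Subgroup X) ≤ St ρ a)
    (h2 : ∃ P Q : Sylow p X, P ≠ Q) {z : X} (hz : ∀ Q : Sylow p X, ∀ s ∈ (Q : Subgroup X), Commute z s)
    {a : A} (ha : a ≠ 1) (hza : ρ z a = a) : ρ z = 1 := by
  have step : ∀ (a : A), a ≠ 1 → ρ z a = a → ∀ Q : Sylow p X, a ∈ Fx ρ (Q : Subgroup X) →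
      ∀ (R : Sylow p X), R ≠ Q → ∀ b ∈ Fx ρ (R : Subgroup X), ρ z b = b := by
    intro a ha hza Q hQ R hRQ b hb
    by_contra hne
    have hb1 : b ≠ 1 := by rintro rfl; exact hne (map_one _)
    have hab : a * b ≠ 1 := by
      intro h1
      have h3 : b = a⁻¹ := (inv_eq_of_mul_eq_one_right h1).symm
      exact hRQ ((hu b hb1).unique hb (by
        show b ∈ Fx ρ (Q : Subgroup X)
        rw [h3]; exact inv_mem hQ))
    obtain ⟨S, hS, -⟩ := hu _ hab
    have hS' : a * b ∈ Fx ρ (S : Subgroup X) := hS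
    have h3 := Fx_of_comm (hz S) hS'
    rw [map_mul, hza] at h3
    have hc : ρ z b * b⁻¹ ≠ 1 := fun h => hne (mul_inv_eq_one.1 h)
    have h4 : ρ z b * b⁻¹ ∈ Fx ρ (S : Subgroup X) := by
      have h5 : ρ z b * b⁻¹ = (a * ρ z b) * (a * b)⁻¹ := by
        rw [mul_inv_rev, mul_comm b⁻¹, mul_comm a, mul_assoc, mul_inv_cancel_left]
      rw [h5]
      exact mul_mem h3 (inv_mem hS')
    have h5 : ρ z b * b⁻¹ ∈ Fx ρ (R : Subgroup X) := mul_mem (Fx_of_comm (hz R) hb) (inv_mem hb)
    have h6 : S = R := (hu _ hc).unique h4 h5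
    rw [h6] at hS'
    have h7 : a ∈ Fx ρ (R : Subgroup X) := by
      have := mul_mem hS' (inv_mem hb)
      rwa [mul_inv_cancel_right] at this
    exact hRQ ((hu a ha).unique h7 hQ)
  obtain ⟨Q, hQ, -⟩ := hu a ha
  obtain ⟨R, hR⟩ : ∃ R : Sylow p X, R ≠ Q := by
    obtain ⟨P, P', hPP'⟩ := h2
    by_cases h3 : P = Q
    · exact ⟨P', fun h4 => hPP' (h3.trans h4.symm)⟩
    · exact ⟨P, h3⟩
  obtain ⟨g, hg⟩ := MulAction.exists_smul_eq X Q R
  have hb : ρ g a ∈ Fx ρ (R : Subgroup X) := by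
    rw [← hg, Fx_smul]
    exact ⟨a, hQ, rfl⟩
  have hb1 : ρ g a ≠ 1 := fun h => ha ((map_eq_one_iff _ (ρ g).injective).1 h)
  have hzb := step a ha hza Q hQ R hR _ hb
  ext1 c
  show ρ z c = c
  by_cases hc1 : c = 1
  · rw [hc1, map_one]
  obtain ⟨S, hS, -⟩ := hu c hc1
  by_cases hSQ : S = Q
  · exact step _ hb1 hzb R hb S (by rw [hSQ]; exact hR.symm) c hS
  · exact step a ha hza Q hQ S hSQ c hS

variable {r : ℕ} {N M : Subgroup X}

omit hp in
/-- The elements of `M` outside `N` have no nontrivial fixed points. -/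
theorem fix_out (hu : ∀ a : A, a ≠ 1 → ∃! Q : Sylow p X, (Q : Subgroup X) ≤ St ρ a) (h : Sit p r N M)
    {x : X} (hx : x ∈ M) (hxN : x ∉ N) {a : A} (ha : ρ x a = a) : a = 1 := by
  by_contra ha1
  obtain ⟨Q, hQ, huniq⟩ := hu a ha1
  apply hxN
  apply h.inf Q x hx
  refine Sylow.smul_eq_iff_mem_normalizer.1 ?_
  apply huniq
  have h1 : a ∈ Fx ρ ((x • Q : Sylow p X) : Subgroup X) := by
    rw [Fx_smul]
    exact ⟨a, hQ, ha⟩
  exact h1

/-- The number of Sylow `p`-subgroups. -/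
theorem card_sylow (h : Sit p r N M) : Nat.card (Sylow p X) = N.relIndex M := by
  obtain ⟨P⟩ : Nonempty (Sylow p X) := inferInstance
  have htr : MulAction.IsPretransitive M (Sylow p X) := by
    refine ⟨fun P Q => ?_⟩
    obtain ⟨m, hm, hmP⟩ := h.exists_smul P Q
    exact ⟨⟨m, hm⟩, hmP⟩
  rw [← MulAction.index_stabilizer_of_transitive M P]
  show _ = (N.subgroupOf M).index
  congr 1
  ext x
  rw [MulAction.mem_stabilizer_iff, Subgroup.mem_subgroupOf]
  constructor
  · intro hx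
    exact h.inf P x x.2 (Sylow.smul_eq_iff_mem_normalizer.1 hx)
  · intro hx
    refine Sylow.smul_eq_iff_mem_normalizer.2 ?_
    show (x : X) ∈ Subgroup.normalizer ((P : Subgroup X) : Set X)
    have key : ∀ y ∈ N, ∀ s ∈ (P : Subgroup X), y * s * y⁻¹ ∈ (P : Subgroup X) := by
      intro y hy s hs
      rw [(h.comm P y hy s hs).eq, mul_inv_cancel_right]
      exact hs
    rw [Subgroup.mem_normalizer_iff]
    intro s
    constructor
    · exact key x hx s
    · intro hs
      have := key _ (inv_mem hx) _ hs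
      have h3 : (x : X)⁻¹ * (x * s * (x : X)⁻¹) * (x : X)⁻¹⁻¹ = s := by group
      rwa [h3] at this

/-- An `r`-group of fixed point free automorphisms is cyclic, `r` odd. -/
theorem cyclic [Finite A] [Nontrivial A] {q : ℕ} (hq : q.Prime) (hA : ∀ a : A, a ^ q = 1) (hr : r.Prime)
    (hr2 : r ≠ 2) (hrq : r ≠ q) (Y : Subgroup (MulAut A)) (hY : IsPGroup r Y)
    (hf : ∀ y ∈ Y, y ≠ 1 → ∀ a : A, y a = a → a = 1) : IsCyclic Y := by
  have : Fact r.Prime := ⟨hr⟩
  have : Fact q.Prime := ⟨hq⟩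
  have hfinA : Finite (MulAut A) :=
    Finite.of_injective (fun g : MulAut A => (g : A → A)) DFunLike.coe_injective
  by_contra hcon
  obtain ⟨E, -, hE, hcE⟩ := Cfsg.Agent.S0126.result hr2 hY hcon
  let E' : Subgroup (MulAut A) := E.map Y.subtype
  have eE : E ≃* E' := E.equivMapOfInjective _ Y.subtype_injective
  have hcE' : Nat.card E' = r ^ 2 := by rw [← Nat.card_congr eE.toEquiv, hcE]
  have hcomm : IsMulCommutative E' := by
    refine ⟨⟨fun a b => ?_⟩⟩
    apply eE.symm.injective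
    rw [map_mul, map_mul]
    exact hE.1.is_comm.comm _ _
  have hnc : ¬ IsCyclic E' := by
    intro hc
    have hc2 : IsCyclic E := isCyclic_of_surjective eE.symm eE.symm.surjective
    obtain ⟨g, hg⟩ := hc2.exists_generator
    have h1 : orderOf g = r ^ 2 := by rw [orderOf_eq_card_of_forall_mem_zpowers hg, hcE]
    have h2 : orderOf g ∣ r := orderOf_dvd_of_pow_eq_one (Subtype.ext (hE.2 g g.2))
    rw [h1] at h2
    have h3 := Nat.le_of_dvd hr.pos h2
    have := hr.two_le
    nlinarith only [h3, this]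
  have hAq : IsPGroup q A := fun a => ⟨1, by rw [pow_one]; exact hA a⟩
  obtain ⟨n, hn⟩ := (IsPGroup.iff_card (p := q)).1 hAq
  have h1 := H586.GenAut.gen E' hnc (⊤ : Subgroup A) (fun a _ x _ => trivial) (by
    rw [hcE', Subgroup.card_top, hn]
    exact Nat.Coprime.pow _ _ ((Nat.coprime_primes hr hq).2 hrq))
  have h2 : Subgroup.closure {x : A | x ∈ (⊤ : Subgroup A) ∧ ∃ a ∈ E', a ≠ 1 ∧ a x = x} ≤ ⊥ := by
    rw [Subgroup.closure_le]
    rintro x ⟨-, a, ha, ha1, hax⟩
    obtain ⟨y, hy, rfl⟩ := ha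
    exact hf _ y.2 ha1 x hax
  obtain ⟨a, ha⟩ := exists_ne (1 : A)
  exact ha (h2 (h1 (Subgroup.mem_top a)))

/-- **The contradiction.** -/
theorem contra [Finite A] {q n : ℕ} (hq : q.Prime) (hA : ∀ a : A, a ^ q = 1) (hcA : Nat.card A = q ^ n)
    (hn : 0 < n) (hu : ∀ a : A, a ≠ 1 → ∃! Q : Sylow p X, (Q : Subgroup X) ≤ St ρ a) (h : Sit p r N M)
    (hr : r.Prime) (hrq : r ≠ q) (hpq : p ≠ q)
    (hG : N.relIndex M = r → ∀ x ∈ M, x ∉ N → ∀ j : ℕ, 0 < j → j < r → ∃ g : X, g * x * g⁻¹ * (x ^ j)⁻¹ ∈ N) :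
    False := by
  have : Fact r.Prime := ⟨hr⟩
  have : Fact q.Prime := ⟨hq⟩
  have hNn := h.normN
  have hMn := h.normM
  have hfinA : Finite (MulAut A) :=
    Finite.of_injective (fun g : MulAut A => (g : A → A)) DFunLike.coe_injective
  have hnt : Nontrivial A := by
    rw [← Finite.one_lt_card_iff_nontrivial, hcA]
    exact Nat.one_lt_pow hn.ne' hq.one_lt
  obtain ⟨P⟩ : Nonempty (Sylow p X) := inferInstance
  -- numbers
  have hv := card_sylow h
  have hmod : p ∣ N.relIndex M - 1 := by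
    have h1 := card_sylow_modEq_one p X
    rw [hv] at h1
    exact (Nat.modEq_iff_dvd' (Nat.pos_of_ne_zero (by
      rw [← hv]; exact Nat.card_pos.ne'))).1 h1.symm
  obtain ⟨R, L, hRn, hLn, hRr, hRM, hRN, hPL, hLP, -⟩ := h.exists_R hr
  have hrel : N.relIndex M = N.relIndex R := by rw [← hRN, Subgroup.relIndex_sup_right]
  obtain ⟨m, hm⟩ : ∃ m, N.relIndex M = r ^ m := by
    rw [hrel]
    obtain ⟨k, hk⟩ := (IsPGroup.iff_card (p := r)).1 hRr
    have h1 : N.relIndex R ∣ r ^ k := by rw [← hk]; exact Subgroup.relIndex_dvd_card _ _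
    obtain ⟨j, -, hj⟩ := (Nat.dvd_prime_pow hr).1 h1
    exact ⟨j, hj⟩
  have hm0 : 0 < m := by
    rcases Nat.eq_zero_or_pos m with rfl | h1
    · exfalso
      rw [pow_zero, Subgroup.relIndex_eq_one] at hm
      exact h.ne (le_antisymm h.le hm)
    · exact h1
  have hpart := card_partition ρ hu P
  obtain ⟨c, hc⟩ : ∃ c, Nat.card (Fx ρ (P : Subgroup X)) = q ^ c := by
    have hFq : IsPGroup q (Fx ρ (P : Subgroup X)) := fun a => ⟨1, by
      rw [pow_one]; exact Subtype.ext (hA a)⟩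
    exact (IsPGroup.iff_card (p := q)).1 hFq
  rw [hcA, hv, hc] at hpart
  by_cases hr2 : r = 2
  · rw [hm, hr2] at hpart hmod
    exact H273.S61.arith_two hp.out hq hpq (fun h1 => hrq (hr2.trans h1.symm)) hn hm0 hpart hmod
  -- `r` odd
  have h2 : ∃ P Q : Sylow p X, P ≠ Q := by
    by_contra hcon
    push Not at hcon
    have h1 : Nat.card (Sylow p X) = 1 := by
      rw [Nat.card_eq_one_iff_unique]
      exact ⟨⟨hcon⟩, inferInstance⟩
    rw [hv, hm] at h1
    have := Nat.one_lt_pow hm0.ne' hr.one_lt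
    omega
  have hNc : ∀ z ∈ N, ∀ Q : Sylow p X, ∀ s ∈ (Q : Subgroup X), Commute z s := fun z hz Q s hs =>
    h.comm Q z hz s hs
  have hF1 : ∀ x ∈ M, x ∉ N → ∀ a : A, ρ x a = a → a = 1 := fun x hx hxN a ha =>
    fix_out hu h hx hxN ha
  have hker : ∀ x ∈ M, ρ x = 1 → x ∈ N := by
    intro x hx h1
    by_contra hxN
    obtain ⟨a, ha⟩ := exists_ne (1 : A)
    exact ha (hF1 x hx hxN a (by rw [h1]; rfl))
  -- `Y` is cyclic
  set Y : Subgroup (MulAut A) := R.map ρ with hY
  have hYc : IsCyclic Y := by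
    refine cyclic hq hA hr hr2 hrq Y (hRr.map ρ) ?_
    rintro _ ⟨x, hx, rfl⟩ hx1 a ha
    by_cases hxN : x ∈ N
    · by_contra ha1
      exact hx1 (fix_of_comm hu h2 (hNc x hxN) ha1 ha)
    · exact hF1 x (hRM hx) hxN a ha
  obtain ⟨⟨y, hyY⟩, hyg⟩ := hYc.exists_generator
  obtain ⟨x₀, hx₀, hxy⟩ := hyY
  have hgen : ∀ x ∈ R, ∃ k : ℤ, ρ x = ρ (x₀ ^ k) := by
    intro x hx
    obtain ⟨k, hk⟩ := Subgroup.mem_zpowers_iff.1 (hyg ⟨ρ x, ⟨x, hx, rfl⟩⟩)
    refine ⟨k, ?_⟩
    have h1 : y ^ k = ρ x := congrArg Subtype.val hk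
    rw [map_zpow, hxy, h1]
  have hx₀N : x₀ ∉ N := by
    intro h0
    apply h.ne
    apply le_antisymm h.le
    rw [← hRN]
    refine sup_le (fun x hx => ?_) le_rfl
    obtain ⟨k, hk⟩ := hgen x hx
    have h1 : x * (x₀ ^ k)⁻¹ ∈ N := by
      apply hker _ (mul_mem (hRM hx) (inv_mem (zpow_mem (hRM hx₀) k)))
      rw [map_mul, hk, map_inv, mul_inv_cancel]
    have h3 := mul_mem h1 (zpow_mem h0 k)
    rwa [inv_mul_cancel_right] at h3
  have hρ1 : ρ x₀ ≠ 1 := fun h1 => hx₀N (hker _ (hRM hx₀) h1)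
  have hrp : r ≠ p := by
    rintro rfl
    apply h.cop
    have h1 : x₀ ≠ 1 := by rintro rfl; exact hx₀N (one_mem _)
    obtain ⟨k, hk⟩ := (IsPGroup.iff_orderOf.1 hRr) ⟨x₀, hx₀⟩
    rw [Subgroup.orderOf_mk] at hk
    have hk0 : k ≠ 0 := by
      rintro rfl
      rw [pow_zero, orderOf_eq_one_iff] at hk
      exact h1 hk
    have h3 : orderOf x₀ ∣ Nat.card M := Subgroup.orderOf_dvd_natCard M (hRM hx₀)
    rw [hk] at h3
    exact (dvd_pow_self r hk0).trans h3
  -- `P` does not commute with `ρ x₀`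
  have hP0 : ¬ ∀ s ∈ (P : Subgroup X), Commute (ρ s) (ρ x₀) := by
    intro hcom
    obtain ⟨a₀, ha₀⟩ := exists_ne (1 : A)
    obtain ⟨Q, hQ, -⟩ := hu a₀ ha₀
    obtain ⟨g, hg⟩ := MulAction.exists_smul_eq X Q P
    have ha : ρ g a₀ ∈ Fx ρ (P : Subgroup X) := by
      rw [← hg, Fx_smul]
      exact ⟨a₀, hQ, rfl⟩
    have ha1 : ρ g a₀ ≠ 1 := fun h => ha₀ ((map_eq_one_iff _ (ρ g).injective).1 h)
    set a := ρ g a₀ with ha'
    have h1 : ρ x₀ a ∈ Fx ρ (P : Subgroup X) := by
      intro s hs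
      rw [← MulAut.mul_apply, (hcom s hs).eq, MulAut.mul_apply, ha s hs]
    have h3 : ρ x₀ a ∈ Fx ρ ((x₀ • P : Sylow p X) : Subgroup X) := by
      rw [Fx_smul]
      exact ⟨a, ha, rfl⟩
    have h4 : ρ x₀ a ≠ 1 := fun h => ha1 ((map_eq_one_iff _ (ρ x₀).injective).1 h)
    have h5 := (hu _ h4).unique h3 h1
    exact hx₀N (h.inf P x₀ (hRM hx₀) (Sylow.smul_eq_iff_mem_normalizer.1 h5))
  -- `N ⊓ R` acts trivially
  have hz0 : ∀ z ∈ N, z ∈ R → ρ z = 1 := by
    intro z hzN hzR
    by_contra hz1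
    apply hP0
    obtain ⟨k, hk⟩ := (IsPGroup.iff_orderOf.1 (hRr.map ρ)) ⟨ρ x₀, Subgroup.mem_map_of_mem ρ hx₀⟩
    rw [Subgroup.orderOf_mk] at hk
    have hyr : ρ x₀ ^ r ≠ 1 := by
      intro h1
      obtain ⟨i, hi⟩ := hgen z hzR
      have hri : ¬ (r : ℤ) ∣ i := by
        rintro ⟨t, rfl⟩
        apply hz1
        rw [hi, map_zpow, zpow_mul, zpow_natCast, h1, one_zpow]
      have hcop : IsCoprime (i : ℤ) (r : ℤ) := by
        rw [isCoprime_comm]
        exact (Nat.prime_iff_prime_int.1 hr).coprime_iff_not_dvd.2 hri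
      obtain ⟨a, b, hab⟩ := hcop
      have h3 : ρ x₀ = ρ (z ^ a) := by
        calc ρ x₀ = ρ x₀ ^ (a * i + b * r) := by rw [hab, zpow_one]
          _ = (ρ x₀ ^ i) ^ a := by
            rw [zpow_add, mul_comm b, zpow_mul (ρ x₀) (r : ℤ) b, zpow_natCast, h1, one_zpow, mul_one, mul_comm a,
              zpow_mul]
          _ = ρ (z ^ a) := by rw [← map_zpow, ← hi, ← map_zpow]
      have h4 : x₀ * (z ^ a)⁻¹ ∈ N := by
        apply hker _ (mul_mem (hRM hx₀) (inv_mem (zpow_mem (h.le hzN) a)))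
        rw [map_mul, h3, map_inv, mul_inv_cancel]
      have h5 := mul_mem h4 (zpow_mem hzN a)
      rw [inv_mul_cancel_right] at h5
      exact hx₀N h5
    have hk2 : 2 ≤ k := by
      by_contra hcon
      apply hyr
      have h1 : orderOf (ρ x₀) ∣ r := by
        rw [hk]
        exact (pow_dvd_pow r (show k ≤ 1 by omega)).trans (by rw [pow_one])
      exact orderOf_dvd_iff_pow_eq_one.1 h1
    have hxrN : x₀ ^ r ∈ N := h.pow x₀ (hRM hx₀)
    intro s hs
    obtain ⟨t, ht⟩ := hgen (s * x₀ * s⁻¹) (hRn.conj_mem x₀ hx₀ s)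
    have h1 : ρ x₀ ^ ((t - 1) * r) = 1 := by
      have h3 : (s * x₀ * s⁻¹) ^ r = x₀ ^ r := by
        rw [← MulAut.conj_apply, ← map_pow, MulAut.conj_apply, ← (h.comm P _ hxrN s hs).eq, mul_inv_cancel_right]
      have h4 : ρ x₀ ^ (t * r) = ρ x₀ ^ (r : ℤ) := by
        rw [zpow_mul, ← map_zpow, ← ht, zpow_natCast, zpow_natCast, ← map_pow, ← map_pow, h3]
      rw [sub_mul, one_mul, zpow_sub, h4, mul_inv_cancel]
    have h3 : (r : ℤ) ∣ t - 1 := by
      have h4 : ((r ^ k : ℕ) : ℤ) ∣ (t - 1) * r := by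
        rw [← hk]
        exact orderOf_dvd_iff_zpow_eq_one.2 h1
      obtain ⟨l, rfl⟩ := Nat.exists_eq_add_of_le hk2
      obtain ⟨w, hw⟩ := h4
      have hr0 : (r : ℤ) ≠ 0 := by exact_mod_cast hr.ne_zero
      refine ⟨r ^ l * w, ?_⟩
      apply mul_right_cancel₀ hr0
      rw [hw]
      push_cast
      ring
    obtain ⟨w, hw⟩ := h3
    set c' := ρ x₀ ^ (t - 1) with hc'
    have hcs : Commute (ρ s) c' := by
      have h4 : c' = ρ ((x₀ ^ r) ^ w) := by
        rw [hc', hw, zpow_mul, zpow_natCast, ← map_pow, ← map_zpow]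
      rw [h4]
      exact ((h.comm P _ (zpow_mem hxrN w) s hs).symm).map ρ
    have hcr : c' ^ r = 1 := by
      rw [hc', ← zpow_natCast, ← zpow_mul]
      exact h1
    have hsx : ρ s * ρ x₀ * (ρ s)⁻¹ = c' * ρ x₀ := by
      rw [← map_inv, ← map_mul, ← map_mul, ht, map_zpow, hc']
      nth_rewrite 3 [← zpow_one (ρ x₀)]
      rw [← zpow_add, sub_add_cancel]
    have hit : ∀ i : ℕ, ρ s ^ i * ρ x₀ * (ρ s ^ i)⁻¹ = c' ^ i * ρ x₀ := by
      intro i
      induction i with
      | zero => simp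
      | succ i ih =>
        have e1 : ρ s ^ (i + 1) * ρ x₀ * (ρ s ^ (i + 1))⁻¹ = ρ s * (ρ s ^ i * ρ x₀ * (ρ s ^ i)⁻¹) * (ρ s)⁻¹ := by
          rw [pow_succ']; group
        rw [e1, ih]
        have e2 : ρ s * (c' ^ i * ρ x₀) * (ρ s)⁻¹ = c' ^ i * (ρ s * ρ x₀ * (ρ s)⁻¹) := by
          rw [← mul_assoc (ρ s), (hcs.pow_right i).eq]; group
        rw [e2, hsx, pow_succ, mul_assoc]
    obtain ⟨j, hj⟩ := P.isPGroup' ⟨s, hs⟩
    have hj' : s ^ p ^ j = 1 := congrArg Subtype.val hj
    have hcp : c' ^ p ^ j = 1 := by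
      have h4 := hit (p ^ j)
      rw [← map_pow, hj', map_one, one_mul, inv_one, mul_one] at h4
      exact (mul_eq_right.1 h4.symm)
    have hc1 : c' = 1 := by
      rw [← orderOf_eq_one_iff]
      exact Nat.eq_one_of_dvd_coprimes (Nat.Coprime.pow_left _ ((Nat.coprime_primes hp.out hr).2 hrp.symm))
        (orderOf_dvd_of_pow_eq_one hcp) (orderOf_dvd_of_pow_eq_one hcr)
    rw [hc1, one_mul] at hsx
    exact mul_inv_eq_iff_eq_mul.1 hsx
  have hyr : ρ x₀ ^ r = 1 := by
    rw [← map_pow]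
    exact hz0 _ (h.pow x₀ (hRM hx₀)) (pow_mem hx₀ r)
  have hord : orderOf (ρ x₀) = r := orderOf_eq_prime hyr hρ1
  have hidx : N.relIndex M = r := by
    rw [hrel]
    have h1 : N.subgroupOf R = (ρ.comp R.subtype).ker := by
      ext x
      rw [Subgroup.mem_subgroupOf, MonoidHom.mem_ker]
      constructor
      · intro hx; exact hz0 x hx x.2
      · intro hx; exact hker x (hRM x.2) hx
    show (N.subgroupOf R).index = r
    rw [h1, Subgroup.index_ker, MonoidHom.range_comp, Subgroup.range_subtype, ← hord, ← hxy.symm]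
    have h3 := orderOf_eq_card_of_forall_mem_zpowers hyg
    rw [← Subgroup.orderOf_coe] at h3
    exact h3.symm
  -- the end
  have hrn : r - 1 ≤ n := by
    refine H273.S61.le_of_conj hq hr hrq.symm hA hcA hn.ne' (ρ x₀) hyr (hF1 x₀ (hRM hx₀) hx₀N) ?_
    intro j hj hjr
    obtain ⟨g, hg⟩ := hG hidx x₀ (hRM hx₀) hx₀N j hj hjr
    refine ⟨ρ g, ?_⟩
    have h1 : ρ (g * x₀ * g⁻¹ * (x₀ ^ j)⁻¹) = 1 :=
      hz0 _ hg (mul_mem (hRn.conj_mem x₀ hx₀ g) (inv_mem (pow_mem hx₀ j)))
    rw [map_mul, map_inv, mul_inv_eq_one, map_mul, map_mul, map_inv, map_pow] at h1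
    exact h1
  rw [hidx] at hpart hmod
  exact H273.S61.arith_odd hp.out hq hr hr2 hpq hn hrn hpart hmod

end

end Cfsg.Agent.H596.MaxE
end

-- part: H596/MaxF
section
/-!
# Normalisers of Sylow subgroups: the critical situation does not occur (helper596, for S4761)

* `comm_of_eq` : `r ≠ q`;
* `conj_pow` : the generators of a normal subgroup of prime order are conjugate;
* `step_B` : the critical situation does not occur.
-/

set_option autoImplicit false

open Cfsg

namespace Cfsg.Agent.H596.MaxF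

open Cfsg.Agent.Characters.Core Cfsg.Agent.OddOrderCharacters.IndRes
  Cfsg.Agent.OddOrderCharacters.PF9.CliffGen
open Cfsg.Agent.H670.PSing Cfsg.Agent.H596.MaxA Cfsg.Agent.H596.OneSing Cfsg.Agent.H596.OneCtx
open Cfsg.Agent.H596.MaxC Cfsg.Agent.H596.MaxB Cfsg.Agent.H596.Fld
open scoped Pointwise

universe u

variable {G : Type u} [Group G] [Finite G] {p : ℕ} [hp : Fact p.Prime]

/-- **The case `r = q`**. -/
theorem comm_of_eq {q : ℕ} (hq : q.Prime) {N₁ : Subgroup G} [hN₁ : N₁.Normal] (h : Ctx p q N₁)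
    {N M : Subgroup (G ⧸ N₁)} (hs : Sit p q N M) (P : Sylow p G) :
    ∀ s ∈ (P : Subgroup G), ∀ n ∈ N₁, s * n = n * s := by
  have hqF : Fact q.Prime := ⟨hq⟩
  obtain ⟨R, L, hRn, hLn, hRq, -, -, hPL, hLP, -⟩ := hs.exists_R hq
  set Rt : Subgroup G := R.comap (QuotientGroup.mk' N₁) with hRt
  have hRtn : Rt.Normal := hRn.comap _
  have hRtq : IsPGroup q Rt := by
    apply hRq.comap_of_ker_isPGroup
    rw [QuotientGroup.ker_mk']
    exact h.pgr
  have hle : N₁ ≤ Rt := by
    intro n hn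
    show QuotientGroup.mk' N₁ n ∈ R
    rw [show QuotientGroup.mk' N₁ n = 1 from (QuotientGroup.eq_one_iff n).2 hn]
    exact one_mem _
  have hnil : Group.IsNilpotent Rt := hRtq.isNilpotent
  have h1 : N₁.subgroupOf Rt ≠ ⊥ := by
    intro h0
    apply h.ne
    have h2 := congrArg (Subgroup.map Rt.subtype) h0
    rwa [Subgroup.subgroupOf_map_subtype, Subgroup.map_bot, inf_eq_left.2 hle] at h2
  have h2 := Lib.NormalAbelian.normal_inf_center_ne_bot (G := Rt) (N₁.subgroupOf Rt) h1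
  have hZ : N₁ ≤ Subgroup.centralizer (Rt : Set G) := by
    have hcn : (N₁ ⊓ Subgroup.centralizer (Rt : Set G)).Normal := inferInstance
    rcases h.min _ hcn inf_le_left with h3 | h3
    · exfalso
      apply h2
      rw [eq_bot_iff]
      rintro x ⟨hx1, hx2⟩
      rw [Subgroup.mem_bot]
      apply Subtype.ext
      have h4 : (x : G) ∈ N₁ ⊓ Subgroup.centralizer (Rt : Set G) := by
        refine ⟨Subgroup.mem_subgroupOf.1 hx1, ?_⟩
        show (x : G) ∈ Subgroup.centralizer (Rt : Set G)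
        rw [Subgroup.mem_centralizer_iff]
        intro y hy
        exact congrArg Subtype.val (Subgroup.mem_center_iff.1 hx2 ⟨y, hy⟩)
      rw [h3, Subgroup.mem_bot] at h4
      exact h4
    · rw [← h3]; exact inf_le_right
  have hR : ∀ lam : N₁ →* ℂˣ, R ≤ St (act N₁ h.comm) lam := by
    intro lam x hx
    obtain ⟨g, rfl⟩ := QuotientGroup.mk'_surjective N₁ x
    show act N₁ h.comm (QuotientGroup.mk' N₁ g) lam = lam
    ext n
    rw [act_mk]
    have h4 : (MulAut.conjNormal g : MulAut N₁).symm n = n := by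
      apply Subtype.ext
      rw [MulAut.conjNormal_symm_apply]
      have h5 := Subgroup.mem_centralizer_iff.1 (hZ n.2) g hx
      rw [mul_assoc, ← h5]
      group
    rw [h4]
  have hL : ∀ lam : N₁ →* ℂˣ, L ≤ St (act N₁ h.comm) lam := by
    intro lam
    by_cases hl : lam = 1
    · intro x _
      show act N₁ h.comm x lam = lam
      rw [hl, map_one]
    · obtain ⟨Q, hQ⟩ := exists_sylow_le N₁ h.comm h.prm hl
      exact (hLP Q).trans (sup_le (hR lam) hQ)
  intro s hs
  apply OneV.comm_of_act h.comm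
  intro lam
  apply hL lam
  apply hPL (P.mapSurjective (QuotientGroup.mk'_surjective N₁))
  rw [Sylow.coe_mapSurjective]
  exact Subgroup.mem_map_of_mem _ hs

omit hp in
/-- `p` divides the index of the inertia group, so it divides the degrees above. -/
theorem dvd_of_index (N : Subgroup G) [hN : N.Normal] [Fintype G] [Fintype N] {θ : N → ℂ}
    (hθ : IsIrrCharacter N θ) (hd : p ∣ (inertia N θ).index) {χ : G → ℂ} (hχ : IsIrrCharacter G χ)
    (h : classInner (res N χ) θ ≠ 0) : p ∣ charDegree χ := by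
  have : Fintype (inertia N θ) := Fintype.ofFinite _
  obtain ⟨ψ, hψ, -, hψχ⟩ := exists_ind hθ (T := inertia N θ) (fun g => Iff.rfl)
    (le_inertia (isIrr_isClassFunction hθ)) hχ h
  rw [hψχ, charDegree_ind _ hψ]
  exact Dvd.dvd.mul_right hd _

/-- **The elements of a normal subgroup of prime order are conjugate.** -/
theorem conj_pow {r : ℕ} (hr : r.Prime) (V : Subgroup G) [hVn : V.Normal] (hV : Nat.card V = r)
    (hinf : ∀ Q : Sylow p G, ∀ v ∈ V, v ∈ Subgroup.normalizer ((Q : Subgroup G) : Set G) → v = 1)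
    (hn : nSing p G ≤ 1) {y : G} (hy : y ∈ V) (hy1 : y ≠ 1) {j : ℕ} (hj : 0 < j) (hjr : j < r) :
    ∃ g : G, g * y * g⁻¹ = y ^ j := by
  have hrF : Fact r.Prime := ⟨hr⟩
  have : Fintype G := Fintype.ofFinite G
  have : Fintype V := Fintype.ofFinite V
  have hcyc : IsCyclic V := isCyclic_of_prime_card hV
  have hc : ∀ a ∈ V, ∀ b ∈ V, a * b = b * a := by
    intro a ha b hb
    obtain ⟨g, hg⟩ := hcyc.exists_generator
    obtain ⟨i, hi⟩ := Subgroup.mem_zpowers_iff.1 (hg ⟨a, ha⟩)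
    obtain ⟨k, hk⟩ := Subgroup.mem_zpowers_iff.1 (hg ⟨b, hb⟩)
    have h1 : (⟨a, ha⟩ : V) * ⟨b, hb⟩ = ⟨b, hb⟩ * ⟨a, ha⟩ := by
      rw [← hi, ← hk, ← zpow_add, ← zpow_add, add_comm]
    exact congrArg Subtype.val h1
  -- the linear characters
  obtain ⟨lam, hlam⟩ := OneV.separates hc (n := ⟨y, hy⟩) (fun h => hy1 (congrArg Subtype.val h))
  have hinj : Function.Injective lam := by
    rw [← MonoidHom.ker_eq_bot_iff]
    have h1 : Nat.card lam.ker ∣ r := by rw [← hV]; exact Subgroup.card_subgroup_dvd_card _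
    rcases (Nat.dvd_prime hr).1 h1 with h2 | h2
    · exact Subgroup.card_eq_one.1 h2
    · exfalso
      have h3 : lam.ker = ⊤ := Subgroup.eq_top_of_card_eq _ (h2.trans hV.symm)
      apply hlam
      have h4 : (⟨y, hy⟩ : V) ∈ lam.ker := by rw [h3]; trivial
      exact h4
  have hord : orderOf (⟨y, hy⟩ : V) = r := by
    have h1 : orderOf (⟨y, hy⟩ : V) ∣ r := by rw [← hV]; exact orderOf_dvd_natCard _
    rcases (Nat.dvd_prime hr).1 h1 with h2 | h2
    · exact absurd (congrArg Subtype.val (orderOf_eq_one_iff.1 h2)) hy1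
    · exact h2
  have hcopj : j.Coprime r := (Nat.Coprime.symm ((Nat.Prime.coprime_iff_not_dvd hr).2
    (Nat.not_dvd_of_pos_of_lt hj hjr)))
  have hpowinj : Function.Injective (fun v : V => v ^ j) := by
    have h1 := (powCoprime (G := V) (n := j) (by rw [hV]; exact hcopj.symm)).injective
    exact h1
  -- the inertia groups
  have hd : ∀ mu : V →* ℂˣ, Function.Injective mu → p ∣ (inertia V (fn mu)).index := by
    intro mu hmu
    by_contra hnd
    obtain ⟨Q, hQ⟩ := exists_sylow_le_of_index _ hnd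
    apply hy1
    apply hinf Q y hy
    rw [Subgroup.mem_normalizer_iff]
    have key : ∀ s ∈ (Q : Subgroup G), y * s * y⁻¹ = s := by
      intro s hs
      have h1 := (mem_inertia'.1 (hQ hs)) ⟨y, hy⟩
      have h2 : mu ⟨s * y * s⁻¹, hVn.conj_mem y hy s⟩ = mu ⟨y, hy⟩ := Units.ext h1
      have h3 : s * y * s⁻¹ = y := congrArg Subtype.val (hmu h2)
      have h4 : s * y = y * s := mul_inv_eq_iff_eq_mul.1 h3
      rw [← h4, mul_inv_cancel_right]
    intro s
    constructor
    · intro hs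
      rw [key s hs]; exact hs
    · intro hs
      have h1 := key _ hs
      have h2 : y * s * y⁻¹ = s := by
        have h3 : y * (y * s * y⁻¹) * y⁻¹ = y * s * y⁻¹ := h1
        have h4 : y * s * y⁻¹ = s := by
          calc y * s * y⁻¹ = y⁻¹ * (y * (y * s * y⁻¹) * y⁻¹) * y := by group
            _ = y⁻¹ * (y * s * y⁻¹) * y := by rw [h3]
            _ = s := by group
        exact h4
      rwa [h2] at hs
  have hθ : IsIrrCharacter V (fn lam) := Characters.Linear.isIrrCharacter_hom lam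
  have hφ : IsIrrCharacter V (fn (lam ^ j)) := Characters.Linear.isIrrCharacter_hom _
  have hinj2 : Function.Injective (lam ^ j : V →* ℂˣ) := by
    intro a b hab
    have h1 : lam (a ^ j) = lam (b ^ j) := by rw [map_pow, map_pow]; exact hab
    exact hpowinj (hinj h1)
  obtain ⟨χ, hχ⟩ := Blocks.Over.exists_over V ⟨fn lam, hθ⟩
  obtain ⟨ψ, hψ⟩ := Blocks.Over.exists_over V ⟨fn (lam ^ j), hφ⟩
  have hχp := dvd_of_index V hθ (hd lam hinj) χ.2 hχ
  have hψp := dvd_of_index V hφ (hd _ hinj2) ψ.2 hψ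
  have heq : (χ : G → ℂ) = ψ := by
    by_contra hne
    have := OneNonab.two_le_nSing χ.2 ψ.2 hχp hψp hne
    omega
  obtain ⟨g, hg⟩ := OneNonab.conj_of_over V hφ hθ ψ.2 hψ (by rw [← heq]; exact hχ)
  refine ⟨g, ?_⟩
  have h1 := congrFun hg ⟨y, hy⟩
  have h2 : lam ⟨g * y * g⁻¹, hVn.conj_mem y hy g⟩ = lam (⟨y, hy⟩ ^ j) := by
    rw [map_pow]
    exact Units.ext h1
  exact congrArg Subtype.val (hinj h2)

/-- `Q K` is normal for one Sylow subgroup `Q` if and only if it is for all. -/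
theorem sup_normal {X : Type*} [Group X] [Finite X] (P Q : Sylow p X) (K : Subgroup X) [hK : K.Normal]
    (h : ((P : Subgroup X) ⊔ K).Normal) : ((Q : Subgroup X) ⊔ K).Normal := by
  obtain ⟨g, rfl⟩ := MulAction.exists_smul_eq X P Q
  have h1 : ((g • P : Sylow p X) : Subgroup X) ⊔ K = (P : Subgroup X) ⊔ K := by
    apply le_antisymm
    · refine sup_le ?_ le_sup_right
      rw [Sylow.coe_subgroup_smul]
      rintro _ ⟨x, hx, rfl⟩
      exact h.conj_mem x (Subgroup.mem_sup_left hx) g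
    · refine sup_le ?_ le_sup_right
      intro x hx
      have h2 : g⁻¹ * x * g ∈ (P : Subgroup X) ⊔ K := by
        have := h.conj_mem x (Subgroup.mem_sup_left hx) g⁻¹
        rwa [inv_inv] at this
      obtain ⟨a, ha, b, hb, hab⟩ := Subgroup.mem_sup_of_normal_right.1 h2
      have h3 : x = (g * a * g⁻¹) * (g * b * g⁻¹) := by
        have h4 : x = g * (g⁻¹ * x * g) * g⁻¹ := by group
        rw [h4, ← hab]; group
      rw [h3]
      refine mul_mem (Subgroup.mem_sup_left ?_) (Subgroup.mem_sup_right (hK.conj_mem b hb g))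
      rw [Sylow.coe_subgroup_smul]
      exact ⟨a, ha, rfl⟩
  rw [h1]; exact h

/-- **The critical situation does not occur.** -/
theorem step_B (hT7 : ConjMoved.{u}) (hMoved : FactMoved.{u}) (hIM : AllIM.{u} p) {q : ℕ} (hq : q.Prime)
    (hqp : q ≠ p) {N₁ : Subgroup G} [hN₁ : N₁.Normal] (h : Ctx p q N₁)
    (hO : ∀ R : Subgroup G, R.Normal → IsPGroup p R → R = ⊥) (hn : nSing p G ≤ 1) (hG : IsPSolvable p G)
    (P : Sylow p G) (hnn : ¬ ((P : Subgroup G) ⊔ N₁).Normal)
    (hco : ∀ Q : Sylow p (G ⧸ N₁), IsCoatom (Subgroup.normalizer ((Q : Subgroup (G ⧸ N₁)) : Set (G ⧸ N₁))))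
    (hcomm : ¬ ∀ s ∈ (P : Subgroup G), ∀ n ∈ N₁, s * n = n * s) : False := by
  have hqF : Fact q.Prime := ⟨hq⟩
  set Pb : Sylow p (G ⧸ N₁) := P.mapSurjective (QuotientGroup.mk'_surjective N₁) with hPb
  have hPbn : ¬ (Pb : Subgroup (G ⧸ N₁)).Normal := by
    rw [hPb, Sylow.coe_mapSurjective, normal_iff_sup]
    exact hnn
  have hOX := core_quot (G := G) hq hqp h hO
  have hnX : nSing p (G ⧸ N₁) ≤ 1 := (nSing_quotient_le N₁).trans hn
  have hGX : IsPSolvable p (G ⧸ N₁) := PLocal.PSolvable.isPSolvable_quotient hG N₁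
  -- the choice of `N`
  obtain ⟨N, hNmax⟩ := (Set.toFinite {K : Subgroup (G ⧸ N₁) | K.Normal ∧
    ¬ ((Pb : Subgroup (G ⧸ N₁)) ⊔ K).Normal}).exists_maximal ⟨⊥, inferInstance, by rwa [sup_bot_eq]⟩
  obtain ⟨hNn, hNb⟩ := hNmax.prop
  have hbig : ∀ K : Subgroup (G ⧸ N₁), K.Normal → N < K → ∀ Q : Sylow p (G ⧸ N₁),
      ((Q : Subgroup (G ⧸ N₁)) ⊔ K).Normal := by
    intro K hK hNK Q
    apply sup_normal Pb
    by_contra hcon
    exact hNK.not_ge (hNmax.le_of_ge ⟨hK, hcon⟩ hNK.le)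
  have hNb' : ∀ Q : Sylow p (G ⧸ N₁), ¬ ((Q : Subgroup (G ⧸ N₁)) ⊔ N).Normal := fun Q hQ =>
    hNb (sup_normal Q Pb N hQ)
  have hNN : ∀ Q : Sylow p (G ⧸ N₁),
      N ≤ Subgroup.normalizer ((Q : Subgroup (G ⧸ N₁)) : Set (G ⧸ N₁)) := by
    intro Q
    have h1 : Subgroup.normalizer ((Q : Subgroup (G ⧸ N₁)) : Set (G ⧸ N₁)) ≤
        Subgroup.normalizer (((Q : Subgroup (G ⧸ N₁)) ⊔ N : Subgroup (G ⧸ N₁)) : Set (G ⧸ N₁)) := by
      intro g hg
      have key : ∀ k ∈ Subgroup.normalizer ((Q : Subgroup (G ⧸ N₁)) : Set (G ⧸ N₁)),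
          ∀ x ∈ (Q : Subgroup (G ⧸ N₁)) ⊔ N, k * x * k⁻¹ ∈ (Q : Subgroup (G ⧸ N₁)) ⊔ N := by
        intro k hk x hx
        obtain ⟨y, hy, z, hz, rfl⟩ := Subgroup.mem_sup_of_normal_right.1 hx
        have h1 : k * (y * z) * k⁻¹ = (k * y * k⁻¹) * (k * z * k⁻¹) := by group
        rw [h1]
        exact mul_mem (Subgroup.mem_sup_left ((Subgroup.mem_normalizer_iff.1 hk y).1 hy))
          (Subgroup.mem_sup_right (hNn.conj_mem z hz k))
      rw [Subgroup.mem_normalizer_iff]
      intro x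
      constructor
      · exact key g hg x
      · intro hx
        have := key g⁻¹ (inv_mem hg) _ hx
        have h1 : g⁻¹ * (g * x * g⁻¹) * g⁻¹⁻¹ = x := by group
        rwa [h1] at this
    rcases (hco Q).le_iff.1 h1 with h2 | h2
    · exfalso
      exact hNb' Q (Subgroup.normalizer_eq_top_iff.1 h2)
    · rw [← h2]
      exact le_sup_right.trans Subgroup.le_normalizer
  have hcN : ∀ Q : Sylow p (G ⧸ N₁), (∀ x ∈ N, ∀ s ∈ (Q : Subgroup (G ⧸ N₁)), Commute x s) ∧
      ¬ p ∣ Nat.card N := fun Q => comm_of_core Q N (hNN Q) hOX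
  -- the quotient
  have hntY : Nontrivial ((G ⧸ N₁) ⧸ N) := by
    rw [QuotientGroup.nontrivial_iff]
    intro h1
    apply hNb
    rw [h1, sup_top_eq]
    infer_instance
  obtain ⟨Mb, hMbn, hMb, hMbmin⟩ := Lib.SubnormalJoin.exists_minimal_normal ((G ⧸ N₁) ⧸ N)
  set f := QuotientGroup.mk' N with hf
  have hfs : Function.Surjective f := QuotientGroup.mk'_surjective N
  have hfk : f.ker = N := QuotientGroup.ker_mk' N
  set M : Subgroup (G ⧸ N₁) := Mb.comap f with hM
  have hMn : M.Normal := hMbn.comap _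
  have hNM : N ≤ M := by
    rw [← hfk]
    exact MonoidHom.ker_le_comap _ _
  have hMmap : M.map f = Mb := Subgroup.map_comap_eq_self_of_surjective hfs Mb
  have hne : N ≠ M := by
    intro h1
    apply hMb
    rw [← hMmap, ← h1, Subgroup.map_eq_bot_iff, hfk]
  have hlt : N < M := lt_of_le_of_ne hNM hne
  have hnY : nSing p ((G ⧸ N₁) ⧸ N) ≤ 1 := (nSing_quotient_le N).trans hnX
  have hP2 : ∀ Q : Sylow p (G ⧸ N₁), ¬ ((Q.mapSurjective hfs : Sylow p ((G ⧸ N₁) ⧸ N)) :
      Subgroup ((G ⧸ N₁) ⧸ N)).Normal := by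
    intro Q hQ
    rw [Sylow.coe_mapSurjective] at hQ
    exact hNb' Q ((normal_iff_sup _ _).1 hQ)
  have hP2M : ∀ Q : Sylow p (G ⧸ N₁), (((Q.mapSurjective hfs : Sylow p ((G ⧸ N₁) ⧸ N)) :
      Subgroup ((G ⧸ N₁) ⧸ N)) ⊔ Mb).Normal := by
    intro Q
    rw [Sylow.coe_mapSurjective, ← hMmap, ← Subgroup.map_sup]
    exact (hbig M hMn hlt Q).map _ hfs
  -- `Mb` is a `p'`-group
  have hMbp : ¬ p ∣ Nat.card Mb := by
    obtain ⟨L, hLn, hL1, hL2, hL3⟩ := Lib.PSolvable.sep_of_pSolvable p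
      (PLocal.PSolvable.isPSolvable_quotient hGX N) ⊥ Mb inferInstance hMbn (bot_lt_iff_ne_bot.2 hMb)
    have hLM : L = Mb := (hMbmin L hLn hL2).resolve_left hL1.ne'
    subst hLM
    rw [Subgroup.relIndex_bot_left] at hL3
    rcases hL3 with ⟨m, hm⟩ | hL3
    · exfalso
      have h1 : IsPGroup p L := IsPGroup.of_card hm
      have h2 := h1.le_sylow_of_normal (Pb.mapSurjective hfs)
      have h3 := hP2M Pb
      rw [sup_eq_left.2 h2] at h3
      exact hP2 Pb h3
    · intro hd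
      exact hp.out.one_lt.ne' (Nat.eq_one_of_dvd_coprimes hL3.symm dvd_rfl hd)
  by_cases hab : ∀ x ∈ Mb, ∀ y ∈ Mb, Commute x y
  swap
  · exact nonab_false hT7 hMoved Mb hMbmin hab hMbp (Pb.mapSurjective hfs) (hP2M Pb) (hP2 Pb) hnY
  obtain ⟨r, hr, hMbr, hMbpow⟩ := Lib.MinNormalNonabelian.abelian_structure Mb hMb hMbmin hab
  have hrF : Fact r.Prime := ⟨hr⟩
  have hinfY : ∀ Q : Sylow p (G ⧸ N₁), Mb ⊓ Subgroup.normalizer (((Q.mapSurjective hfs :
      Sylow p ((G ⧸ N₁) ⧸ N)) : Subgroup ((G ⧸ N₁) ⧸ N)) : Set ((G ⧸ N₁) ⧸ N)) = ⊥ := fun Q =>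
    (abelian_case Mb hMbmin hab (Q.mapSurjective hfs) (hP2M Q) (hP2 Q)).1
  have hs : Sit p r N M :=
    { normN := hNn
      normM := hMn
      le := hNM
      cop := by
        intro hd
        have h1 := Subgroup.relIndex_mul_relIndex ⊥ N M bot_le hNM
        rw [Subgroup.relIndex_bot_left, Subgroup.relIndex_bot_left] at h1
        have h2 : N.relIndex M = Nat.card Mb := by
          have h3 := Subgroup.relIndex_map_map (H := N) (K := M) f
          rw [hMmap, hfk, sup_idem, sup_eq_left.2 hNM] at h3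
          have h4 : N.map f = ⊥ := by rw [Subgroup.map_eq_bot_iff, hfk]
          rw [h4, Subgroup.relIndex_bot_left] at h3
          exact h3.symm
        rw [h2] at h1
        rw [← h1] at hd
        rcases (hp.out.dvd_mul).1 hd with h3 | h3
        · exact (hcN Pb).2 h3
        · exact hMbp h3
      comm := fun Q => (hcN Q).1
      sup := fun Q => hbig M hMn hlt Q
      inf := by
        intro Q x hx hxn
        have h1 : f x ∈ Mb ⊓ Subgroup.normalizer (((Q.mapSurjective hfs :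
            Sylow p ((G ⧸ N₁) ⧸ N)) : Subgroup ((G ⧸ N₁) ⧸ N)) : Set ((G ⧸ N₁) ⧸ N)) := by
          refine ⟨hx, ?_⟩
          rw [Sylow.coe_mapSurjective]
          exact Subgroup.le_normalizer_map f ⟨x, hxn, rfl⟩
        rw [hinfY Q, Subgroup.mem_bot] at h1
        rw [← hfk]
        exact h1
      ne := hne
      min := by
        intro K hK hNK hKM
        have h1 : K.map f ≤ Mb := by rw [← hMmap]; exact Subgroup.map_mono hKM
        have h2 : (K.map f).comap f = K := by
          rw [Subgroup.comap_map_eq, hfk, sup_eq_left.2 hNK]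
        rcases hMbmin (K.map f) (hK.map _ hfs) h1 with h3 | h3
        · left
          apply le_antisymm _ hNK
          rw [Subgroup.map_eq_bot_iff, hfk] at h3
          exact h3
        · right
          rw [← h2, h3]
      ab := by
        intro a ha b hb
        rw [← hfk, MonoidHom.mem_ker, map_mul, map_mul, map_mul, map_inv, map_inv, mul_inv_eq_one]
        have h1 := hab (f a) ha (f b) hb
        rw [h1.eq, mul_inv_cancel_right]
      pow := by
        intro a ha
        rw [← hfk, MonoidHom.mem_ker, map_pow]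
        exact hMbpow _ ha }
  have hrq : r ≠ q := by
    rintro rfl
    exact hcomm (comm_of_eq hq h hs P)
  -- uniqueness
  obtain ⟨R, L, -, hLn, -, -, -, hPL, -, hLq⟩ := hs.exists_R hr
  have hLq' : ¬ q ∣ Nat.card L := by
    intro hd
    rcases hLq q hq hd with h1 | h1
    · exact hqp h1
    · exact hrq h1.symm
  have := finite_hom h.comm
  obtain ⟨m, hm, hcard⟩ := h.card
  have key := @MaxE.contra (G ⧸ N₁) (N₁ →* ℂˣ) _ _ (inferInstance : CommGroup (N₁ →* ℂˣ)) (act N₁ h.comm)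
  refine key hq ?_ ((card_hom h.comm).trans hcard) hm
    (fun a ha => MaxD.unique hq h hIM L hLq' hPL a ha) hs hr hrq hqp.symm ?_
  · intro a
    ext n
    have h1 : n ^ q = 1 := Subtype.ext (h.pow n n.2)
    show ((a n ^ q : ℂˣ) : ℂ) = _
    rw [← map_pow, h1, map_one]
    rfl
  · intro hidx x hx hxN j hj hjr
    have hcV : Nat.card Mb = r := by
      have h3 := Subgroup.relIndex_map_map (H := N) (K := M) f
      rw [hMmap, hfk, sup_idem, sup_eq_left.2 hNM] at h3
      have h4 : N.map f = ⊥ := by rw [Subgroup.map_eq_bot_iff, hfk]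
      rw [h4, Subgroup.relIndex_bot_left] at h3
      rw [h3, hidx]
    obtain ⟨g, hg⟩ := conj_pow hr Mb hcV (by
      intro Q v hv hvn
      obtain ⟨Q', rfl⟩ := Sylow.mapSurjective_surjective hfs p Q
      have h1 : v ∈ Mb ⊓ Subgroup.normalizer (((Q'.mapSurjective hfs :
            Sylow p ((G ⧸ N₁) ⧸ N)) : Subgroup ((G ⧸ N₁) ⧸ N)) : Set ((G ⧸ N₁) ⧸ N)) := ⟨hv, hvn⟩
      rw [hinfY Q', Subgroup.mem_bot] at h1
      exact h1) hnY (y := f x) hx (by
        intro h1
        apply hxN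
        rw [← hfk]
        exact h1) hj hjr
    obtain ⟨g', rfl⟩ := hfs g
    refine ⟨g', ?_⟩
    rw [← hfk, MonoidHom.mem_ker, map_mul, map_mul, map_mul, map_inv, map_inv, map_pow, hg, mul_inv_cancel]

end Cfsg.Agent.H596.MaxF
end

-- part: H596/OneAS
section
/-!
# Almost simple groups with one character of degree divisible by `p`, `PSL(2,F)` (helper596, for S4764)

* `two_trans_SL` : `SL(2,F)` is 2-transitive on its Sylow `p`-subgroups;
* `gallagher_ne` : `β * χ ≠ χ`;
* `defL2_top` : `N = PSL(2,F)` normal in `G`, at most one irreducible character of degree divisible by `p`: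
  `N = G`.
-/

set_option autoImplicit false

open Cfsg

namespace Cfsg.Agent.H596.OneAS

open Cfsg.Agent.Characters.Core Cfsg.Agent.OddOrderCharacters.IndRes Cfsg.Agent.Blocks.Knorr
open Cfsg.Agent.H596.OneSing Cfsg.Agent.H670.PSing Cfsg.Agent.H596.OneL2 Cfsg.Agent.H596.OneNonab
open Cfsg.Agent.LieClassical.SLTwoUnipotent Cfsg.Agent.H596.OneKlein

universe u

section SL

variable {F : Type*} [Field F] [Fintype F] {p : ℕ} [Fact p.Prime] [CharP F p]

open Matrix

/-- A pair of distinct Sylow subgroups of `SL(2,F)` is conjugate to the standard one. -/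
theorem exists_pair (P Q : Sylow p (_root_.Matrix.SpecialLinearGroup (Fin 2) F)) (hPQ : P ≠ Q) :
    ∃ c : _root_.Matrix.SpecialLinearGroup (Fin 2) F, c • upperUnipSylowSL F p = P ∧
      c • ((wg : _root_.Matrix.SpecialLinearGroup (Fin 2) F) • upperUnipSylowSL F p) = Q := by
  obtain ⟨a, rfl⟩ := exists_smul_upperUnipSylowSL_eq p P
  obtain ⟨b, rfl⟩ := exists_smul_upperUnipSylowSL_eq p Q
  obtain ⟨d, hd⟩ : ∃ d, d = a⁻¹ * b := ⟨_, rfl⟩
  have hb : b = a * d := by rw [hd]; group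
  have hd10 : (d : Matrix (Fin 2) (Fin 2) F) 1 0 ≠ 0 := by
    intro h
    apply hPQ
    rw [hb, mul_smul, (smul_upperUnipSylowSL_eq_self_iff p).2 h]
  obtain ⟨x, hx⟩ : ∃ x, x = (d : Matrix (Fin 2) (Fin 2) F) 0 0 / (d : Matrix (Fin 2) (Fin 2) F) 1 0 :=
    ⟨_, rfl⟩
  have hux : u x • upperUnipSylowSL F p = upperUnipSylowSL F p := by
    rw [smul_upperUnipSylowSL_eq_self_iff]
    show ((u x : _root_.Matrix.SpecialLinearGroup (Fin 2) F) : Matrix (Fin 2) (Fin 2) F) 1 0 = 0
    rw [coe_u]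
    simp
  refine ⟨a * u x, ?_, ?_⟩
  · rw [mul_smul, hux]
  · have h1 : (wg⁻¹ * (u x)⁻¹ * d) • upperUnipSylowSL F p = upperUnipSylowSL F p := by
      rw [smul_upperUnipSylowSL_eq_self_iff]
      have h6 : ((wg⁻¹ : _root_.Matrix.SpecialLinearGroup (Fin 2) F) : Matrix (Fin 2) (Fin 2) F) =
          !![0, -1; 1, 0] := by
        rw [OneKlein.coe_inv]
        ext i j
        (revert i j; simp [wg, _root_.Fin.forall_fin_succ])
      show ((wg⁻¹ * (u x)⁻¹ * d : _root_.Matrix.SpecialLinearGroup (Fin 2) F) : Matrix (Fin 2) (Fin 2) F) 1 0 = 0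
      rw [← u_neg, coe_mul, coe_mul, h6, coe_u]
      simp only [Matrix.mul_apply, Fin.sum_univ_two, _root_.Matrix.cons_mul, _root_.Nat.succ_eq_add_one, _root_.Nat.reduceAdd, _root_.Matrix.vecMul_cons, _root_.Matrix.head_cons, _root_.zero_smul, _root_.Matrix.tail_cons, _root_.neg_smul, _root_.one_smul, _root_.Matrix.neg_cons, _root_.neg_zero, _root_.Matrix.neg_empty, _root_.Matrix.empty_vecMul, _root_.add_zero, _root_.zero_add, _root_.Matrix.empty_mul, _root_.Equiv.symm_apply_apply, _root_.Fin.isValue, _root_.Matrix.of_apply, _root_.Matrix.cons_val', _root_.Matrix.cons_val_fin_one, _root_.Matrix.cons_val_one, _root_.Matrix.cons_val_zero, _root_.one_mul, _root_.neg_mul]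
      rw [hx]
      field_simp
      ring
    calc (a * u x) • (wg • upperUnipSylowSL F p)
        = (a * u x) • (wg • ((wg⁻¹ * (u x)⁻¹ * d) • upperUnipSylowSL F p)) := by rw [h1]
      _ = b • upperUnipSylowSL F p := by
        rw [smul_smul, smul_smul]
        congr 1
        rw [hb]; group

/-- `SL(2,F)` is 2-transitive on its Sylow `p`-subgroups. -/
theorem two_trans_SL (P Q P' Q' : Sylow p (_root_.Matrix.SpecialLinearGroup (Fin 2) F)) (hPQ : P ≠ Q)
    (hPQ' : P' ≠ Q') : ∃ c : _root_.Matrix.SpecialLinearGroup (Fin 2) F, c • P = P' ∧ c • Q = Q' := by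
  obtain ⟨c, hc1, hc2⟩ := exists_pair P Q hPQ
  obtain ⟨d, hd1, hd2⟩ := exists_pair P' Q' hPQ'
  refine ⟨d * c⁻¹, ?_, ?_⟩
  · rw [← hc1, mul_smul, inv_smul_smul, hd1]
  · rw [← hc2, mul_smul, inv_smul_smul, hd2]

end SL

section

variable {p : ℕ} {X Y : Type*} [Group X] [Group Y]

/-- 2-transitivity on the Sylow subgroups passes to quotients. -/
theorem two_trans_of_surjective [Finite X] [Fact p.Prime] (f : X →* Y) (hf : Function.Surjective f)
    (h : ∀ P Q P' Q' : Sylow p X, P ≠ Q → P' ≠ Q' → ∃ c : X, c • P = P' ∧ c • Q = Q') :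
    ∀ P Q P' Q' : Sylow p Y, P ≠ Q → P' ≠ Q' → ∃ c : Y, c • P = P' ∧ c • Q = Q' := by
  intro P Q P' Q' hPQ hPQ'
  obtain ⟨P, rfl⟩ := Sylow.mapSurjective_surjective hf p P
  obtain ⟨Q, rfl⟩ := Sylow.mapSurjective_surjective hf p Q
  obtain ⟨P', rfl⟩ := Sylow.mapSurjective_surjective hf p P'
  obtain ⟨Q', rfl⟩ := Sylow.mapSurjective_surjective hf p Q'
  obtain ⟨c, hc1, hc2⟩ := h P Q P' Q' (fun h => hPQ (by rw [h])) (fun h => hPQ' (by rw [h]))
  have key : ∀ (c : X) (P : Sylow p X), f c • P.mapSurjective hf = (c • P).mapSurjective hf := by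
    intro c P
    apply Sylow.ext
    rw [Sylow.coe_subgroup_smul, Sylow.coe_mapSurjective, Sylow.coe_mapSurjective,
      Sylow.coe_subgroup_smul]
    ext y
    constructor
    · rintro ⟨_, ⟨x, hx, rfl⟩, rfl⟩
      refine ⟨c * x * c⁻¹, ⟨x, hx, rfl⟩, ?_⟩
      rw [map_mul, map_mul, map_inv]
      rfl
    · rintro ⟨_, ⟨x, hx, rfl⟩, rfl⟩
      refine ⟨f x, ⟨x, hx, rfl⟩, ?_⟩
      show f c * f x * (f c)⁻¹ = f (c * x * c⁻¹)
      rw [map_mul, map_mul, map_inv]
  exact ⟨f c, by rw [key, hc1], by rw [key, hc2]⟩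

end

variable {G : Type u} [Group G] [Finite G]

/-- **Gallagher**: multiplication by a character of the quotient. -/
theorem gallagher_ne (N : Subgroup G) [hN : N.Normal] {χ β : G → ℂ} (hχ : IsIrrCharacter G χ)
    (hχN : IsIrrCharacter N (fun n : N => χ n)) (hβ : IsIrrCharacter G β)
    (hβN : ∀ k ∈ N, β k = β 1) (hβ1 : β ≠ 1) : β * χ ≠ χ := by
  have : Fintype G := Fintype.ofFinite G
  have : Fintype N := Fintype.ofFinite N
  have hinv : ∀ (g : G) (n : N), χ (g * n * g⁻¹) = χ n := fun g n => isIrr_isClassFunction hχ n g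
  have hBij := S0856.result N (1 : N → ℂ) (fun n : N => χ n) isIrr_one hχN (fun _ _ => rfl)
    (fun g n => hinv g n) (by rw [one_mul]; exact hχN) χ hχ (fun _ => rfl)
  intro h
  apply hβ1
  have hmem : ∀ γ : G → ℂ, IsIrrCharacter G γ → (∀ k ∈ N, γ k = γ 1) →
      γ ∈ {β : G → ℂ | IsIrrCharacter G β ∧ classInner (indFun N (1 : N → ℂ)) β ≠ 0} := by
    intro γ hγ hγN
    refine ⟨hγ, ?_⟩
    rw [classInner_res_symm N (isIrr_isCharacter isIrr_one) (isIrr_isCharacter hγ)]
    have h1 : res N γ = γ 1 • (1 : N → ℂ) := by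
      funext n
      rw [Pi.smul_apply, Pi.one_apply, smul_eq_mul, mul_one]
      exact hγN n n.2
    rw [h1, classInner_smul_left, classInner_irr_self (isIrr_one (G := N)), mul_one]
    exact isIrr_apply_one_ne_zero hγ
  exact hBij.injOn (hmem β hβ hβN) (hmem 1 isIrr_one (fun _ _ => rfl)) (by
    show β * χ = 1 * χ
    rw [one_mul]; exact h)

/-- A subgroup acting 2-transitively. -/
theorem ext_of_two_trans (N : Subgroup G) (Y : Type*) [MulAction G Y] [Finite Y] (h2 : 2 ≤ Nat.card Y)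
    (h : ∀ a b c d : Y, a ≠ b → c ≠ d → ∃ n ∈ N, n • a = c ∧ n • b = d) :
    IsIrrCharacter G (fun g => (Nat.card (MulAction.fixedBy Y g) : ℂ) - 1) ∧
      IsIrrCharacter N (fun n : N => (Nat.card (MulAction.fixedBy Y (n : G)) : ℂ) - 1) := by
  have hmN : MulAction.IsMultiplyPretransitive N Y 2 := by
    rw [MulAction.is_two_pretransitive_iff]
    intro a b c d h1 h1'
    obtain ⟨n, hn, e1, e2⟩ := h a b c d h1 h1'
    exact ⟨⟨n, hn⟩, e1, e2⟩
  have hmG : MulAction.IsMultiplyPretransitive G Y 2 := by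
    rw [MulAction.is_two_pretransitive_iff]
    intro a b c d h1 h1'
    obtain ⟨n, hn, e1, e2⟩ := h a b c d h1 h1'
    exact ⟨n, e1, e2⟩
  have htN : MulAction.IsPretransitive N Y := MulAction.isPretransitive_of_is_two_pretransitive
  have htG : MulAction.IsPretransitive G Y := MulAction.isPretransitive_of_is_two_pretransitive
  exact ⟨(S0157.result (G := G) Y h2).2 hmG, (S0157.result (G := N) Y h2).2 hmN⟩

/-- A 2-transitive action of `G`, 2-transitive on `N`, of degree `q + 1`, `p ∣ q`. -/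
theorem top_of_two_trans {p : ℕ} (hn : nSing p G ≤ 1) (N : Subgroup G) [hN : N.Normal] (Y : Type*)
    [MulAction G Y] [Finite Y] {q : ℕ} (hq : 0 < q) (hpq : p ∣ q) (hcard : Nat.card Y = q + 1)
    (h : ∀ a b c d : Y, a ≠ b → c ≠ d → ∃ n ∈ N, n • a = c ∧ n • b = d) : N = ⊤ := by
  obtain ⟨hiG, hiN⟩ := ext_of_two_trans N Y (by omega) h
  obtain ⟨χ, hχ⟩ : ∃ χ : G → ℂ, χ = fun g => (Nat.card (MulAction.fixedBy Y g) : ℂ) - 1 := ⟨_, rfl⟩
  rw [← hχ] at hiG
  have hχN : IsIrrCharacter N (fun n : N => χ n) := by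
    rw [hχ]; exact hiN
  have hdeg : charDegree χ = q := by
    apply charDegree_eq_of
    rw [hχ]
    show (Nat.card (MulAction.fixedBy Y (1 : G)) : ℂ) - 1 = _
    rw [MulAction.fixedBy_one_eq_univ, Nat.card_coe_set_eq, Set.ncard_univ, hcard]
    push_cast
    ring
  by_contra hNt
  have hnt : Nontrivial (G ⧸ N) := (QuotientGroup.nontrivial_iff).2 hNt
  obtain ⟨β, hβ, hβ1⟩ := exists_irr_ne_one (G ⧸ N)
  have hβ' : IsIrrCharacter G (β ∘ QuotientGroup.mk' N) := isIrr_comp _ (QuotientGroup.mk'_surjective N) hβ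
  have hβN : ∀ k ∈ N, (β ∘ QuotientGroup.mk' N) k = (β ∘ QuotientGroup.mk' N) 1 := by
    intro k hk
    show β (QuotientGroup.mk' N k) = β (QuotientGroup.mk' N 1)
    rw [map_one, show QuotientGroup.mk' N k = 1 from (QuotientGroup.eq_one_iff k).2 hk]
  have hβ1' : β ∘ QuotientGroup.mk' N ≠ 1 := by
    intro h
    apply hβ1
    funext x
    obtain ⟨g, rfl⟩ := QuotientGroup.mk'_surjective N x
    exact congrFun h g
  have hprod := H597.FrobC.isIrr_mul_of_restrict N hiG hχN hβ' hβN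
  have hne := gallagher_ne N hiG hχN hβ' hβN hβ1'
  have hd2 : charDegree (β ∘ QuotientGroup.mk' N * χ) =
      charDegree (β ∘ QuotientGroup.mk' N) * charDegree χ := by
    apply charDegree_eq_of
    rw [Pi.mul_apply, charDegree_eq hβ', charDegree_eq hiG, Nat.cast_mul]
  have h3 := two_le_nSing (p := p) hiG hprod (by rw [hdeg]; exact hpq)
    (by rw [hd2, hdeg]; exact Dvd.dvd.mul_left hpq _) hne.symm
  omega

/-- The action of `G` on the Sylow subgroups of a normal subgroup. -/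
@[reducible] noncomputable def sylAct {G : Type*} [Group G] (p : ℕ) (N : Subgroup G) [N.Normal] :
    MulAction G (Sylow p N) :=
  MulAction.compHom (Sylow p N) (MulAut.conjNormal : G →* MulAut N)

theorem conjNormal_coe {G : Type*} [Group G] (N : Subgroup G) [N.Normal] (n : N) :
    (MulAut.conjNormal (n : G) : MulAut N) = MulAut.conj n := by
  ext m
  rw [MulAut.conjNormal_apply]
  rfl

theorem sylAct_coe {G : Type*} [Group G] (p : ℕ) (N : Subgroup G) [N.Normal] (n : N) (P : Sylow p N) :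
    (sylAct p N).toSMul.smul (n : G) P = n • P := by
  show (MulAut.conjNormal (n : G) : MulAut N) • P = MulAut.conj n • P
  rw [conjNormal_coe]

/-- `PSL(2,F)` normal in `G`. -/
theorem defL2_top {p : ℕ} [hp : Fact p.Prime] (hn : nSing p G ≤ 1) (N : Subgroup G) [hN : N.Normal]
    {F : Type} [Field F] [Fintype F] [CharP F p]
    (e : N ≃* Matrix.ProjectiveSpecialLinearGroup (Fin 2) F) : N = ⊤ := by
  have hll : LL p (Fintype.card F) N := ll_PSL.of_equiv e.symm
  have hcard := hll.card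
  have hpF : p ∣ Fintype.card F := by
    obtain ⟨n, -, hn⟩ := FiniteField.card F p
    rw [hn]
    exact dvd_pow_self _ n.ne_zero
  have htr : ∀ P Q P' Q' : Sylow p N, P ≠ Q → P' ≠ Q' → ∃ c : N, c • P = P' ∧ c • Q = Q' := by
    let f : Matrix.SpecialLinearGroup (Fin 2) F →* N := e.symm.toMonoidHom.comp (QuotientGroup.mk' _)
    have hf : Function.Surjective f := e.symm.surjective.comp (QuotientGroup.mk'_surjective _)
    exact two_trans_of_surjective f hf (fun P Q P' Q' h h' => two_trans_SL P Q P' Q' h h')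
  refine @top_of_two_trans G _ _ p hn N hN (Sylow p N) (sylAct p N) _ _ Fintype.card_pos hpF hcard ?_
  intro a b c d h h'
  obtain ⟨n, h1, h2⟩ := htr a b c d h h'
  exact ⟨n, n.2, (sylAct_coe p N n a).trans h1, (sylAct_coe p N n b).trans h2⟩

end Cfsg.Agent.H596.OneAS
end

-- part: H596/OneASB
section
/-!
# Almost simple groups with one character of degree divisible by `p`, the other cases (helper596, for S4764)

* `top_of_inner`, `m11` : `N` of type `M11`;
* `two_le_A5`, `a5` : `N = A5`;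
* `l28_false` : `N = PSL(2,8)`;
* `almost_simple` : all the cases.
-/

set_option autoImplicit false

open Cfsg

namespace Cfsg.Agent.H596.OneAS

open Cfsg.Agent.Characters.Core Cfsg.Agent.OddOrderCharacters.IndRes Cfsg.Agent.Blocks.Knorr
open Cfsg.Agent.OddOrderCharacters.NormalInduced Cfsg.Agent.OddOrderCharacters.PF9.CliffGen
open Cfsg.Agent.H596.OneSing Cfsg.Agent.H670.PSing Cfsg.Agent.H596.OneL2 Cfsg.Agent.H596.OneNonab
open Cfsg.Agent.H596.OneFacts Cfsg.Agent.H596.OneCtx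

universe u

/-- `SL_2 = PSL_2` in characteristic two. -/
theorem psl_equiv_sl {F : Type*} [Field F] [CharP F 2] :
    Nonempty (Matrix.ProjectiveSpecialLinearGroup (Fin 2) F ≃* Matrix.SpecialLinearGroup (Fin 2) F) := by
  have h : Subgroup.center (Matrix.SpecialLinearGroup (Fin 2) F) = ⊥ := by
    rw [eq_bot_iff]
    intro A hA
    obtain ⟨r, hr, hA⟩ := Matrix.SpecialLinearGroup.mem_center_iff.1 hA
    rw [Fintype.card_fin] at hr
    have h1 : (r - 1) ^ 2 = 0 := by
      have h2 : (2 : F) = 0 := CharTwo.two_eq_zero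
      linear_combination hr + (1 - r) * h2
    have h2 : r = 1 := sub_eq_zero.1 (pow_eq_zero_iff (two_ne_zero) |>.1 h1)
    rw [Subgroup.mem_bot]
    apply Subtype.ext
    rw [← hA, h2, map_one]
    rfl
  exact ⟨(QuotientGroup.quotientMulEquivOfEq h).trans QuotientGroup.quotientBot⟩

variable {G : Type u} [Group G]

/-- `N` self-centralizing with all automorphisms inner. -/
theorem top_of_inner (N : Subgroup G) [hN : N.Normal] (hC : Subgroup.centralizer (N : Set G) = ⊥)
    (h : ∀ φ : N ≃* N, ∃ n : N, φ = MulAut.conj n) : N = ⊤ := by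
  rw [eq_top_iff]
  intro g _
  obtain ⟨n, hn⟩ := h (MulAut.conjNormal g)
  have h1 : (n : G)⁻¹ * g ∈ Subgroup.centralizer (N : Set G) := by
    rw [Subgroup.mem_centralizer_iff]
    intro m hm
    have h2 := congrArg (fun φ : N ≃* N => ((φ ⟨m, hm⟩ : N) : G)) hn
    simp only [MulAut.conjNormal_apply] at h2
    have h3 : g * m * g⁻¹ = n * m * (n : G)⁻¹ := h2
    calc m * ((n : G)⁻¹ * g) = (n : G)⁻¹ * (n * m * (n : G)⁻¹) * g := by group
      _ = (n : G)⁻¹ * (g * m * g⁻¹) * g := by rw [h3]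
      _ = (n : G)⁻¹ * g * m := by group
  rw [hC, Subgroup.mem_bot] at h1
  have h2 : g = n := by
    rw [inv_mul_eq_one] at h1
    exact h1.symm
  rw [h2]; exact n.2

/-- `N` of type `M11`. -/
theorem m11 [Finite G] (N : Subgroup G) [hN : N.Normal] (hC : Subgroup.centralizer (N : Set G) = ⊥)
    (h : IsM11 N) : IsM11 G := by
  have h1 := top_of_inner N hC (fun φ => SectRankFour.AutM11.exists_conj h φ)
  subst h1
  obtain ⟨hs, hc⟩ := h
  refine ⟨?_, ?_⟩
  · exact (Subgroup.topEquiv (G := G)).isSimpleGroup_congr.1 hs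
  · rw [← hc]
    exact (Nat.card_congr (Subgroup.topEquiv (G := G)).toEquiv).symm

/-- Two characters of the same degree. -/
theorem two_le_of_equiv [Finite G] {p : ℕ} {X : Type*} [Group X] [Finite X] (e : G ≃* X) {d : ℕ}
    (hd : p ∣ d) (h : 1 < Nat.card {χ : IrrCharacter X // (χ : X → ℂ) 1 = (d : ℂ)}) :
    2 ≤ nSing p G := by
  have h1 : Finite (IrrCharacter X) := finite_irr
  rw [Finite.one_lt_card_iff_nontrivial] at h
  obtain ⟨⟨χ, hχ⟩, ⟨ψ, hψ⟩, hne⟩ := h
  have hdeg : ∀ χ : IrrCharacter X, (χ : X → ℂ) 1 = (d : ℂ) →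
      p ∣ charDegree ((χ : X → ℂ) ∘ e.toMonoidHom) := by
    intro χ hχ
    rw [charDegree_eq_of (n := d) (by
      show (χ : X → ℂ) (e 1) = _
      rw [map_one, hχ])]
    exact hd
  refine two_le_nSing (isIrr_comp e.toMonoidHom e.surjective χ.2)
    (isIrr_comp e.toMonoidHom e.surjective ψ.2) (hdeg χ hχ) (hdeg ψ hψ) ?_
  intro h2
  apply hne
  apply Subtype.ext
  apply Subtype.ext
  funext x
  obtain ⟨g, rfl⟩ := e.surjective x
  exact congrFun h2 g

/-- `A5` has two irreducible characters of degree 3. -/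
theorem two_le_A5 [Finite G] (e : G ≃* alternatingGroup (Fin 5)) : 2 ≤ nSing 3 G := by
  have hF2 : Fact (Nat.Prime 2) := ⟨Nat.prime_two⟩
  have : Fintype (GaloisField 2 2) := Fintype.ofFinite _
  have hcard : Fintype.card (GaloisField 2 2) = 4 := by
    rw [← Nat.card_eq_fintype_card, GaloisField.card 2 2 two_ne_zero]
    norm_num
  obtain ⟨f⟩ := H406.CritFour.exists_equiv hcard
  refine two_le_of_equiv (d := 3) (e.trans f.symm) (dvd_refl 3) ?_
  have h := ((S2300.result (F := GaloisField 2 2)).2 (by rw [hcard])).2.2.2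
  rw [hcard] at h
  have h4 : ((4 : ℕ) : ℂ) - 1 = ((3 : ℕ) : ℂ) := by norm_num
  rw [h4] at h
  rw [h]
  norm_num

/-- `N = A5`. -/
theorem a5 [Finite G] (hn : nSing 3 G ≤ 1) (N : Subgroup G) [hN : N.Normal]
    (hC : Subgroup.centralizer (N : Set G) = ⊥) (e : N ≃* alternatingGroup (Fin 5)) :
    Nonempty (G ≃* Equiv.Perm (Fin 5)) := by
  rcases H497.AltId.ident_five e hC with ⟨⟨f⟩⟩ | h
  · have := two_le_A5 f
    omega
  · exact h

/-- An element commuting with an element acting regularly on the Sylow subgroups of `N`. -/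
theorem mem_of_comm [Finite G] {p m : ℕ} [hp : Fact p.Prime] (N : Subgroup G) [hN : N.Normal]
    [hs : IsSimpleGroup N] (hC : Subgroup.centralizer (N : Set G) = ⊥)
    (hcard : Nat.card (Sylow p N) = m) (hm : 1 < m) {x : N} (hx : orderOf x = m)
    (hco : ∀ d, d ∣ m → m * d ∣ Nat.card N → d = 1) {h : G} (hcomm : h * x = x * h) : h ∈ N := by
  let act := sylAct p N
  have hact : ∀ (n : N) (P : Sylow p N), (n : G) • P = (Sylow.mulAction.toSMul.smul n P) :=
    fun n P => sylAct_coe p N n P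
  obtain ⟨P⟩ : Nonempty (Sylow p N) := inferInstance
  -- regular
  have hreg : ∀ z ∈ Subgroup.zpowers x, (z : G) • P = P → z = 1 := by
    intro z hz hzP
    have h1 : z ∈ Subgroup.normalizer ((P : Subgroup N) : Set N) := by
      rw [hact] at hzP
      exact Sylow.smul_eq_iff_mem_normalizer.1 hzP
    have h2 : orderOf z ∣ Nat.card (Subgroup.normalizer ((P : Subgroup N) : Set N)) :=
      Subgroup.orderOf_dvd_natCard _ h1
    have h3 : Nat.card (Subgroup.normalizer ((P : Subgroup N) : Set N)) * m = Nat.card N := by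
      rw [← hcard, Sylow.card_eq_index_normalizer P]
      exact Subgroup.card_mul_index _
    have h4 : orderOf z ∣ m := by
      rw [← hx, ← Nat.card_zpowers x]
      exact Subgroup.orderOf_dvd_natCard _ hz
    rw [← orderOf_eq_one_iff]
    apply hco _ h4
    rw [← h3, mul_comm m]
    exact Nat.mul_dvd_mul_right h2 m
  have hbij : Function.Bijective (fun z : Subgroup.zpowers x => ((z : N) : G) • P) := by
    rw [Nat.bijective_iff_injective_and_card]
    refine ⟨?_, by rw [Nat.card_zpowers, hx, hcard]⟩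
    intro z w hzw
    have h1 : (((z : N)⁻¹ * w : N) : G) • P = P := by
      rw [Subgroup.coe_mul, mul_smul]
      have h2 : ((w : N) : G) • P = ((z : N) : G) • P := hzw.symm
      rw [h2, Subgroup.coe_inv, inv_smul_smul]
    have h2 := hreg _ (mul_mem (inv_mem z.2) w.2) h1
    rw [inv_mul_eq_one] at h2
    exact Subtype.ext h2
  obtain ⟨z, hz⟩ := hbij.2 (h • P)
  have hz' : ((z : N) : G) • P = h • P := hz
  have hcomm' : ∀ w : Subgroup.zpowers x, h * (w : N) = (w : N) * h := by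
    intro w
    obtain ⟨k, hk⟩ := Subgroup.mem_zpowers_iff.1 w.2
    rw [← hk]
    have : Commute h ((x : N) : G) := hcomm
    have h1 := this.zpow_right k
    rw [Subgroup.coe_zpow]
    exact h1
  obtain ⟨y, hy⟩ : ∃ y : G, y = ((z : N) : G)⁻¹ * h := ⟨_, rfl⟩
  have hyP : y • P = P := by rw [hy, mul_smul, ← hz', inv_smul_smul]
  have hyw : ∀ w : Subgroup.zpowers x, y * (w : N) = (w : N) * y := by
    intro w
    have h1 : ((z : N) : G) * (w : N) = (w : N) * (z : N) := by
      obtain ⟨k, hk⟩ := Subgroup.mem_zpowers_iff.1 w.2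
      obtain ⟨l, hl⟩ := Subgroup.mem_zpowers_iff.1 z.2
      rw [← hk, ← hl, ← Subgroup.coe_mul, ← Subgroup.coe_mul, ← zpow_add, ← zpow_add, add_comm]
    calc y * (w : N) = ((z : N) : G)⁻¹ * (h * (w : N)) := by rw [hy]; group
      _ = ((z : N) : G)⁻¹ * ((w : N) * h) := by rw [hcomm']
      _ = ((z : N) : G)⁻¹ * ((w : N) * (z : N)) * ((z : N) : G)⁻¹ * h := by group
      _ = ((z : N) : G)⁻¹ * ((z : N) * (w : N)) * ((z : N) : G)⁻¹ * h := by rw [h1]
      _ = (w : N) * y := by rw [hy]; group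
  have hyall : ∀ Q : Sylow p N, y • Q = Q := by
    intro Q
    obtain ⟨w, hw⟩ := hbij.2 Q
    have hw' : ((w : N) : G) • P = Q := hw
    rw [← hw', smul_smul, hyw, mul_smul, hyP]
  -- the kernel
  obtain ⟨K, hK⟩ : ∃ K : Subgroup G, K = (MulAction.toPermHom G (Sylow p N)).ker := ⟨_, rfl⟩
  have hKn : K.Normal := by rw [hK]; infer_instance
  have hKmem : ∀ k : G, k ∈ K ↔ ∀ Q : Sylow p N, k • Q = Q := by
    intro k
    rw [hK, MonoidHom.mem_ker, Equiv.ext_iff]
    rfl
  have hKN : K.subgroupOf N = ⊥ := by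
    have hn1 : (K.subgroupOf N).Normal := inferInstance
    rcases hs.eq_bot_or_eq_top_of_normal _ hn1 with h1 | h1
    · exact h1
    · exfalso
      have h2 : ∀ Q : Sylow p N, Q = P := by
        intro Q
        obtain ⟨n, hn⟩ := (Sylow.isPretransitive_of_finite (p := p) (G := N)).exists_smul_eq P Q
        have h3 : n ∈ K.subgroupOf N := by rw [h1]; trivial
        have h4 := (hKmem n).1 (Subgroup.mem_subgroupOf.1 h3) P
        rw [hact] at h4
        exact hn.symm.trans h4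
      have : Subsingleton (Sylow p N) := ⟨fun a b => (h2 a).trans (h2 b).symm⟩
      have h3 : Nat.card (Sylow p N) ≤ 1 := Finite.card_le_one_iff_subsingleton.2 this
      omega
  have hy1 : y = 1 := by
    have h1 : y ∈ Subgroup.centralizer (N : Set G) := by
      rw [Subgroup.mem_centralizer_iff]
      intro n hn
      have hyK : y ∈ K := (hKmem y).2 hyall
      have h2 : n * y * n⁻¹ * y⁻¹ ∈ N ⊓ K := by
        rw [Subgroup.mem_inf]
        refine ⟨?_, mul_mem (hKn.conj_mem y hyK n) (inv_mem hyK)⟩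
        have h3 : n * y * n⁻¹ * y⁻¹ = n * (y * n⁻¹ * y⁻¹) := by group
        rw [h3]
        exact mul_mem hn (hN.conj_mem _ (inv_mem hn) y)
      have h3 : (⟨n * y * n⁻¹ * y⁻¹, h2.1⟩ : N) ∈ K.subgroupOf N := Subgroup.mem_subgroupOf.2 h2.2
      rw [hKN, Subgroup.mem_bot] at h3
      have h4 : n * y * n⁻¹ * y⁻¹ = 1 := congrArg Subtype.val h3
      rw [mul_inv_eq_one, mul_inv_eq_iff_eq_mul] at h4
      exact h4
    rw [hC, Subgroup.mem_bot] at h1
    exact h1
  rw [hy, inv_mul_eq_one] at hy1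
  rw [← hy1]
  exact (z : N).2

/-- The irreducible characters of `N` of degree divisible by `p`. -/
abbrev Om (p : ℕ) (N : Subgroup G) : Type u := {θ : N → ℂ // IsIrrCharacter N θ ∧ p ∣ charDegree θ}

theorem charDegree_conjFn (N : Subgroup G) [hN : N.Normal] (θ : N → ℂ) (g : G) :
    charDegree (conjFn N θ g) = charDegree θ := by
  simp only [charDegree, conjFn_apply_one]

/-- The action of `G`. -/
@[reducible] noncomputable def omAct (p : ℕ) (N : Subgroup G) [hN : N.Normal] : MulAction G (Om p N) where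
  smul g θ := ⟨conjFn N θ.1 g⁻¹, isIrr_conjFn N θ.2.1 g⁻¹, by rw [charDegree_conjFn]; exact θ.2.2⟩
  one_smul θ := Subtype.ext (by
    show conjFn N θ.1 1⁻¹ = θ.1
    rw [inv_one, conjFn_one])
  mul_smul g h θ := Subtype.ext (by
    show conjFn N θ.1 (g * h)⁻¹ = conjFn N (conjFn N θ.1 h⁻¹) g⁻¹
    rw [mul_inv_rev, conjFn_mul])

/-- The number of characters of degree divisible by `p` bounds the index of the inertia group. -/
theorem index_inertia [Finite G] {p : ℕ} (hn : nSing p G ≤ 1) (N : Subgroup G) [hN : N.Normal]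
    {ω : N → ℂ} (hω : IsIrrCharacter N ω) (hωp : p ∣ charDegree ω) :
    (inertia N ω).index = Nat.card (Om p N) := by
  let act := omAct p N
  have htr : MulAction.IsPretransitive G (Om p N) := by
    constructor
    intro θ φ
    by_contra hcon
    push Not at hcon
    have h2 := two_le N φ.2.1 θ.2.1 φ.2.2 θ.2.2 (fun g hg => hcon g⁻¹ (Subtype.ext (by
      show conjFn N θ.1 g⁻¹⁻¹ = φ.1
      rw [inv_inv]; exact hg)))
    omega
  have h1 := MulAction.index_stabilizer_of_transitive G (⟨ω, hω, hωp⟩ : Om p N)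
  rw [← h1]
  congr 1
  ext g
  rw [MulAction.mem_stabilizer_iff]
  constructor
  · intro hg
    have h2 : g⁻¹ ∈ inertia N ω := inv_mem hg
    exact Subtype.ext h2
  · intro hg
    have h2 : conjFn N ω g⁻¹ = ω := congrArg Subtype.val hg
    have h3 : g⁻¹ ∈ inertia N ω := h2
    exact inv_mem_iff.1 h3

/-- The inertia groups of the other characters have index prime to `p`. -/
theorem index_inertia_other [Finite G] {p : ℕ} (hn : nSing p G ≤ 1) (N : Subgroup G) [hN : N.Normal]
    {ω : N → ℂ} (hω : IsIrrCharacter N ω) (hωp : p ∣ charDegree ω) {θ : N → ℂ}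
    (hθ : IsIrrCharacter N θ) (hθp : ¬ p ∣ charDegree θ) : ¬ p ∣ (inertia N θ).index := by
  classical
  have : Fintype G := Fintype.ofFinite G
  have : Fintype N := Fintype.ofFinite _
  have : Fintype (inertia N θ) := Fintype.ofFinite _
  obtain ⟨χ, hχ⟩ := Blocks.Over.exists_over N ⟨θ, hθ⟩
  obtain ⟨χ', hχ'⟩ := Blocks.Over.exists_over N ⟨ω, hω⟩
  obtain ⟨ψ, hψ, hψθ, hψχ⟩ := exists_ind hθ (fun g => Iff.rfl)
    (le_inertia (isIrr_isClassFunction hθ)) χ.2 hχ
  have h1 : charDegree (χ : G → ℂ) = (inertia N θ).index * charDegree ψ := by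
    apply charDegree_eq_of
    rw [hψχ, indFun_apply_one, charDegree_eq hψ, Nat.cast_mul]
  intro hdiv
  have h2 := two_le_nSing (p := p) χ.2 χ'.2 (by rw [h1]; exact Dvd.dvd.mul_right hdiv _)
    (hωp.trans (degree_dvd_of_over N hω χ'.2 hχ')) (by
      intro h
      have hχ'' : classInner (res N (χ : G → ℂ)) ω ≠ 0 := by rw [h]; exact hχ'
      obtain ⟨g, hg⟩ := conj_of_over N hθ hω χ.2 hχ hχ''
      apply hθp
      rw [← hg, charDegree_conjFn]
      exact hωp)
  omega

/-- An element of a Sylow `p`-subgroup modulo `N` moving the characters of degree divisible by `p` and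
fixing the others. -/
theorem exists_moving [Finite G] {p : ℕ} [hp : Fact p.Prime] (hIM : AllIM.{u} p) (hn : nSing p G ≤ 1)
    (N : Subgroup G) [hN : N.Normal] (hq : nSing p (G ⧸ N) = 0)
    {ω : N → ℂ} (hω : IsIrrCharacter N ω) (hωp : p ∣ charDegree ω) (hdvd : p ∣ Nat.card (Om p N)) :
    ∃ g : G, g ∉ inertia N ω ∧ ∀ θ : N → ℂ, IsIrrCharacter N θ → ¬ p ∣ charDegree θ → g ∈ inertia N θ := by
  have h1 := card_sylow_of_IM hIM hq
  obtain ⟨P⟩ : Nonempty (Sylow p (G ⧸ N)) := inferInstance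
  have hsub : ∀ Q : Sylow p (G ⧸ N), Q = P := by
    intro Q
    have : Subsingleton (Sylow p (G ⧸ N)) := (Finite.card_le_one_iff_subsingleton).1 h1.le
    exact Subsingleton.elim _ _
  have hidx : ∀ θ : N → ℂ, IsIrrCharacter N θ →
      ((inertia N θ).map (QuotientGroup.mk' N)).index = (inertia N θ).index := by
    intro θ hθ
    have h2 : N ≤ inertia N θ := le_inertia (isIrr_isClassFunction hθ)
    rw [Subgroup.index_map, QuotientGroup.ker_mk', sup_eq_left.2 h2,
      MonoidHom.range_eq_top.2 (QuotientGroup.mk'_surjective N), Subgroup.index_top, mul_one]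
  have hnot : ¬ (P : Subgroup (G ⧸ N)) ≤ (inertia N ω).map (QuotientGroup.mk' N) := by
    intro hle
    have h2 : ((inertia N ω).map (QuotientGroup.mk' N)).index ∣ (P : Subgroup (G ⧸ N)).index :=
      Subgroup.index_dvd_of_le hle
    rw [hidx ω hω, index_inertia hn N hω hωp] at h2
    exact P.not_dvd_index (hdvd.trans h2)
  obtain ⟨y, hyP, hy⟩ := Set.not_subset.1 hnot
  obtain ⟨g, rfl⟩ := QuotientGroup.mk'_surjective N y
  refine ⟨g, fun hg => hy ⟨g, hg, rfl⟩, ?_⟩
  intro θ hθ hθp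
  have h2 := index_inertia_other hn N hω hωp hθ hθp
  rw [← hidx θ hθ] at h2
  obtain ⟨Q, hQ⟩ := exists_sylow_le_of_index ((inertia N θ).map (QuotientGroup.mk' N)) h2
  rw [hsub Q] at hQ
  obtain ⟨t, ht, htg⟩ := hQ hyP
  have h3 : t⁻¹ * g ∈ N := QuotientGroup.eq.1 htg
  have h4 : t⁻¹ * g ∈ inertia N θ := le_inertia (isIrr_isClassFunction hθ) h3
  have h5 : g = t * (t⁻¹ * g) := by group
  rw [h5]
  exact mul_mem ht h4

/-- The degrees of the irreducible characters of `SL(2,8)`. -/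
theorem sl28 {N : Type*} [Group N] [Finite N] {F : Type*} [Field F] [Fintype F] [CharP F 2]
    (hF : Fintype.card F = 8) (e : N ≃* Matrix.SpecialLinearGroup (Fin 2) F) {θ : N → ℂ}
    (hθ : IsIrrCharacter N θ) : charDegree θ = 1 ∨ charDegree θ = 7 ∨ charDegree θ = 8 ∨
      charDegree θ = 9 := by
  have h := (S2300.result (F := F)).1 (θ ∘ e.symm.toMonoidHom) (isIrr_comp _ e.symm.surjective hθ)
  have h1 : (θ ∘ e.symm.toMonoidHom) 1 = (charDegree θ : ℂ) := by
    rw [← charDegree_eq hθ]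
    show θ (e.symm 1) = θ 1
    rw [map_one]
  rw [h1, hF] at h
  rcases h with h | h | h | h
  · left; exact_mod_cast h
  · right; left
    have h2 : ((8 : ℕ) : ℂ) - 1 = ((7 : ℕ) : ℂ) := by norm_num
    rw [h2] at h; exact_mod_cast h
  · right; right; left
    exact_mod_cast h
  · right; right; right
    have h2 : ((8 : ℕ) : ℂ) + 1 = ((9 : ℕ) : ℂ) := by norm_num
    rw [h2] at h; exact_mod_cast h

/-- `SL(2,8)` has three irreducible characters of degree divisible by 3. -/
theorem card_Om_sl28 (N : Subgroup G) [Finite N] {F : Type*} [Field F] [Fintype F] [CharP F 2]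
    (hF : Fintype.card F = 8) (e : N ≃* Matrix.SpecialLinearGroup (Fin 2) F) :
    Nat.card (Om 3 N) = 3 := by
  have h := ((S2300.result (F := F)).2 (by rw [hF]; norm_num)).2.2.1
  rw [hF] at h
  have h8 : ((8 : ℕ) : ℂ) + 1 = ((9 : ℕ) : ℂ) := by norm_num
  rw [h8, show (8 - 2) / 2 = 3 by norm_num] at h
  refine Eq.trans ?_ h
  have hdeg : ∀ θ : N → ℂ, IsIrrCharacter N θ → (3 ∣ charDegree θ ↔ charDegree θ = 9) := by
    intro θ hθ
    rcases sl28 hF e hθ with h | h | h | h <;> rw [h] <;> norm_num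
  have hval : ∀ θ : N → ℂ, IsIrrCharacter N θ → (charDegree θ = 9 ↔ θ 1 = ((9 : ℕ) : ℂ)) := by
    intro θ hθ
    rw [charDegree_eq hθ, Nat.cast_inj]
  refine Nat.card_congr
    { toFun := fun θ => ⟨⟨θ.1 ∘ e.symm.toMonoidHom, isIrr_comp _ e.symm.surjective θ.2.1⟩, by
        show θ.1 (e.symm 1) = _
        rw [map_one]
        exact (hval _ θ.2.1).1 ((hdeg _ θ.2.1).1 θ.2.2)⟩
      invFun := fun χ => ⟨(χ.1 : Matrix.SpecialLinearGroup (Fin 2) F → ℂ) ∘ e.toMonoidHom,
        isIrr_comp _ e.surjective χ.1.2, by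
        have h1 := isIrr_comp e.toMonoidHom e.surjective χ.1.2
        rw [hdeg _ h1, hval _ h1]
        show (χ.1 : Matrix.SpecialLinearGroup (Fin 2) F → ℂ) (e 1) = _
        rw [map_one]
        exact χ.2⟩
      left_inv := fun θ => Subtype.ext (by
        funext x
        show θ.1 (e.symm (e x)) = θ.1 x
        rw [e.symm_apply_apply])
      right_inv := fun χ => Subtype.ext (Subtype.ext (by
        funext x
        show (χ.1 : Matrix.SpecialLinearGroup (Fin 2) F → ℂ) (e (e.symm x)) =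
          (χ.1 : Matrix.SpecialLinearGroup (Fin 2) F → ℂ) x
        rw [e.apply_symm_apply])) }

/-- `N = PSL(2,8)`. -/
theorem l28_false [Finite G] (hIM : AllIM.{u} 3) (hn : nSing 3 G ≤ 1) (N : Subgroup G) [hN : N.Normal]
    [hs : IsSimpleGroup N] (hC : Subgroup.centralizer (N : Set G) = ⊥) (hq : nSing 3 (G ⧸ N) = 0)
    (h : L28 N) : False := by
  obtain ⟨F, _, _, hF, ⟨e⟩⟩ := h
  have hF2 : Fact (Nat.Prime 2) := ⟨Nat.prime_two⟩
  have hF3 : Fact (Nat.Prime 3) := ⟨Nat.prime_three⟩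
  have hcp : CharP F 2 := charP_of_card_eq_prime_pow (p := 2) (f := 3) (by
    rw [hF]; norm_num)
  obtain ⟨i⟩ := psl_equiv_sl (F := F)
  have e' : N ≃* Matrix.SpecialLinearGroup (Fin 2) F := e.trans i
  have hOm := card_Om_sl28 N hF e'
  have hcardN : Nat.card N = 504 := by
    rw [Nat.card_congr e'.toEquiv, ClassicalGeometry.PSL2Basic.card_SL2, hF]
    norm_num
  have hll : LL 2 8 N := by
    have h1 : LL 2 (Fintype.card F) N := ll_PSL.of_equiv e.symm
    rwa [hF] at h1
  -- an element of order 9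
  obtain ⟨a, ha⟩ := H710.SLTwo.exists_order_add_one F
  obtain ⟨x, hx⟩ : ∃ x : N, orderOf x = 9 := by
    refine ⟨e'.symm a, ?_⟩
    rw [MulEquiv.orderOf_eq, ha, hF]
  -- a moving element
  have hpos : Nonempty (Om 3 N) := by
    by_contra h
    rw [not_nonempty_iff] at h
    rw [Nat.card_of_isEmpty] at hOm
    omega
  obtain ⟨ω, hω, hωp⟩ := hpos
  obtain ⟨g, hg, hgθ⟩ := exists_moving hIM hn N hq hω hωp (by rw [hOm])
  -- conjugation by `g` fixes the class of `x`
  have hfix : IsConj (MulAut.conjNormal g x : N) x := by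
    rw [Characters.GaloisIrr.isConj_iff_forall_irr]
    intro θ hθ
    by_cases hd : 3 ∣ charDegree θ
    · have h9 : charDegree θ = 9 := by
        rcases sl28 hF e' hθ with h | h | h | h <;> rw [h] at hd ⊢ <;> revert hd <;> norm_num
      obtain ⟨m, ρ, hρ, rfl⟩ := hθ
      have hfr : 3 ^ 2 ∣ Module.finrank ℂ (Fin m → ℂ) := by
        have h1 : (Module.finrank ℂ (Fin m → ℂ) : ℂ) = ((9 : ℕ) : ℂ) := by
          rw [← h9, ← charDegree_eq ⟨m, ρ, hρ, rfl⟩, Representation.char_one]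
        have h2 : Module.finrank ℂ (Fin m → ℂ) = 9 := by exact_mod_cast h1
        rw [h2]; norm_num
      have hvan : ∀ y : N, orderOf y = 9 → ρ.character y = 0 := fun y hy =>
        S0165.result ρ 3 2 Nat.prime_three (by rw [hcardN]; norm_num) (by rw [hcardN]; norm_num) hfr y
          (by rw [hy]; norm_num)
      rw [hvan x hx, hvan _ (by rw [MulEquiv.orderOf_eq, hx])]
    · have h1 : conjFn N θ g = θ := hgθ θ hθ hd
      have h2 := congrFun h1 x
      rw [conjFn_apply] at h2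
      rw [← h2]
      congr 1
  obtain ⟨n, hn'⟩ := isConj_iff.1 hfix
  have hcomm : (n * g : G) * x = x * (n * g) := by
    have h1 : (n : G) * (g * x * g⁻¹) * (n : G)⁻¹ = x := by
      have h2 := congrArg Subtype.val hn'
      simp only [Subgroup.coe_mul, MulAut.conjNormal_apply, Subgroup.coe_inv] at h2
      exact h2
    calc (n * g : G) * x = (n : G) * (g * x * g⁻¹) * (n : G)⁻¹ * (n * g) := by group
      _ = x * (n * g) := by rw [h1]
  have hmem := mem_of_comm (p := 2) (m := 9) N hC hll.card (by norm_num) hx (by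
    intro d hd hd'
    rw [hcardN] at hd'
    have h1 : d ∣ 56 := by
      have h2 : 9 * d ∣ 9 * 56 := hd'
      exact Nat.dvd_of_mul_dvd_mul_left (by norm_num) h2
    have h2 : d ∣ Nat.gcd 9 56 := Nat.dvd_gcd hd h1
    have h3 : Nat.gcd 9 56 = 1 := by norm_num
    rw [h3] at h2
    exact Nat.dvd_one.1 h2) hcomm
  apply hg
  have h1 : g ∈ N := by
    have h2 : g = (n : G)⁻¹ * (n * g) := by group
    rw [h2]
    exact mul_mem (inv_mem n.2) hmem
  exact le_inertia (isIrr_isClassFunction hω) h1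

/-- The conclusion of S4764. -/
def Concl (p : ℕ) (G : Type u) [Group G] : Prop :=
  (∃ (F : Type) (_ : Field F) (_ : Fintype F), CharP F p ∧ 4 ≤ Fintype.card F ∧
    (Nonempty (G ≃* Matrix.ProjectiveSpecialLinearGroup (Fin 2) F) ∨
      Nonempty (G ≃* Matrix.SpecialLinearGroup (Fin 2) F) ∨
      ∃ (V : Subgroup G) (_ : V.Normal), Cfsg.IsElementaryAbelian p V ∧
        Nat.card V = Fintype.card F ^ 2 ∧
        Nonempty (G ⧸ V ≃* Matrix.SpecialLinearGroup (Fin 2) F))) ∨
    (p = 3 ∧ Nonempty (G ≃* Equiv.Perm (Fin 5))) ∨ (p = 3 ∧ Cfsg.IsM11 G)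

/-- **Almost simple groups.** -/
theorem almost_simple [Finite G] {p : ℕ} [hp : Fact p.Prime] (hIM : AllIM.{u} p) (hn : nSing p G ≤ 1)
    (N : Subgroup G) [hN : N.Normal] [hs : IsSimpleGroup N]
    (hC : Subgroup.centralizer (N : Set G) = ⊥) (hq : nSing p (G ⧸ N) = 0) (h : TwoOr p N) :
    Concl p G := by
  rcases h with ⟨α, β, hα, hβ, hne⟩ | ⟨F, _, _, hF, h4, ⟨e⟩⟩ | ⟨rfl, h | ⟨⟨e⟩⟩ | h⟩
  · exfalso
    have h2 := two_le N β.2 α.2 hβ hα (fun g hg => by
      obtain ⟨s, hs⟩ := hne (MulAut.conjNormal g)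
      apply hs
      have h1 := congrFun hg s
      rw [← h1, conjFn_apply]
      congr 1)
    omega
  · have htop := defL2_top hn N e
    subst htop
    exact Or.inl ⟨F, _, _, hF, h4, Or.inl ⟨Subgroup.topEquiv.symm.trans e⟩⟩
  · exact Or.inr (Or.inr ⟨rfl, m11 N hC h⟩)
  · exact Or.inr (Or.inl ⟨rfl, a5 hn N hC e⟩)
  · exact (l28_false hIM hn N hC hq h).elim

end Cfsg.Agent.H596.OneAS
end

private theorem dce_13f591c08354 : _root_.True := by
  try have : _root_.True := by simp only [_root_.Sylow.comapOfInjective.congr_simp]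
  exact _root_.True.intro
end
end
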